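import Mathlib
import Cfsg.Prelude.Def_Solvable

/-!
Basic facts used by the Hall / Sylow-number area: prime power parts of elements, `O_p`,
nilpotency of the Fitting subgroup, and powers by the index inside nilpotent normal subgroups.
-/

open scoped Pointwise

set_option linter.style.haveILetI false

namespace CfsgLib.HallGen

variable {G : Type*} [Group G]

/-- An element lies in a subgroup as soon as all its powers of prime power order do. -/
theorem mem_of_primePow_parts [Finite G] (K : Subgroup G) (x : G)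
    (h : ∀ y ∈ Subgroup.zpowers x, ∀ p k : ℕ, p.Prime → orderOf y = p ^ k → y ∈ K) : x ∈ K := by
  induction hn : orderOf x using Nat.strong_induction_on generalizing x with
  | _ n ih =>
    subst hn
    by_cases h1 : orderOf x = 1
    · rw [orderOf_eq_one_iff.1 h1]; exact K.one_mem
    obtain ⟨q, hq, hqn⟩ := Nat.exists_prime_and_dvd h1
    obtain ⟨k, m, hm, hkm⟩ := Nat.exists_eq_pow_mul_and_not_dvd (orderOf_pos x).ne' q hq.ne_one
    by_cases hm1 : m = 1
    · exact h x (Subgroup.mem_zpowers x) q k hq (by rw [hkm, hm1, mul_one])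
    have hm0 : m ≠ 0 := fun h0 => hm (h0 ▸ dvd_zero q)
    have hk0 : k ≠ 0 := by
      rintro rfl
      rw [pow_zero, one_mul] at hkm
      exact hm (hkm ▸ hqn)
    have hco : Nat.Coprime (q ^ k) m := ((hq.coprime_iff_not_dvd).2 hm).pow_left k
    have ho1 : orderOf (x ^ m) = q ^ k := by
      rw [orderOf_pow' x hm0, hkm, Nat.gcd_eq_right (dvd_mul_left m _),
        Nat.mul_div_cancel _ (Nat.pos_of_ne_zero hm0)]
    have ho2 : orderOf (x ^ (q ^ k)) = m := by
      rw [orderOf_pow' x (pow_ne_zero _ hq.ne_zero), hkm, Nat.gcd_eq_right (dvd_mul_right _ m),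
        Nat.mul_div_cancel_left _ (pow_pos hq.pos k)]
    have hxm : x ^ m ∈ K := h _ (pow_mem (Subgroup.mem_zpowers x) m) q k hq ho1
    have hxq : x ^ (q ^ k) ∈ K := by
      refine ih m ?_ (x ^ (q ^ k)) (fun y hy => h y (Subgroup.zpowers_le.2
        (pow_mem (Subgroup.mem_zpowers x) _) hy)) ho2
      rw [hkm]
      exact lt_mul_of_one_lt_left (Nat.pos_of_ne_zero hm0) (Nat.one_lt_pow hk0 hq.one_lt)
    have : x = (x ^ q ^ k) ^ Nat.gcdA (q ^ k) m * (x ^ m) ^ Nat.gcdB (q ^ k) m := by
      rw [← zpow_natCast x (q ^ k), ← zpow_natCast x m, ← zpow_mul, ← zpow_mul, ← zpow_add,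
        ← Nat.gcd_eq_gcd_ab, hco.gcd_eq_one]
      simp
    rw [this]
    exact K.mul_mem (K.zpow_mem hxq _) (K.zpow_mem hxm _)

/-- A `p`-element. -/
theorem isPGroup_zpowers {x : G} {p k : ℕ} (hx : orderOf x = p ^ k) :
    IsPGroup p (Subgroup.zpowers x) :=
  IsPGroup.of_card (n := k) (by rw [Nat.card_zpowers, hx])

theorem pCore_le_sylow {p : ℕ} (P : Sylow p G) : Cfsg.pCore p G ≤ P :=
  sSup_le fun N hN => by
    haveI := hN.1
    exact IsPGroup.le_sylow_of_normal hN.2 P

theorem isPGroup_pCore (p : ℕ) : IsPGroup p (Cfsg.pCore p G) :=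
  Sylow.sSup_of_normal _ (fun _ h => h.2) (fun _ h => h.1)

theorem pCore_normal' (p : ℕ) : (Cfsg.pCore p G).Normal :=
  Subgroup.sSup_normal _ (fun _ h => h.1)

/-- A `p`-element lying in every Sylow `p`-subgroup lies in `O_p`. -/
theorem mem_pCore_of_forall_sylow (p : ℕ) (x : G) (h : ∀ P : Sylow p G, x ∈ P) :
    x ∈ Cfsg.pCore p G := by
  let P : Sylow p G := default
  have hx : x ∈ (P : Subgroup G).normalCore := by
    intro g
    have h2 := h (g⁻¹ • P)
    rw [← SetLike.mem_coe] at h2
    change x ∈ MulAut.conj g⁻¹ • (P : Subgroup G) at h2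
    rw [Subgroup.mem_pointwise_smul_iff_inv_smul_mem] at h2
    simpa [MulAut.conj] using h2
  have hle : (P : Subgroup G).normalCore ≤ Cfsg.pCore p G :=
    le_sSup ⟨inferInstance, P.isPGroup'.to_le (Subgroup.normalCore_le _)⟩
  exact hle hx

/-- A normal nilpotent subgroup has all its `p`-elements in `O_p`. -/
theorem mem_pCore_of_mem_nilpotent_normal [Finite G] {p k : ℕ} [Fact p.Prime] {N : Subgroup G}
    (hN : N.Normal) (hnil : Group.IsNilpotent N) {y : G} (hy : y ∈ N) (ho : orderOf y = p ^ k) :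
    y ∈ Cfsg.pCore p G := by
  haveI := hN
  haveI := hnil
  have hp : IsPGroup p (Subgroup.zpowers (⟨y, hy⟩ : N)) :=
    isPGroup_zpowers (k := k) (by rw [← ho]; exact (Subgroup.orderOf_coe ⟨y, hy⟩).symm)
  obtain ⟨P, hP⟩ := hp.exists_le_sylow
  haveI : (P : Subgroup N).Characteristic := Sylow.characteristic_of_normal P inferInstance
  have hle : (P : Subgroup N).map N.subtype ≤ Cfsg.pCore p G :=
    le_sSup ⟨inferInstance, P.isPGroup'.map _⟩
  exact hle ⟨⟨y, hy⟩, hP (Subgroup.mem_zpowers _), rfl⟩

/-- The Fitting subgroup of a finite group is nilpotent. -/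
theorem isNilpotent_fittingSubgroup [Finite G] : Group.IsNilpotent (Cfsg.fittingSubgroup G) := by
  classical
  let I := {p : ℕ // p ∈ (Nat.card G).primeFactors}
  let C : I → Subgroup G := fun p => Cfsg.pCore (p : ℕ) G
  haveI hfact : ∀ p : I, Fact (p : ℕ).Prime := fun p => ⟨Nat.prime_of_mem_primeFactors p.2⟩
  have hcomm : Pairwise fun i j : I => ∀ x y : G, x ∈ C i → y ∈ C j → Commute x y := by
    intro i j hij
    refine Subgroup.commute_of_normal_of_disjoint _ _ (pCore_normal' _) (pCore_normal' _) ?_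
    exact IsPGroup.disjoint_of_ne _ _ (fun h => hij (Subtype.ext h)) _ _ (isPGroup_pCore _) (isPGroup_pCore _)
  have hrange : (Subgroup.noncommPiCoprod hcomm).range = ⨆ i, C i :=
    Subgroup.noncommPiCoprod_range
  haveI : ∀ i, Group.IsNilpotent (C i) := fun i => IsPGroup.isNilpotent (isPGroup_pCore _)
  haveI hnil : Group.IsNilpotent (Subgroup.noncommPiCoprod hcomm).range :=
    Group.nilpotent_of_surjective _ (MonoidHom.rangeRestrict_surjective _)
  have hle : Cfsg.fittingSubgroup G ≤ (Subgroup.noncommPiCoprod hcomm).range := by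
    refine sSup_le fun N hN x hx => mem_of_primePow_parts _ x fun y hy p k hp ho => ?_
    by_cases hk : k = 0
    · subst hk
      rw [pow_zero, orderOf_eq_one_iff] at ho
      rw [ho]; exact one_mem _
    haveI := Fact.mk hp
    have hpI : p ∈ (Nat.card G).primeFactors := Nat.mem_primeFactors.2
      ⟨hp, ((dvd_pow_self p hk).trans (ho ▸ dvd_rfl)).trans (orderOf_dvd_natCard y), Nat.card_pos.ne'⟩
    rw [hrange]
    exact le_iSup C ⟨p, hpI⟩ (mem_pCore_of_mem_nilpotent_normal hN.1 hN.2
      ((Subgroup.zpowers_le.2 hx) hy) ho)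
  exact Group.nilpotent_of_mulEquiv (Subgroup.subgroupOfEquivOfLe hle)

theorem fittingSubgroup_normal' : (Cfsg.fittingSubgroup G).Normal :=
  Subgroup.sSup_normal _ (fun _ h => h.1)

theorem pCore_le_fittingSubgroup [Finite G] (p : ℕ) [Fact p.Prime] :
    Cfsg.pCore p G ≤ Cfsg.fittingSubgroup G :=
  le_sSup ⟨pCore_normal' p, (isPGroup_pCore p).isNilpotent⟩

/-- In a finite nilpotent group, `x ^ [G : H]` lies in `H`. -/
theorem pow_index_mem_of_isNilpotent [Finite G] [Group.IsNilpotent G] :
    ∀ (H : Subgroup G) (x : G), x ^ H.index ∈ H := by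
  intro H
  induction hn : H.index using Nat.strong_induction_on generalizing H with
  | _ n ih =>
    intro x
    subst hn
    by_cases hH : H = ⊤
    · simp [hH]
    have hlt : H < Subgroup.normalizer (H : Set G) := normalizerCondition_of_isNilpotent H (lt_top_iff_ne_top.2 hH)
    set N := Subgroup.normalizer (H : Set G) with hN
    have hmul : H.relIndex N * N.index = H.index := Subgroup.relIndex_mul_index hlt.le
    have h1 : H.relIndex N ≠ 1 := fun h => hlt.not_ge (Subgroup.relIndex_eq_one.1 h)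
    have hN0 : N.index ≠ 0 := Subgroup.index_ne_zero_of_finite
    have hlt' : N.index < H.index := by
      have hH0 : H.index ≠ 0 := Subgroup.index_ne_zero_of_finite
      have : 1 < H.relIndex N := by
        rcases Nat.lt_trichotomy (H.relIndex N) 1 with h | h | h
        · exact absurd (by rw [← hmul, Nat.lt_one_iff.1 h, zero_mul]) hH0
        · exact absurd h h1
        · exact h
      calc N.index = 1 * N.index := (one_mul _).symm
        _ < H.relIndex N * N.index := Nat.mul_lt_mul_of_pos_right this (Nat.pos_of_ne_zero hN0)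
        _ = H.index := hmul
    have hx : x ^ N.index ∈ N := ih _ hlt' N rfl x
    have h2 := Subgroup.pow_index_mem (H.subgroupOf N) ⟨_, hx⟩
    rw [Subgroup.mem_subgroupOf] at h2
    rw [← hmul, mul_comm, pow_mul]
    exact h2

/-- In a normal nilpotent subgroup `N`, `x ^ [G : H]` lies in `H`. -/
theorem pow_index_mem_of_mem_nilpotent_normal [Finite G] {N : Subgroup G} [N.Normal]
    [Group.IsNilpotent N] {x : G} (hx : x ∈ N) (H : Subgroup G) : x ^ H.index ∈ H := by
  have h1 := pow_index_mem_of_isNilpotent (H.subgroupOf N) ⟨x, hx⟩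
  rw [Subgroup.mem_subgroupOf] at h1
  have h2 : (H.subgroupOf N).index ∣ H.index := by
    change H.relIndex N ∣ H.index
    have h3 : H.relIndex (N ⊔ H) ∣ H.index := Dvd.intro _ (Subgroup.relIndex_mul_index le_sup_right)
    have h4 : H.relIndex N ∣ H.relIndex (N ⊔ H) := by
      have e := Subgroup.card_mul_index (H.subgroupOf N)
      have : (H ⊓ N).relIndex (N ⊔ H) = H.relIndex N * N.relIndex (N ⊔ H) := by
        rw [← Subgroup.inf_relIndex_right H N, Subgroup.relIndex_mul_relIndex _ _ _ inf_le_right le_sup_left]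
      have h5 : (H ⊓ N).relIndex (N ⊔ H) = N.relIndex H * H.relIndex (N ⊔ H) := by
        rw [← Subgroup.inf_relIndex_right N H, inf_comm H N, Subgroup.relIndex_mul_relIndex _ _ _ inf_le_right le_sup_right]
      have h6 : N.relIndex (N ⊔ H) = N.relIndex H := by rw [sup_comm, Subgroup.relIndex_sup_right]
      have h7 : N.relIndex H ≠ 0 := Subgroup.index_ne_zero_of_finite
      rw [h6, h5, mul_comm (H.relIndex N)] at this
      exact dvd_of_eq (Nat.eq_of_mul_eq_mul_left (Nat.pos_of_ne_zero h7) this).symm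
    exact h4.trans h3
  obtain ⟨c, hc⟩ := h2
  rw [hc, pow_mul]
  exact H.pow_mem h1 c

end CfsgLib.HallGen
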