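import Mathlib
import Cfsg.Prelude.Def_Solvable
import Cfsg.Agent.Lib.HallGen.Basic

/-!
Index divisibility over a normal subgroup, maximal subgroups of solvable groups, derangements,
Sylow numbers of quotients by central subgroups and of normal subgroups of `p'`-index.
-/

set_option linter.style.haveILetI false

open scoped Pointwise

namespace CfsgLib.HallGen

variable {G : Type*} [Group G]

/-- For `A` normal, `[A : H ∩ A]` divides `[G : H]`. -/
theorem relIndex_dvd_index_right [Finite G] (H A : Subgroup G) [A.Normal] : H.relIndex A ∣ H.index := by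
  have h1 : (H ⊓ A).relIndex (A ⊔ H) = H.relIndex A * A.relIndex (A ⊔ H) := by
    rw [← Subgroup.inf_relIndex_right H A, Subgroup.relIndex_mul_relIndex _ _ _ inf_le_right le_sup_left]
  have h2 : (H ⊓ A).relIndex (A ⊔ H) = A.relIndex H * H.relIndex (A ⊔ H) := by
    rw [← Subgroup.inf_relIndex_right A H, inf_comm H A,
      Subgroup.relIndex_mul_relIndex _ _ _ inf_le_right le_sup_right]
  have h6 : A.relIndex (A ⊔ H) = A.relIndex H := by rw [sup_comm, Subgroup.relIndex_sup_right]
  have h7 : A.relIndex H ≠ 0 := Subgroup.index_ne_zero_of_finite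
  rw [h6, h2, mul_comm (H.relIndex A)] at h1
  rw [← Nat.eq_of_mul_eq_mul_left (Nat.pos_of_ne_zero h7) h1]
  exact Dvd.intro _ (Subgroup.relIndex_mul_index le_sup_right)

/-- A nontrivial finite solvable group has a nontrivial `O_p` for some prime `p`. -/
theorem exists_pCore_ne_bot [Finite G] [Nontrivial G] (hG : Group.IsSolvable G) :
    ∃ p : ℕ, p.Prime ∧ Cfsg.pCore p G ≠ ⊥ := by
  classical
  obtain ⟨n, hn⟩ := hG.solvable
  have hex : ∃ m, derivedSeries G m = ⊥ := ⟨n, hn⟩
  set m := Nat.find hex with hm
  have hm0 : m ≠ 0 := by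
    intro h0
    have := Nat.find_spec hex
    rw [← hm, h0, derivedSeries_zero] at this
    exact top_ne_bot this
  obtain ⟨k, hk⟩ := Nat.exists_eq_succ_of_ne_zero hm0
  have hA : derivedSeries G k ≠ ⊥ := Nat.find_min hex (show k < Nat.find hex by omega)
  set A := derivedSeries G k with hAdef
  have hcomm : ⁅A, A⁆ = ⊥ := by
    have := Nat.find_spec hex
    rwa [← hm, hk, derivedSeries_succ] at this
  haveI : Group.IsNilpotent A := by
    have hab : IsMulCommutative A := by
      refine ⟨⟨fun a b => Subtype.ext ?_⟩⟩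
      exact Subgroup.commutator_eq_bot_iff_le_centralizer.1 hcomm b.2 a a.2 |>.symm |> fun h => h.symm
    letI : CommGroup A := { (inferInstance : Group A) with mul_comm := fun a b => hab.1.1 a b }
    infer_instance
  obtain ⟨p, hp, hpdvd⟩ := Nat.exists_prime_and_dvd
    (show Nat.card A ≠ 1 from fun h => hA (Subgroup.eq_bot_of_card_eq A h))
  haveI := Fact.mk hp
  obtain ⟨a, ha⟩ := exists_prime_orderOf_dvd_card' p hpdvd
  refine ⟨p, hp, fun hbot => ?_⟩
  have hmem : (a : G) ∈ Cfsg.pCore p G :=
    mem_pCore_of_mem_nilpotent_normal (k := 1) (derivedSeries_normal G k) inferInstance a.2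
      (by rw [Subgroup.orderOf_coe, ha, pow_one])
  rw [hbot, Subgroup.mem_bot] at hmem
  rw [show a = 1 from Subtype.ext hmem, orderOf_one] at ha
  exact hp.one_lt.ne ha

/-- In a finite solvable group a maximal subgroup has prime power index. -/
theorem exists_index_eq_prime_pow_of_isCoatom.{u} {G : Type u} [Group G] [Finite G]
    (hG : Group.IsSolvable G) (M : Subgroup G) (hM : IsCoatom M) :
    ∃ p k : ℕ, p.Prime ∧ M.index = p ^ k := by
  induction hn : Nat.card G using Nat.strong_induction_on generalizing G with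
  | _ n ih =>
    subst hn
    haveI : Nontrivial G := by
      rcases subsingleton_or_nontrivial G with h | h
      · exact absurd (Subsingleton.elim M ⊤) hM.1
      · exact h
    obtain ⟨p, hp, hN⟩ := exists_pCore_ne_bot hG
    haveI := Fact.mk hp
    set N := Cfsg.pCore p G
    haveI : N.Normal := pCore_normal' p
    by_cases hle : N ≤ M
    · have hlt : Nat.card (G ⧸ N) < Nat.card G := by
        rw [← Subgroup.index_eq_card, ← N.card_mul_index]
        refine lt_mul_of_one_lt_left (Nat.pos_of_ne_zero Subgroup.index_ne_zero_of_finite) ?_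
        exact Subgroup.one_lt_card_iff_ne_bot N |>.2 hN
      have hsurj := QuotientGroup.mk'_surjective N
      have hc : (M.map (QuotientGroup.mk' N)).comap (QuotientGroup.mk' N) = M := by
        rw [Subgroup.comap_map_eq, QuotientGroup.ker_mk', sup_eq_left.2 hle]
      have hM' : IsCoatom (M.map (QuotientGroup.mk' N)) := by
        refine ⟨fun h => hM.1 ?_, fun L hL => ?_⟩
        · rw [← hc, h, Subgroup.comap_top]
        · have h2 := hM.2 (L.comap (QuotientGroup.mk' N))
            (hc ▸ (Subgroup.comap_lt_comap_of_surjective hsurj).2 hL)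
          rw [← Subgroup.map_comap_eq_self_of_surjective hsurj L, h2,
            Subgroup.map_top_of_surjective _ hsurj]
      haveI := hG
      obtain ⟨q, k, hq, hk⟩ := ih _ hlt inferInstance _ hM' rfl
      refine ⟨q, k, hq, ?_⟩
      rw [← hk, ← hc, Subgroup.index_comap_of_surjective _ hsurj, hc]
    · have htop : M ⊔ N = ⊤ := hM.2 _ (lt_of_le_of_ne le_sup_left fun h => hle (h ▸ le_sup_right))
      have h1 : M.index ∣ Nat.card N := by
        have h2 : (M ⊓ N).index = M.relIndex N * N.index := by
          rw [← Subgroup.inf_relIndex_right, Subgroup.relIndex_mul_index inf_le_right]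
        have h3 : (M ⊓ N).index = N.relIndex M * M.index := by
          rw [inf_comm, ← Subgroup.inf_relIndex_right N M, Subgroup.relIndex_mul_index inf_le_right]
        have h4 : N.relIndex M = N.index := by
          rw [← Subgroup.relIndex_sup_right, htop, Subgroup.relIndex_top_right]
        rw [h2, h4, mul_comm] at h3
        rw [← Nat.eq_of_mul_eq_mul_left (Nat.pos_of_ne_zero Subgroup.index_ne_zero_of_finite) h3]
        exact (M.subgroupOf N).index_dvd_card
      obtain ⟨k, hk⟩ := (isPGroup_pCore p).exists_card_eq (G := N)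
      rw [hk] at h1
      obtain ⟨j, -, hj⟩ := (Nat.dvd_prime_pow hp).1 h1
      exact ⟨p, j, hp, hj⟩

/-- A transitive action on at least two points has a fixed-point-free element. -/
theorem exists_derangement (G : Type*) [Group G] [Finite G] (X : Type*) [Finite X] [MulAction G X]
    [MulAction.IsPretransitive G X] (hX : 1 < Nat.card X) : ∃ g : G, ∀ x : X, g • x ≠ x := by
  classical
  haveI := Fintype.ofFinite G
  haveI := Fintype.ofFinite X
  by_contra hne
  push_neg at hne
  haveI : Unique (Quotient (MulAction.orbitRel G X)) := by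
    haveI : Nonempty X := (Finite.card_pos_iff.1 (zero_lt_one.trans hX))
    haveI : Subsingleton (Quotient (MulAction.orbitRel G X)) := ⟨fun a b => by
      induction a using Quotient.inductionOn with | _ a => ?_
      induction b using Quotient.inductionOn with | _ b => ?_
      exact Quotient.sound (MulAction.exists_smul_eq G b a)⟩
    exact uniqueOfSubsingleton ⟦Classical.arbitrary X⟧
  have h := MulAction.sum_card_fixedBy_eq_card_orbits_mul_card_group G X
  rw [Fintype.card_unique, one_mul] at h
  have hlt : ∑ _g : G, 1 < ∑ g : G, Fintype.card (MulAction.fixedBy X g) := by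
    refine Finset.sum_lt_sum (fun g _ => ?_) ⟨1, Finset.mem_univ _, ?_⟩
    · obtain ⟨x, hx⟩ := hne g
      exact Fintype.card_pos_iff.2 ⟨⟨x, hx⟩⟩
    · rw [← Nat.card_eq_fintype_card]
      have : MulAction.fixedBy X (1 : G) = Set.univ := by ext; simp
      rw [this, Nat.card_coe_set_eq, Set.ncard_univ]
      exact hX
  rw [Finset.sum_const, Finset.card_univ, smul_eq_mul, mul_one] at hlt
  refine hlt.ne' ?_
  convert h using 2
/-- A proper subgroup of a finite group misses some element together with all its conjugates. -/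
theorem exists_not_mem_conj [Finite G] (M : Subgroup G) (hM : M ≠ ⊤) :
    ∃ x : G, ∀ g : G, x ∉ MulAut.conj g • M := by
  obtain ⟨x, hx⟩ := exists_derangement G (G ⧸ M) (by
    rw [← Subgroup.index_eq_card]; exact Subgroup.one_lt_index_of_ne_top hM)
  refine ⟨x, fun g hg => hx (g : G ⧸ M) ?_⟩
  rw [Subgroup.mem_pointwise_smul_iff_inv_smul_mem] at hg
  have hg' : g⁻¹ * x * g ∈ M := by simpa [MulAut.smul_def] using hg
  rw [MulAction.Quotient.smul_coe, smul_eq_mul, QuotientGroup.eq]
  have := M.inv_mem hg'
  rwa [show (g⁻¹ * x * g)⁻¹ = (x * g)⁻¹ * g by group] at this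

variable {p : ℕ} [Fact p.Prime]

/-- A normal subgroup of `p'`-index contains every Sylow `p`-subgroup. -/
theorem sylow_le_of_not_dvd_index [Finite G] {H : Subgroup G} [H.Normal] (hp : ¬ p ∣ H.index)
    (P : Sylow p G) : (P : Subgroup G) ≤ H := by
  intro x hx
  obtain ⟨k, hk⟩ := (IsPGroup.iff_orderOf.1 P.isPGroup') ⟨x, hx⟩
  rw [Subgroup.orderOf_mk] at hk
  rw [← QuotientGroup.eq_one_iff (N := H), ← orderOf_eq_one_iff]
  have hd : orderOf (x : G ⧸ H) ∣ p ^ k := (orderOf_map_dvd (QuotientGroup.mk' H) x).trans hk.dvd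
  have he : orderOf (x : G ⧸ H) ∣ H.index := by
    rw [Subgroup.index_eq_card]; exact orderOf_dvd_natCard _
  exact Nat.eq_one_of_dvd_coprimes
    (((Fact.out : p.Prime).coprime_iff_not_dvd.2 hp).pow_left k) hd he

/-- A normal subgroup of `p'`-index has as many Sylow `p`-subgroups as the group. -/
theorem card_sylow_of_not_dvd_index [Finite G] (H : Subgroup G) [H.Normal] (hp : ¬ p ∣ H.index) :
    Nat.card (Sylow p H) = Nat.card (Sylow p G) := by
  refine (Nat.card_congr (Equiv.ofBijective
    (fun P : Sylow p G => P.subtype (sylow_le_of_not_dvd_index hp P)) ⟨?_, ?_⟩)).symm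
  · intro P Q h
    have h' : (P : Subgroup G).subgroupOf H = (Q : Subgroup G).subgroupOf H :=
      congrArg (fun R : Sylow p H => (R : Subgroup H)) h
    exact Sylow.ext (le_antisymm
      (fun x hx => (show (⟨x, sylow_le_of_not_dvd_index hp P hx⟩ : H) ∈ (Q : Subgroup G).subgroupOf H
        from h' ▸ hx))
      (fun x hx => (show (⟨x, sylow_le_of_not_dvd_index hp Q hx⟩ : H) ∈ (P : Subgroup G).subgroupOf H
        from h' ▸ hx)))
  · intro R
    obtain ⟨Q, hQ⟩ := R.exists_comap_subtype_eq
    exact ⟨Q, Sylow.ext hQ⟩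

/-- A central quotient has as many Sylow `p`-subgroups as the group. -/
theorem card_sylow_quotient_of_le_center [Finite G] (Z : Subgroup G) [Z.Normal]
    (hZ : Z ≤ Subgroup.center G) : Nat.card (Sylow p (G ⧸ Z)) = Nat.card (Sylow p G) := by
  let P : Sylow p G := default
  have hsurj := QuotientGroup.mk'_surjective Z
  rw [(P.mapSurjective hsurj).card_eq_index_normalizer, P.card_eq_index_normalizer,
    ← Subgroup.index_comap_of_surjective _ hsurj]
  congr 1
  change (Subgroup.normalizer (((P : Subgroup G).map (QuotientGroup.mk' Z) : Subgroup (G ⧸ Z)) :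
    Set (G ⧸ Z))).comap (QuotientGroup.mk' Z) = _
  rw [Subgroup.comap_normalizer_eq_of_surjective _ hsurj, Subgroup.comap_map_eq,
    QuotientGroup.ker_mk']
  have hZN : Z ≤ Subgroup.normalizer ((P : Subgroup G) : Set G) :=
    hZ.trans (Subgroup.center_le_normalizer _)
  refine le_antisymm (fun g hg => ?_) ?_
  · have hle : MulAut.conj g • (P : Subgroup G) ≤ P := by
      have h1 : MulAut.conj g • (P : Subgroup G) ≤ Subgroup.normalizer ((P : Subgroup G) : Set G) := by
        refine le_trans ?_ (sup_le Subgroup.le_normalizer hZN)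
        rintro _ ⟨x, hx, rfl⟩
        exact (Subgroup.mem_normalizer_iff.1 hg x).1 (Subgroup.mem_sup_left hx)
      have hpg : IsPGroup p (MulAut.conj g • (P : Subgroup G) : Subgroup G) := P.isPGroup'.map _
      have h2 : (MulAut.conj g • (P : Subgroup G)) ⊓ Subgroup.normalizer ((P : Subgroup G) : Set G) =
          (MulAut.conj g • (P : Subgroup G)) ⊓ P := hpg.inf_normalizer_sylow P
      rw [inf_eq_left.2 h1] at h2
      exact inf_eq_left.1 h2.symm
    have heq : MulAut.conj g • (P : Subgroup G) = P :=
      Subgroup.eq_of_le_of_card_ge hle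
        (by rw [Nat.card_congr (Subgroup.equivSMul (MulAut.conj g) (P : Subgroup G)).toEquiv])
    rw [← Sylow.smul_eq_iff_mem_normalizer]
    exact Sylow.ext heq
  · intro g hg
    rw [Subgroup.mem_normalizer_iff]
    intro x
    have key : ∀ g' ∈ Subgroup.normalizer ((P : Subgroup G) : Set G), ∀ y ∈ (P : Subgroup G) ⊔ Z,
        g' * y * g'⁻¹ ∈ (P : Subgroup G) ⊔ Z := by
      intro g' hg' y hy
      obtain ⟨a, ha, b, hb, rfl⟩ := Subgroup.mem_sup_of_normal_right.1 hy
      rw [show g' * (a * b) * g'⁻¹ = (g' * a * g'⁻¹) * (g' * b * g'⁻¹) by group]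
      exact Subgroup.mul_mem _ (Subgroup.mem_sup_left ((Subgroup.mem_normalizer_iff.1 hg' a).1 ha))
        (Subgroup.mem_sup_right (Subgroup.Normal.conj_mem inferInstance b hb g'))
    refine ⟨key g hg x, fun h => ?_⟩
    have := key g⁻¹ (Subgroup.inv_mem _ hg) _ h
    simpa [mul_assoc] using this

end CfsgLib.HallGen
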