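import Mathlib
import Cfsg.Agent.Lib.HallGen.Counting
import Cfsg.Agent.Lib.Core.Coprime

/-!
M. Hall's product formula for the number of Sylow `p`-subgroups over a normal subgroup and the
congruences of the prime parts of the Sylow number of an extension of a `p'`-group by a `p`-group.
-/

set_option linter.style.haveILetI false

open scoped Pointwise

namespace CfsgLib.HallGen

open Subgroup

variable {G : Type*} [Group G] {p : ℕ} [Fact p.Prime]

/-- The Sylow number of a subgroup containing a Sylow subgroup. -/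
theorem card_sylow_eq_relIndex_normalizer [Finite G] (P : Sylow p G) (H : Subgroup G)
    (hPH : (P : Subgroup G) ≤ H) :
    Nat.card (Sylow p H) = (normalizer ((P : Subgroup G) : Set G)).relIndex H := by
  rw [(P.subtype hPH).card_eq_index_normalizer]
  refine congrArg Subgroup.index ?_
  exact (subgroupOf_normalizer_eq hPH).symm

/-- Factoring out a normal `p`-subgroup does not change the Sylow number. -/
theorem card_sylow_quotient_of_isPGroup [Finite G] (D : Subgroup G) [D.Normal] (hD : IsPGroup p D) :
    Nat.card (Sylow p (G ⧸ D)) = Nat.card (Sylow p G) := by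
  let P : Sylow p G := default
  have hsurj := QuotientGroup.mk'_surjective D
  rw [(P.mapSurjective hsurj).card_eq_index_normalizer, P.card_eq_index_normalizer,
    ← Subgroup.index_comap_of_surjective _ hsurj]
  refine congrArg Subgroup.index ?_
  change (normalizer (((P : Subgroup G).map (QuotientGroup.mk' D) : Subgroup (G ⧸ D)) :
    Set (G ⧸ D))).comap (QuotientGroup.mk' D) = _
  rw [comap_normalizer_eq_of_surjective _ hsurj, comap_map_eq, QuotientGroup.ker_mk',
    sup_eq_left.2 (IsPGroup.le_sylow_of_normal hD P)]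
  rfl

/-- For `K` normal and `H ≤ M ≤ K H`, the index of `M ⊓ K` in `K` is the index of `M` in `K H`. -/
theorem relIndex_sup_eq_of_le [Finite G] {K M H : Subgroup G} [K.Normal] (hH : H ≤ M) :
    M.relIndex (K ⊔ H) = M.relIndex K := by
  have hle : M ⊓ (K ⊔ H) ≤ K ⊔ H := inf_le_right
  have e1 := relIndex_mul_relIndex (K ⊓ M) (M ⊓ (K ⊔ H)) (K ⊔ H)
    (le_inf inf_le_right (inf_le_left.trans le_sup_left)) hle
  have e2 := relIndex_mul_relIndex (K ⊓ M) K (K ⊔ H) inf_le_left le_sup_left
  rw [inf_relIndex_right] at e1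
  have e3 : (K ⊓ M).relIndex (M ⊓ (K ⊔ H)) = K.relIndex (K ⊔ H) := by
    have hsup : K ⊔ M ⊓ (K ⊔ H) = K ⊔ H :=
      le_antisymm (sup_le le_sup_left inf_le_right)
        (sup_le le_sup_left ((le_inf hH le_sup_right).trans le_sup_right))
    have e4 : (K ⊓ M).relIndex (M ⊓ (K ⊔ H)) = K.relIndex (M ⊓ (K ⊔ H)) := by
      rw [← inf_relIndex_right K (M ⊓ (K ⊔ H))]
      congr 1
      exact le_antisymm (le_inf inf_le_left (le_inf inf_le_right (inf_le_left.trans le_sup_left)))
        (le_inf inf_le_left (inf_le_right.trans inf_le_left))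
    rw [e4, ← relIndex_sup_right (M ⊓ (K ⊔ H)) K, sup_comm, hsup]
  have e5 : (K ⊓ M).relIndex K = M.relIndex K := by rw [inf_comm, inf_relIndex_right]
  rw [e3, ← e2, e5, mul_comm (M.relIndex K)] at e1
  exact Nat.eq_of_mul_eq_mul_left (Nat.pos_of_ne_zero index_ne_zero_of_finite) e1

/-- Isomorphic groups have the same Sylow number. -/
theorem card_sylow_congr {X Y : Type*} [Group X] [Finite X] [Group Y] (e : X ≃* Y) :
    Nat.card (Sylow p X) = Nat.card (Sylow p Y) :=
  Nat.card_congr (Equiv.ofBijective
    (fun P : Sylow p X => P.mapSurjective (f := e.toMonoidHom) e.surjective)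
    ⟨fun P Q h => Sylow.ext (Subgroup.map_injective (f := e.toMonoidHom) e.injective
      (congrArg (fun R : Sylow p Y => (R : Subgroup Y)) h)),
    Sylow.mapSurjective_surjective e.surjective p⟩)

/-- M. Hall's product formula. -/
theorem card_sylow_product [Finite G] (K : Subgroup G) [K.Normal] (P : Sylow p G) (N : Subgroup G)
    (hN : N = ((P : Subgroup G) ⊔ K) ⊓ normalizer (((P : Subgroup G) ⊓ K : Subgroup G) : Set G)) :
    Nat.card (Sylow p G) = Nat.card (Sylow p (G ⧸ K)) * Nat.card (Sylow p K) * Nat.card (Sylow p N) := by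
  set D : Subgroup G := (P : Subgroup G) ⊓ K with hDdef
  set H : Subgroup G := (P : Subgroup G) ⊔ K with hHdef
  have hPN : (P : Subgroup G) ≤ normalizer (D : Set G) := by
    intro x hx
    rw [mem_normalizer_iff]
    intro d
    have key : ∀ y ∈ (P : Subgroup G), ∀ e ∈ D, y * e * y⁻¹ ∈ D := fun y hy e he =>
      ⟨Subgroup.mul_mem _ (Subgroup.mul_mem _ hy he.1) (Subgroup.inv_mem _ hy),
        Subgroup.Normal.conj_mem inferInstance e he.2 y⟩
    refine ⟨key x hx d, fun h => ?_⟩
    have := key x⁻¹ (Subgroup.inv_mem _ hx) _ h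
    simpa [mul_assoc] using this
  have hNP : normalizer ((P : Subgroup G) : Set G) ≤ normalizer (D : Set G) := by
    intro x hx
    rw [mem_normalizer_iff] at hx ⊢
    intro d
    have hKc : d ∈ K ↔ x * d * x⁻¹ ∈ K :=
      ⟨fun h => Subgroup.Normal.conj_mem inferInstance d h x, fun h => by
        simpa [mul_assoc] using Subgroup.Normal.conj_mem inferInstance _ h x⁻¹⟩
    exact and_congr (hx d) hKc
  -- the image in the quotient
  have hsurj := QuotientGroup.mk'_surjective K
  set N0 := normalizer (H : Set G) with hN0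
  have hq : Nat.card (Sylow p (G ⧸ K)) = N0.index := by
    rw [(P.mapSurjective hsurj).card_eq_index_normalizer, ← index_comap_of_surjective _ hsurj]
    refine congrArg Subgroup.index ?_
    change (normalizer (((P : Subgroup G).map (QuotientGroup.mk' K) : Subgroup (G ⧸ K)) :
      Set (G ⧸ K))).comap (QuotientGroup.mk' K) = _
    rw [comap_normalizer_eq_of_surjective _ hsurj, comap_map_eq, QuotientGroup.ker_mk']
  have hPN0 : normalizer ((P : Subgroup G) : Set G) ≤ N0 := by
    intro x hx
    rw [hN0, Subgroup.mem_normalizer_iff_map_conj_eq] at *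
    rw [hHdef, Subgroup.map_sup, hx]
    congr 1
    exact Subgroup.mem_normalizer_iff_map_conj_eq.1 (by rw [Subgroup.normalizer_eq_top]; trivial)
  have hHN0 : H ≤ N0 := le_normalizer
  have hH : Nat.card (Sylow p N0) = Nat.card (Sylow p H) := by
    haveI : (H.subgroupOf N0).Normal := normal_in_normalizer
    have hnd : ¬ p ∣ (H.subgroupOf N0).index := fun h =>
      P.not_dvd_index (h.trans ((Dvd.intro_left _ rfl).trans
        ((show (P : Subgroup G).relIndex H * H.relIndex N0 = (P : Subgroup G).relIndex N0 from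
          relIndex_mul_relIndex _ _ _ le_sup_left hHN0).dvd.trans
            (Dvd.intro _ (relIndex_mul_index (le_sup_left.trans hHN0))))))
    rw [← card_sylow_of_not_dvd_index (H.subgroupOf N0) hnd]
    exact card_sylow_congr (subgroupOfEquivOfLe hHN0)
  have hG : Nat.card (Sylow p G) = Nat.card (Sylow p H) * Nat.card (Sylow p (G ⧸ K)) := by
    rw [hq, ← hH, card_sylow_eq_relIndex_normalizer P N0 (le_sup_left.trans hHN0),
      P.card_eq_index_normalizer]
    exact (relIndex_mul_index hPN0).symm
  -- inside `H`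
  have hPH : (P : Subgroup G) ≤ H := le_sup_left
  have hPNle : (P : Subgroup G) ≤ N := hN ▸ le_inf hPH hPN
  have hDK : Nat.card (Sylow p K) = (normalizer (D : Set G)).relIndex K := by
    have hDp : IsPGroup p ((P : Subgroup G).subgroupOf K) := P.isPGroup'.comap_subtype
    have hnd : ¬ p ∣ ((P : Subgroup G).subgroupOf K).index := fun h =>
      P.not_dvd_index (h.trans (relIndex_dvd_index_right _ K))
    rw [(hDp.toSylow hnd).card_eq_index_normalizer]
    change (normalizer (((P : Subgroup G).subgroupOf K : Subgroup K) : Set K)).index = _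
    rw [← Subgroup.inf_subgroupOf_right (P : Subgroup G) K]
    exact congrArg Subgroup.index (subgroupOf_normalizer_eq (inf_le_right : D ≤ K)).symm
  have hfac : Nat.card (Sylow p H) = Nat.card (Sylow p K) * Nat.card (Sylow p N) := by
    rw [card_sylow_eq_relIndex_normalizer P H hPH, card_sylow_eq_relIndex_normalizer P N hPNle, hDK,
      ← relIndex_sup_eq_of_le hPN, sup_comm K, ← hHdef]
    have hNle : N ≤ H := hN ▸ inf_le_left
    have e1 : (normalizer (D : Set G)).relIndex H = N.relIndex H := by
      rw [hN, inf_comm, inf_relIndex_right]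
    have e2 := relIndex_mul_relIndex (normalizer ((P : Subgroup G) : Set G) ⊓ N) N H inf_le_right hNle
    have e3 : (normalizer ((P : Subgroup G) : Set G) ⊓ N).relIndex H =
        (normalizer ((P : Subgroup G) : Set G)).relIndex H := by
      rw [hN, ← inf_relIndex_right (normalizer ((P : Subgroup G) : Set G)) H]
      congr 1
      exact le_antisymm (le_inf inf_le_left (inf_le_right.trans inf_le_left))
        (le_inf inf_le_left (le_inf inf_le_right (inf_le_left.trans hNP)))
    rw [e1, ← e3, ← e2, inf_relIndex_right, mul_comm]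
  rw [hG, hfac]
  ring

/-- All prime parts of `n` are congruent to `1` modulo `p`. -/
def PartsOne (p n : ℕ) : Prop :=
  n ≠ 0 ∧ ∀ q : ℕ, q.Prime → q ^ n.factorization q ≡ 1 [MOD p]

theorem PartsOne.one : PartsOne p 1 := ⟨one_ne_zero, fun q _ => by simp [Nat.ModEq.refl]⟩

theorem PartsOne.mul {m n : ℕ} (hm : PartsOne p m) (hn : PartsOne p n) : PartsOne p (m * n) := by
  refine ⟨mul_ne_zero hm.1 hn.1, fun q hq => ?_⟩
  rw [Nat.factorization_mul hm.1 hn.1, Finsupp.add_apply, pow_add]
  simpa using (hm.2 q hq).mul (hn.2 q hq)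

/-- The prime parts of the Sylow number of (a `p'`-group) extended by a `p`-group are `≡ 1` mod `p`. -/
theorem partsOne_card_sylow_of_coprime_kernel [Finite G] (L : Subgroup G) [L.Normal]
    (hL : ¬ p ∣ Nat.card L) (P : Sylow p G) (htop : L ⊔ (P : Subgroup G) = ⊤) :
    PartsOne p (Nat.card (Sylow p G)) := by
  classical
  have hp : p.Prime := Fact.out
  obtain ⟨a, ha⟩ := P.isPGroup'.exists_card_eq
  have hcop : (Nat.card (P : Subgroup G)).Coprime (Nat.card L) := by
    rw [ha]; exact ((hp.coprime_iff_not_dvd).2 hL).pow_left a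
  have hPL : (P : Subgroup G) ≤ normalizer (L : Set G) := by rw [normalizer_eq_top]; exact le_top
  have hsol : Group.IsSolvable (P : Subgroup G) ∨ Group.IsSolvable L :=
    Or.inl (by haveI := P.isPGroup'.isNilpotent; infer_instance)
  set C : Subgroup G := L ⊓ centralizer ((P : Subgroup G) : Set G) with hC
  have hNC : normalizer ((P : Subgroup G) : Set G) ⊓ L = C := by
    refine le_antisymm (fun x hx => ⟨hx.2, ?_⟩) (fun x hx => ⟨centralizer_le_normalizer _ hx.2, hx.1⟩)
    exact CfsgLib.Core.mem_centralizer_of_normalizes hPL (inf_eq_bot_of_coprime hcop) hx.2 hx.1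
  have hn : Nat.card (Sylow p G) = C.relIndex L := by
    rw [P.card_eq_index_normalizer]
    change (normalizer ((P : Subgroup G) : Set G)).index = _
    rw [← relIndex_top_right (normalizer ((P : Subgroup G) : Set G)), ← htop, relIndex_sup_eq_of_le (K := L) (H := (P : Subgroup G)) le_normalizer,
      ← inf_relIndex_right (normalizer ((P : Subgroup G) : Set G)) L, hNC]
  have hmul : Nat.card C * C.relIndex L = Nat.card L := by
    rw [← Subgroup.relIndex_bot_left C, Subgroup.relIndex_mul_relIndex ⊥ C L bot_le inf_le_left,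
      Subgroup.relIndex_bot_left]
  have hne : C.relIndex L ≠ 0 := index_ne_zero_of_finite
  rw [hn]
  refine ⟨hne, fun q hq => ?_⟩
  haveI := Fact.mk hq
  by_cases hqp : q = p
  · subst hqp
    rw [Nat.factorization_eq_zero_of_not_dvd fun h => hL (h.trans (hmul ▸ Dvd.intro_left _ rfl))]
    simp [Nat.ModEq.refl]
  obtain ⟨U⟩ := (Sylow.nonempty : Nonempty (Sylow q C))
  set U' : Subgroup G := (U : Subgroup C).map C.subtype with hU'
  have hU'C : U' ≤ C := map_subtype_le _
  have hU'p : IsPGroup q U' := U.isPGroup'.map _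
  have hPU : (P : Subgroup G) ≤ normalizer (U' : Set G) := by
    refine le_trans ?_ (centralizer_le_normalizer _)
    intro x hx
    rw [mem_centralizer_iff]
    intro u hu
    exact ((mem_centralizer_iff.1 (hU'C hu).2) x hx).symm
  obtain ⟨Q, hUQ, hQ⟩ := CfsgLib.Core.exists_invariant_sylow_ge (p := q) hPL hcop hsol
    (hU'C.trans inf_le_left) hU'p hPU
  set Q' : Subgroup G := (Q : Subgroup L).map L.subtype with hQ'
  have hQp : IsPGroup q Q' := Q.isPGroup'.map _
  have hQL : Q' ≤ L := map_subtype_le _
  have hQC : Q' ⊓ C = U' := by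
    refine le_antisymm ?_ (le_inf hUQ hU'C)
    have h1 : (Q' ⊓ C).subgroupOf C = (U : Subgroup C) := by
      refine U.is_maximal' (IsPGroup.comap_subtype (hQp.to_le inf_le_left)) ?_
      intro x hx
      exact ⟨hUQ ⟨x, hx, rfl⟩, x.2⟩
    rw [hU', ← h1, map_subgroupOf_eq_of_le inf_le_right]
  -- `P` acts on `Q'`
  let φ : (P : Subgroup G) →* MulAut Q' :=
    (Subgroup.normalizerMonoidHom Q').comp (Subgroup.inclusion hQ)
  letI : MulAction (P : Subgroup G) Q' := MulAction.compHom Q' φ
  have hfix := IsPGroup.card_modEq_card_fixedPoints (p := p) P.isPGroup' (α := Q')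
  have hfe : Nat.card (MulAction.fixedPoints (P : Subgroup G) Q') = Nat.card U' := by
    refine Nat.card_congr
      { toFun := fun x => ⟨x.1.1, hQC ▸ ⟨x.1.2, hQL x.1.2, ?_⟩⟩
        invFun := fun u => ⟨⟨u.1, hUQ u.2⟩, ?_⟩
        left_inv := fun x => rfl
        right_inv := fun u => rfl }
    · refine mem_centralizer_iff.2 fun y hy => ?_
      have := congrArg Subtype.val (x.2 ⟨y, hy⟩)
      change y * x.1.1 * y⁻¹ = x.1.1 at this
      exact mul_inv_eq_iff_eq_mul.1 this
    · intro y
      apply Subtype.ext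
      change (y : G) * u.1 * (y : G)⁻¹ = u.1
      exact mul_inv_eq_iff_eq_mul.2 (mem_centralizer_iff.1 (hU'C u.2).2 y y.2)
  rw [hfe] at hfix
  have hQc : Nat.card Q' = q ^ (Nat.card L).factorization q := by
    rw [hQ', card_map_of_injective (subtype_injective L), Sylow.card_eq_multiplicity]
  have hUc : Nat.card U' = q ^ (Nat.card C).factorization q := by
    rw [hU', card_map_of_injective (subtype_injective C), Sylow.card_eq_multiplicity]
  rw [hQc, hUc] at hfix
  have hC0 : Nat.card C ≠ 0 := Nat.card_pos.ne'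
  rw [← hmul, Nat.factorization_mul hC0 hne, Finsupp.add_apply, pow_add] at hfix
  refine Nat.ModEq.cancel_left_of_coprime (c := q ^ (Nat.card C).factorization q) ?_ (by rwa [mul_one])
  exact ((Nat.coprime_primes hp hq).2 (Ne.symm hqp)).pow_right _

/-- The third factor in Hall's formula. -/
theorem partsOne_card_sylow_third [Finite G] (K : Subgroup G) [K.Normal] (P : Sylow p G) (N : Subgroup G)
    (hN : N = ((P : Subgroup G) ⊔ K) ⊓ normalizer (((P : Subgroup G) ⊓ K : Subgroup G) : Set G)) :
    PartsOne p (Nat.card (Sylow p N)) := by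
  set D : Subgroup G := (P : Subgroup G) ⊓ K with hDdef
  have hPD : (P : Subgroup G) ≤ normalizer (D : Set G) := by
    rw [hDdef, Subgroup.le_normalizer_iff]
    intro y hy e he
    exact ⟨Subgroup.mul_mem _ (Subgroup.mul_mem _ hy he.1) (Subgroup.inv_mem _ hy),
      Subgroup.Normal.conj_mem inferInstance e he.2 y⟩
  have hPN : (P : Subgroup G) ≤ N := hN ▸ le_inf le_sup_left hPD
  have hDN : D ≤ N := inf_le_left.trans hPN
  haveI : (D.subgroupOf N).Normal := normal_subgroupOf_of_le_normalizer (hN ▸ inf_le_right)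
  set D' : Subgroup N := D.subgroupOf N with hD'
  have hDp : IsPGroup p D' := IsPGroup.comap_subtype (P.isPGroup'.to_le inf_le_left)
  rw [← card_sylow_quotient_of_isPGroup D' hDp]
  have hsurj := QuotientGroup.mk'_surjective D'
  set L : Subgroup (N ⧸ D') := (K.subgroupOf N).map (QuotientGroup.mk' D') with hLdef
  haveI : L.Normal := (Subgroup.Normal.subgroupOf inferInstance N).map _ hsurj
  refine partsOne_card_sylow_of_coprime_kernel L (fun hdvd => P.not_dvd_index ?_)
    ((P.subtype hPN).mapSurjective hsurj) ?_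
  · rw [hLdef, CfsgLib.Core.card_map_mk', hD', ← Subgroup.inf_subgroupOf_right K N,
      relIndex_subgroupOf inf_le_right] at hdvd
    refine hdvd.trans ((Dvd.intro _ (relIndex_mul_relIndex D (K ⊓ N) K
      (le_inf inf_le_right hDN) inf_le_left)).trans ?_)
    rw [hDdef, inf_relIndex_right]
    exact relIndex_dvd_index_right _ K
  · change L ⊔ ((P : Subgroup G).subgroupOf N).map (QuotientGroup.mk' D') = ⊤
    rw [hLdef, ← Subgroup.map_sup, eq_top_iff, ← Subgroup.map_top_of_surjective _ hsurj]
    refine Subgroup.map_mono fun x _ => ?_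
    have hx : (x : G) ∈ ((P : Subgroup G) ⊔ K) ⊓ normalizer (D : Set G) := hN.le x.2
    obtain ⟨a, ha, k, hk, hak⟩ := Subgroup.mem_sup_of_normal_right.1 hx.1
    have hkN : k ∈ N := by
      have : k = a⁻¹ * (x : G) := by rw [← hak]; group
      rw [this]; exact N.mul_mem (N.inv_mem (hPN ha)) x.2
    have hx' : x = ⟨a, hPN ha⟩ * ⟨k, hkN⟩ := Subtype.ext hak.symm
    rw [hx']
    exact Subgroup.mul_mem _ (Subgroup.mem_sup_right ha) (Subgroup.mem_sup_left hk)

end CfsgLib.HallGen
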