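import Mathlib
import Cfsg.Agent.Lib.HallGen.Basic
import Cfsg.Agent.Lib.Core.Basic
import Cfsg.Agent.Lib.Core.Cores
import Cfsg.Agent.Lib.Core.Coprime
import Cfsg.Agent.Lib.Transfer.PResidual
import Cfsg.Agent.Lib.PLocal.PStable
import Cfsg.Agent.Lib.Transfer.Fusion

/-!
Finite groups in which all centralisers of noncentral elements are maximal subgroups are solvable,
given Glauberman's normal `p`-complement criterion for odd primes.
-/

open scoped Pointwise
open Subgroup

set_option linter.style.haveILetI false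

namespace CfsgLib.HallGen

variable {G : Type*} [Group G]

theorem exists_coprime_parts [Finite G] {p : ℕ} (hp : p.Prime) (g : G) :
    ∃ a b : G, a ∈ zpowers g ∧ b ∈ zpowers g ∧ a * b = g ∧ (∃ k, orderOf a = p ^ k) ∧
      (orderOf b).Coprime p := by
  obtain ⟨k, m, hm, hkm⟩ := Nat.exists_eq_pow_mul_and_not_dvd (orderOf_pos g).ne' p hp.ne_one
  have hcop : (p ^ k).Coprime m := ((hp.coprime_iff_not_dvd).2 hm).pow_left k
  let a := Nat.chineseRemainder hcop 1 0
  let b := Nat.chineseRemainder hcop 0 1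
  have hab : (a : ℕ) + b ≡ 1 [MOD orderOf g] := by
    rw [hkm]
    exact (Nat.modEq_and_modEq_iff_modEq_mul hcop).1 ⟨a.2.1.add b.2.1, a.2.2.add b.2.2⟩
  refine ⟨g ^ (a : ℕ), g ^ (b : ℕ), npow_mem_zpowers g _, npow_mem_zpowers g _, ?_, ?_, ?_⟩
  · rw [← pow_add]
    exact (pow_eq_pow_iff_modEq.2 hab).trans (pow_one g)
  · have : orderOf (g ^ (a : ℕ)) ∣ p ^ k := by
      refine orderOf_dvd_of_pow_eq_one ?_
      rw [← pow_mul, ← orderOf_dvd_iff_pow_eq_one, hkm, mul_comm (a : ℕ)]
      exact mul_dvd_mul_left _ (Nat.modEq_zero_iff_dvd.1 a.2.2)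
    obtain ⟨i, -, hi⟩ := (Nat.dvd_prime_pow hp).1 this
    exact ⟨i, hi⟩
  · have : orderOf (g ^ (b : ℕ)) ∣ m := by
      refine orderOf_dvd_of_pow_eq_one ?_
      rw [← pow_mul, ← orderOf_dvd_iff_pow_eq_one, hkm]
      exact mul_dvd_mul_right (Nat.modEq_zero_iff_dvd.1 b.2.1) _
    exact Nat.Coprime.coprime_dvd_left this ((hp.coprime_iff_not_dvd).2 hm).symm

/-- All centralisers of noncentral elements are maximal. -/
def CentMax (G : Type*) [Group G] : Prop :=
  ∀ g : G, g ∉ center G → IsCoatom (centralizer ({g} : Set G))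

theorem mem_cent_iff {g x : G} : x ∈ centralizer ({g} : Set G) ↔ g * x = x * g := by
  rw [mem_centralizer_iff]; simp

theorem self_mem_cent (g : G) : g ∈ centralizer ({g} : Set G) := mem_cent_iff.2 rfl

theorem mem_cent_symm {g x : G} (h : x ∈ centralizer ({g} : Set G)) :
    g ∈ centralizer ({x} : Set G) := mem_cent_iff.2 (mem_cent_iff.1 h).symm

theorem cent_le_of_mem_zpowers {g a : G} (ha : a ∈ zpowers g) :
    centralizer ({g} : Set G) ≤ centralizer ({a} : Set G) := by
  intro c hc
  obtain ⟨i, rfl⟩ := mem_zpowers_iff.1 ha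
  exact mem_cent_iff.2 ((show Commute g c from mem_cent_iff.1 hc).zpow_left i).eq

theorem cent_conj (g h : G) :
    MulAut.conj h • centralizer ({g} : Set G) = centralizer ({h * g * h⁻¹} : Set G) := by
  ext c
  rw [CfsgLib.Core.mem_conj_smul_iff, mem_cent_iff, mem_cent_iff]
  constructor
  · intro e
    calc h * g * h⁻¹ * c = h * (g * (h⁻¹ * c * h)) * h⁻¹ := by group
      _ = h * (h⁻¹ * c * h * g) * h⁻¹ := by rw [e]
      _ = c * (h * g * h⁻¹) := by group
  · intro e
    calc g * (h⁻¹ * c * h) = h⁻¹ * (h * g * h⁻¹ * c) * h := by group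
      _ = h⁻¹ * (c * (h * g * h⁻¹)) * h := by rw [e]
      _ = h⁻¹ * c * h * g := by group

theorem conj_not_mem_center {g : G} (hg : g ∉ center G) (h : G) : h * g * h⁻¹ ∉ center G :=
  fun hh => hg <| by
    have := (inferInstance : (center G).Normal).conj_mem _ hh h⁻¹
    simpa [mul_assoc] using this

namespace CentMax

theorem eq_of_le (H : CentMax G) {x y : G} (hx : x ∉ center G) (hy : y ∉ center G)
    (hle : centralizer ({x} : Set G) ≤ centralizer ({y} : Set G)) :
    centralizer ({y} : Set G) = centralizer ({x} : Set G) := by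
  rcases (H x hx).le_iff.1 hle with h | h
  · exact ((H y hy).1 h).elim
  · exact h

theorem eq_of_coprime [Finite G] (H : CentMax G) {x y : G} (hx : x ∉ center G) (hy : y ∉ center G)
    (hc : y ∈ centralizer ({x} : Set G)) (hco : (orderOf x).Coprime (orderOf y)) :
    centralizer ({y} : Set G) = centralizer ({x} : Set G) := by
  have hcomm : Commute x y := mem_cent_iff.1 hc
  have hx' : x ∈ zpowers (x * y) := by
    obtain ⟨k, hk⟩ := exists_pow_eq_self_of_coprime (x := x) (n := orderOf y) hco.symm
    refine mem_zpowers_iff.2 ⟨(orderOf y * k : ℕ), ?_⟩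
    rw [zpow_natCast, hcomm.mul_pow, pow_mul, pow_mul, pow_orderOf_eq_one y, one_pow, mul_one, hk]
  have hy' : y ∈ zpowers (x * y) := by
    simpa using mul_mem (inv_mem hx') (mem_zpowers (x * y))
  have hxy : x * y ∉ center G := fun h => hx ((zpowers_le.2 h) hx')
  have e := H.eq_of_le hxy hx (cent_le_of_mem_zpowers hx')
  exact H.eq_of_le hx hy (e ▸ cent_le_of_mem_zpowers hy')

theorem exists_primePow [Finite G] (H : CentMax G) {x : G} (hx : x ∉ center G) :
    ∃ (p : ℕ) (y : G), p.Prime ∧ y ∉ center G ∧ (∃ k, orderOf y = p ^ k) ∧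
      centralizer ({y} : Set G) = centralizer ({x} : Set G) := by
  by_contra hno
  push Not at hno
  refine hx (mem_of_primePow_parts (center G) x fun y hy p k hp hk => ?_)
  by_contra hyc
  exact hno p y hp hyc ⟨k, hk⟩ (H.eq_of_le hx hyc (cent_le_of_mem_zpowers hy))

/-- a centraliser of a noncentral `p`-element is abelian or has only central `p'`-elements. -/
theorem dichotomy [Finite G] (H : CentMax G) {p : ℕ} (hp : p.Prime) {x : G} (hx : x ∉ center G)
    (hxo : ∃ k, orderOf x = p ^ k) :
    (∀ a ∈ centralizer ({x} : Set G), ∀ b ∈ centralizer ({x} : Set G), a * b = b * a) ∨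
      ∀ y ∈ centralizer ({x} : Set G), (orderOf y).Coprime p → y ∈ center G := by
  obtain ⟨k, hk⟩ := hxo
  by_cases hcase : ∀ y ∈ centralizer ({x} : Set G), (orderOf y).Coprime p → y ∈ center G
  · exact Or.inr hcase
  push Not at hcase
  obtain ⟨z, hz, hzp, hzc⟩ := hcase
  -- a prime power part of `z`
  obtain ⟨q, y, hq, hyz, hyc, l, hl⟩ : ∃ (q : ℕ) (y : G), q.Prime ∧ y ∈ zpowers z ∧ y ∉ center G ∧
      ∃ l, orderOf y = q ^ l := by
    by_contra hno
    push Not at hno
    refine hzc (mem_of_primePow_parts (center G) z fun y hy q l hq hl => ?_)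
    by_contra hyc
    exact hno q y hq hy hyc l hl
  have hyp : (orderOf y).Coprime p := hzp.coprime_dvd_left (orderOf_dvd_of_mem_zpowers hyz)
  have hycx : y ∈ centralizer ({x} : Set G) := (zpowers_le.2 hz) hyz
  have e : centralizer ({y} : Set G) = centralizer ({x} : Set G) :=
    H.eq_of_coprime hx hyc hycx (hk ▸ (hyp.symm.pow_left k))
  left
  have key : ∀ a ∈ centralizer ({x} : Set G),
      centralizer ({x} : Set G) ≤ centralizer ({a} : Set G) := by
    intro a ha
    obtain ⟨u, v, hu, hv, huv, ⟨i, hi⟩, hvp⟩ := exists_coprime_parts hp a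
    have aux : ∀ w ∈ zpowers a, ((orderOf w).Coprime p ∨ (orderOf w).Coprime q) →
        centralizer ({x} : Set G) ≤ centralizer ({w} : Set G) := by
      intro w hw hcop
      by_cases hwc : w ∈ center G
      · intro c _
        exact mem_cent_iff.2 (mem_center_iff.1 hwc c).symm
      have hwx : w ∈ centralizer ({x} : Set G) := (zpowers_le.2 ha) hw
      rcases hcop with hc | hc
      · rw [H.eq_of_coprime hx hwc hwx (hk ▸ (hc.symm.pow_left k))]
      · rw [← e] at hwx ⊢
        rw [H.eq_of_coprime hyc hwc hwx (hl ▸ (hc.symm.pow_left l))]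
    have hpq : p ≠ q := by
      rintro rfl
      rw [hl] at hyp
      rcases Nat.eq_zero_or_pos l with rfl | hl0
      · exact hyc ((orderOf_eq_one_iff.1 (show orderOf y = 1 by simpa using hl)) ▸ one_mem _)
      · exact hp.ne_one ((Nat.coprime_self p).1 ((Nat.coprime_pow_left_iff hl0 p p).1 hyp))
    intro c hc
    refine mem_cent_iff.2 ?_
    have h1 : Commute u c :=
      mem_cent_iff.1 (aux u hu (Or.inr (hi ▸ ((Nat.coprime_primes hp hq).2 hpq).pow_left i)) hc)
    have h2 : Commute v c := mem_cent_iff.1 (aux v hv (Or.inl hvp) hc)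
    rw [← huv]
    exact (h1.mul_left h2).eq
  exact fun a ha b hb => mem_cent_iff.1 (key a ha hb)

theorem normalizer_eq [Finite G] (H : CentMax G)
    (hN : ∀ x : G, x ∉ center G → ¬ (centralizer ({x} : Set G)).Normal) {x : G}
    (hx : x ∉ center G) :
    normalizer ((centralizer ({x} : Set G) : Subgroup G) : Set G) = centralizer ({x} : Set G) :=
  ((H x hx).le_iff.1 le_normalizer).resolve_left
    fun h => hN x hx (normalizer_eq_top_iff.1 h)

/-- two noncentral elements with a common abelian centraliser situation. -/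
theorem eq_of_mem_abelian (H : CentMax G) {y g : G} (hy : y ∉ center G) (hg : g ∉ center G)
    (hab : ∀ a ∈ centralizer ({y} : Set G), ∀ b ∈ centralizer ({y} : Set G), a * b = b * a)
    (hm : g ∈ centralizer ({y} : Set G)) :
    centralizer ({g} : Set G) = centralizer ({y} : Set G) :=
  H.eq_of_le hy hg fun c hc => mem_cent_iff.2 (hab g hm c hc)

/-- An abelian centraliser of a noncentral `q`-element contains a Sylow `q`-subgroup. -/
theorem sylow_le_abelian [Finite G] (H : CentMax G)
    (hN : ∀ x : G, x ∉ center G → ¬ (centralizer ({x} : Set G)).Normal) {q : ℕ} [Fact q.Prime]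
    (Q : Sylow q G) {y : G} (hy : y ∉ center G) (hyQ : y ∈ (Q : Subgroup G))
    (hab : ∀ a ∈ centralizer ({y} : Set G), ∀ b ∈ centralizer ({y} : Set G), a * b = b * a) :
    (Q : Subgroup G) ≤ centralizer ({y} : Set G) := by
  set B := centralizer ({y} : Set G) with hB
  by_contra hle
  haveI : Group.IsNilpotent (Q : Subgroup G) := Q.isPGroup'.isNilpotent
  have hlt : B.subgroupOf (Q : Subgroup G) < ⊤ :=
    lt_top_iff_ne_top.2 fun h => hle (subgroupOf_eq_top.1 h)
  have h2 := Group.normalizerCondition_of_isNilpotent _ hlt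
  obtain ⟨⟨n, hnQ⟩, hn, hnB⟩ := SetLike.exists_of_lt h2
  have h3 := ((mem_normalizer_iff.1 hn) ⟨y, hyQ⟩).1 (mem_subgroupOf.2 (self_mem_cent y))
  rw [mem_subgroupOf] at h3
  have h4 : centralizer ({n * y * n⁻¹} : Set G) = B :=
    H.eq_of_mem_abelian hy (conj_not_mem_center hy n) hab h3
  rw [← cent_conj, ← CfsgLib.Core.mem_normalizer_iff_conj_smul_eq] at h4
  rw [H.normalizer_eq hN hy] at h4
  exact hnB (mem_subgroupOf.2 h4)

theorem abelian_class_injective [Finite G] (H : CentMax G)
    (hN : ∀ x : G, x ∉ center G → ¬ (centralizer ({x} : Set G)).Normal) {y : G} (hy : y ∉ center G)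
    (hab : ∀ a ∈ centralizer ({y} : Set G), ∀ b ∈ centralizer ({y} : Set G), a * b = b * a) :
    ∃ S : Set G, (∀ g, g ∈ S ↔ g ∉ center G ∧
        ∃ h : G, centralizer ({g} : Set G) = MulAut.conj h • centralizer ({y} : Set G)) ∧
      S.ncard = (centralizer ({y} : Set G)).index *
        (Nat.card (centralizer ({y} : Set G)) - Nat.card (center G)) := by
  set A := centralizer ({y} : Set G) with hA
  let T : Set G := (A : Set G) \ (center G : Set G)
  let f : (G ⧸ A) × T → G := fun c => c.1.out * c.2.1 * c.1.out⁻¹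
  have hC : ∀ (h : G) (a : T), centralizer ({h * a.1 * h⁻¹} : Set G) = MulAut.conj h • A := by
    intro h a
    rw [← cent_conj, H.eq_of_mem_abelian hy a.2.2 hab a.2.1]
  have hinj : Function.Injective f := by
    rintro ⟨c, a⟩ ⟨d, b⟩ e
    have e' : MulAut.conj c.out • A = MulAut.conj d.out • A := by
      rw [← hC c.out a, ← hC d.out b]
      exact congrArg (fun g => centralizer ({g} : Set G)) e
    have hNA : normalizer (A : Set G) = A := H.normalizer_eq hN hy
    have hm : d.out⁻¹ * c.out ∈ A := by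
      refine hNA.le ?_
      rw [CfsgLib.Core.mem_normalizer_iff_conj_smul_eq, map_mul, mul_smul,
        e', ← mul_smul, ← map_mul, inv_mul_cancel, map_one, one_smul]
    have hcd : c = d := by
      rw [← Quotient.out_eq' c, ← Quotient.out_eq' d]
      exact (QuotientGroup.eq.2 hm).symm
    subst hcd
    have : a.1 = b.1 := mul_left_cancel (mul_right_cancel e)
    rw [Subtype.ext this]
  refine ⟨Set.range f, fun g => ⟨?_, ?_⟩, ?_⟩
  · rintro ⟨⟨c, a⟩, rfl⟩
    exact ⟨conj_not_mem_center a.2.2 _, _, hC c.out a⟩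
  · rintro ⟨hg, h, e⟩
    let c : G ⧸ A := QuotientGroup.mk h
    obtain ⟨a, ha⟩ := QuotientGroup.mk_out_eq_mul A h
    have hgm : g ∈ MulAut.conj h • A := e ▸ self_mem_cent g
    rw [CfsgLib.Core.mem_conj_smul_iff] at hgm
    refine ⟨⟨c, ⟨(a : G)⁻¹ * (h⁻¹ * g * h) * a, mul_mem (mul_mem (inv_mem a.2) hgm) a.2, ?_⟩⟩, ?_⟩
    · intro hh
      have := conj_not_mem_center hg ((a : G)⁻¹ * h⁻¹)
      exact this (by simpa [mul_assoc] using hh)
    · simp only [f, c, ha]
      group
  · rw [← Nat.card_coe_set_eq, Nat.card_range_of_injective hinj, Nat.card_prod,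
      Nat.card_coe_set_eq, Set.ncard_sdiff]
    · rfl
    · exact center_le_centralizer _

theorem card_center_lt [Finite G] {x : G} (hx : x ∉ center G) :
    2 * Nat.card (center G) ≤ Nat.card (centralizer ({x} : Set G)) := by
  have hle : center G ≤ centralizer ({x} : Set G) := center_le_centralizer _
  obtain ⟨k, hk⟩ := card_dvd_of_le hle
  rw [hk, mul_comm]
  refine Nat.mul_le_mul_left _ ?_
  by_contra hlt
  rcases k with _ | _ | k
  · simp [Nat.card_pos.ne'] at hk
  · have := eq_of_le_of_card_ge hle (by rw [hk]; simp)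
    exact hx (this ▸ self_mem_cent x)
  · omega

/-- at most one class of abelian centralisers. -/
theorem abelian_conj [Finite G] (H : CentMax G)
    (hN : ∀ x : G, x ∉ center G → ¬ (centralizer ({x} : Set G)).Normal) {y z : G}
    (hy : y ∉ center G) (hz : z ∉ center G)
    (haby : ∀ a ∈ centralizer ({y} : Set G), ∀ b ∈ centralizer ({y} : Set G), a * b = b * a)
    (habz : ∀ a ∈ centralizer ({z} : Set G), ∀ b ∈ centralizer ({z} : Set G), a * b = b * a) :
    ∃ h : G, centralizer ({z} : Set G) = MulAut.conj h • centralizer ({y} : Set G) := by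
  by_contra hno
  push Not at hno
  obtain ⟨S, hS, hSc⟩ := H.abelian_class_injective hN hy haby
  obtain ⟨T, hT, hTc⟩ := H.abelian_class_injective hN hz habz
  have hd : Disjoint S T := Set.disjoint_left.2 fun g h1 h2 => by
    obtain ⟨-, a, ha⟩ := (hS g).1 h1
    obtain ⟨-, b, hb⟩ := (hT g).1 h2
    refine hno (b⁻¹ * a) ?_
    rw [map_mul, mul_smul, ← ha, hb, ← mul_smul, ← map_mul, inv_mul_cancel, map_one, one_smul]
  have hsub : S ∪ T ⊆ (center G : Set G)ᶜ := by
    rintro g (h | h)
    exacts [((hS g).1 h).1, ((hT g).1 h).1]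
  have h1 := Set.ncard_le_ncard hsub
  rw [Set.ncard_union_eq hd, Set.ncard_compl, hSc, hTc, ← Nat.card_coe_set_eq] at h1
  have half : ∀ u : G, u ∉ center G → Nat.card G ≤ 2 * ((centralizer ({u} : Set G)).index *
      (Nat.card (centralizer ({u} : Set G)) - Nat.card (center G))) := by
    intro u hu
    have h2 := card_center_lt hu
    rw [← (centralizer ({u} : Set G)).index_mul_card, ← mul_assoc, mul_comm 2, mul_assoc]
    exact Nat.mul_le_mul_left _ (by omega)
  have h3 := half y hy
  have h4 := half z hz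
  have h5 : 0 < Nat.card (center G) := Nat.card_pos
  have h7 : Nat.card (center G) ≤ Nat.card G :=
    Nat.le_of_dvd Nat.card_pos (card_subgroup_dvd_card _)
  change _ ≤ Nat.card G - Nat.card (center G) at h1
  omega

end CentMax

end CfsgLib.HallGen

namespace CfsgLib.HallGen

namespace CentMax

variable {G : Type*} [Group G] [Finite G]

theorem isPGroup_quotient_center {p : ℕ} (hp : p.Prime) {M : Subgroup G}
    (hM : ∀ y ∈ M, (orderOf y).Coprime p → y ∈ center G) :
    IsPGroup p (M ⧸ (center G).subgroupOf M) := by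
  intro c
  induction c using QuotientGroup.induction_on with
  | _ y =>
    obtain ⟨a, b, ha, hb, hab, ⟨k, hk⟩, hbp⟩ := exists_coprime_parts hp (y : G)
    refine ⟨k, ?_⟩
    rw [← QuotientGroup.mk_pow, QuotientGroup.eq_one_iff, mem_subgroupOf, coe_pow]
    have hc : Commute a b := by
      obtain ⟨i, rfl⟩ := mem_zpowers_iff.1 ha
      obtain ⟨j, rfl⟩ := mem_zpowers_iff.1 hb
      exact (Commute.refl _).zpow_zpow i j
    rw [← hab, hc.mul_pow, ← hk, pow_orderOf_eq_one a, one_mul]
    exact pow_mem (hM b ((zpowers_le.2 y.2) hb) hbp) _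

theorem isSolvable_of_pType {p : ℕ} [Fact p.Prime] {M : Subgroup G}
    (hM : ∀ y ∈ M, (orderOf y).Coprime p → y ∈ center G) : Group.IsSolvable M := by
  rw [Group.isSolvable_iff_subgroup_quotient ((center G).subgroupOf M)]
  refine ⟨Group.isSolvable_of_comm fun a b => ?_, ?_⟩
  · refine Subtype.ext (Subtype.ext ?_)
    exact (mem_center_iff.1 (mem_subgroupOf.1 a.2) _).symm
  · haveI := (isPGroup_quotient_center (Fact.out : p.Prime) hM).isNilpotent
    infer_instance

theorem isSolvable_cent (H : CentMax G) {x : G} (hx : x ∉ center G) :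
    Group.IsSolvable (centralizer ({x} : Set G)) := by
  obtain ⟨p, y, hp, hy, hyo, e⟩ := H.exists_primePow hx
  rw [← e]
  haveI := Fact.mk hp
  rcases H.dichotomy hp hy hyo with h | h
  · exact Group.isSolvable_of_comm fun a b => Subtype.ext (h a a.2 b b.2)
  · exact isSolvable_of_pType h

theorem isSolvable_of_normal (H : CentMax G) {x : G} (hx : x ∉ center G)
    (hn : (centralizer ({x} : Set G)).Normal) : Group.IsSolvable G := by
  haveI := hn
  rw [Group.isSolvable_iff_subgroup_quotient (centralizer ({x} : Set G))]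
  refine ⟨H.isSolvable_cent hx, Group.isSolvable_of_comm ?_⟩
  intro a b
  by_cases ha : a = 1
  · rw [ha, one_mul, mul_one]
  let f := QuotientGroup.mk' (centralizer ({x} : Set G))
  have htop : zpowers a = ⊤ := by
    have hle : centralizer ({x} : Set G) ≤ (zpowers a).comap f := fun m hm => by
      rw [mem_comap, show f m = 1 from (QuotientGroup.eq_one_iff m).2 hm]
      exact one_mem _
    rcases (H x hx).le_iff.1 hle with h | h
    · rw [← map_comap_eq_self_of_surjective (QuotientGroup.mk'_surjective _) (zpowers a), h]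
      exact map_top_of_surjective _ (QuotientGroup.mk'_surjective _)
    · exfalso
      obtain ⟨g, rfl⟩ := QuotientGroup.mk'_surjective _ a
      have hg : g ∈ (zpowers (f g)).comap f := mem_zpowers (f g)
      rw [h] at hg
      exact ha ((QuotientGroup.eq_one_iff g).2 hg)
  have hb : b ∈ zpowers a := htop ▸ mem_top b
  obtain ⟨i, rfl⟩ := mem_zpowers_iff.1 hb
  exact (Commute.refl a).zpow_right i |>.eq

theorem pType_sylow (H : CentMax G)
    (hN : ∀ x : G, x ∉ center G → ¬ (centralizer ({x} : Set G)).Normal) {p : ℕ} [Fact p.Prime]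
    {x : G} (hx : x ∉ center G)
    (hP : ∀ y ∈ centralizer ({x} : Set G), (orderOf y).Coprime p → y ∈ center G) :
    ∃ P : Sylow p G, (P : Subgroup G) ≤ centralizer ({x} : Set G) ∧
      centralizer ({x} : Set G) = (P : Subgroup G) ⊔ center G := by
  set M := centralizer ({x} : Set G) with hM
  have hZM : center G ≤ M := center_le_centralizer _
  let R : Sylow p M := default
  obtain ⟨P, hP'⟩ := (R.isPGroup'.map M.subtype).exists_le_sylow
  have hle : M ≤ ((P : Subgroup G) ⊓ M) ⊔ center G := by
    have h0 : (R : Subgroup M).map M.subtype ⊔ center G ≤ ((P : Subgroup G) ⊓ M) ⊔ center G :=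
      sup_le_sup_right (le_inf hP' (map_subtype_le _)) _
    refine le_trans ?_ h0
    rw [← relIndex_eq_one]
    set K := (R : Subgroup M).map M.subtype ⊔ center G
    have h1 : K.relIndex M ∣ (R : Subgroup M).index := by
      have := relIndex_dvd_of_le_left M (le_sup_left : (R : Subgroup M).map M.subtype ≤ K)
      rwa [relIndex, relIndex, subgroupOf, subgroupOf,
        comap_map_eq_self_of_injective M.subtype_injective] at this
    have h2 : K.relIndex M ∣ ((center G).subgroupOf M).index :=
      relIndex_dvd_of_le_left M (le_sup_right : center G ≤ K)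
    obtain ⟨n, hn⟩ := IsPGroup.iff_card.1 (isPGroup_quotient_center (Fact.out : p.Prime) hP)
    rw [index, hn] at h2
    obtain ⟨i, -, hi⟩ := (Nat.dvd_prime_pow (Fact.out : p.Prime)).1 h2
    rcases i with _ | i
    · rw [hi, pow_zero]
    · exact absurd ((dvd_pow_self p (Nat.succ_ne_zero i)).trans (hi ▸ h1)) R.not_dvd_index
  have hPM : (P : Subgroup G) ≤ M := by
    by_contra hc
    haveI : Group.IsNilpotent (P : Subgroup G) := P.isPGroup'.isNilpotent
    have hlt : ((P : Subgroup G) ⊓ M).subgroupOf P < ⊤ :=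
      lt_top_iff_ne_top.2 fun h => hc ((subgroupOf_eq_top.1 h).trans inf_le_right)
    obtain ⟨⟨n, hnP⟩, hn, hnM⟩ :=
      SetLike.exists_of_lt (Group.normalizerCondition_of_isNilpotent _ hlt)
    have hn' : n ∈ normalizer (((P : Subgroup G) ⊓ M : Subgroup G) : Set G) := by
      refine mem_normalizer_iff.2 fun a => ⟨fun ha => ?_, fun ha => ?_⟩
      · exact ((mem_normalizer_iff.1 hn) ⟨a, ha.1⟩).1 ha
      · have haP : a ∈ (P : Subgroup G) := by
          have := mul_mem (mul_mem (inv_mem hnP) ha.1) hnP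
          simpa [mul_assoc] using this
        exact ((mem_normalizer_iff.1 hn) ⟨a, haP⟩).2 ha
    have hMeq : M = ((P : Subgroup G) ⊓ M) ⊔ center G :=
      le_antisymm hle (sup_le inf_le_right hZM)
    have hnN : n ∈ normalizer (M : Set G) := by
      rw [CfsgLib.Core.mem_normalizer_iff_conj_smul_eq] at hn' ⊢
      have hZn : MulAut.conj n • center G = center G :=
        CfsgLib.Core.mem_normalizer_iff_conj_smul_eq.1
          (by rw [normalizer_eq_top_iff.2 inferInstance]; exact mem_top n)
      conv_lhs => rw [hMeq]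
      rw [smul_sup, hn', hZn, ← hMeq]
    rw [hM, H.normalizer_eq hN hx] at hnN
    exact hnM (mem_subgroupOf.2 ⟨hnP, hnN⟩)
  exact ⟨P, hPM, le_antisymm (hle.trans (sup_le_sup_right inf_le_left _)) (sup_le hPM hZM)⟩

theorem isSolvable_of_pType_crit (H : CentMax G)
    (hN : ∀ x : G, x ∉ center G → ¬ (centralizer ({x} : Set G)).Normal) {p : ℕ} [Fact p.Prime]
    (hGl : ∀ P : Sylow p (G ⧸ Cfsg.pCore p G),
      Cfsg.HasNormalPComplement p
        (normalizer ((Cfsg.centerThompsonAOf (P : Subgroup (G ⧸ Cfsg.pCore p G)) :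
          Subgroup (G ⧸ Cfsg.pCore p G)) : Set (G ⧸ Cfsg.pCore p G))) →
        Cfsg.HasNormalPComplement p (G ⧸ Cfsg.pCore p G))
    {x : G} (hx : x ∉ center G)
    (hP : ∀ y ∈ centralizer ({x} : Set G), (orderOf y).Coprime p → y ∈ center G) :
    Group.IsSolvable G := by
  have hp : p.Prime := Fact.out
  obtain ⟨P, hPM, hM⟩ := H.pType_sylow hN hx hP
  set M := centralizer ({x} : Set G) with hMdef
  let f := QuotientGroup.mk' (Cfsg.pCore p G)
  have hf : Function.Surjective f := QuotientGroup.mk'_surjective _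
  have hOP : Cfsg.pCore p G ≤ (P : Subgroup G) := CfsgLib.Core.pCore_le_sylow P
  let Pb : Sylow p (G ⧸ Cfsg.pCore p G) := P.mapSurjective hf
  have hPb : (Pb : Subgroup (G ⧸ Cfsg.pCore p G)) = (P : Subgroup G).map f := rfl
  let Mb := M.map f
  have hcomap : Mb.comap f = M :=
    comap_map_eq_self (by rw [QuotientGroup.ker_mk']; exact hOP.trans hPM)
  have hZb : (center G).map f ≤ center (G ⧸ Cfsg.pCore p G) := by
    rintro _ ⟨z, hz, rfl⟩
    refine mem_center_iff.2 fun c => ?_
    obtain ⟨g, rfl⟩ := hf c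
    rw [← map_mul, ← map_mul, mem_center_iff.1 hz g]
  have hPne : (Pb : Subgroup (G ⧸ Cfsg.pCore p G)) ≠ ⊥ := by
    intro h
    rw [hPb, Subgroup.map_eq_bot_iff, QuotientGroup.ker_mk'] at h
    refine hN x hx ?_
    rw [← hMdef, hM, le_antisymm h hOP]
    infer_instance
  have hMb : IsCoatom Mb := by
    refine ⟨fun h => (H x hx).1 ?_, fun K hK => ?_⟩
    · rw [← hMdef, ← hcomap, h, comap_top]
    · have h1 : M < K.comap f := hcomap ▸ (comap_lt_comap_of_surjective hf).2 hK
      rw [← map_comap_eq_self_of_surjective hf K, (H x hx).2 _ h1, map_top_of_surjective _ hf]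
  have hcent : ∀ g ∈ Mb, (orderOf g).Coprime p → g ∈ center (G ⧸ Cfsg.pCore p G) := by
    rintro _ ⟨y, hy, rfl⟩ hco
    obtain ⟨a, b, ha, hb, rfl, ⟨k, hk⟩, hbp⟩ := exists_coprime_parts hp y
    have hbz : f b ∈ center (G ⧸ Cfsg.pCore p G) :=
      hZb (mem_map_of_mem f (hP b ((zpowers_le.2 hy) hb) hbp))
    have hfa : f a = 1 := by
      have hc : Commute (f (a * b)) (f b)⁻¹ :=
        Commute.inv_right (mem_center_iff.1 hbz (f (a * b)))
      have e : f a = f (a * b) * (f b)⁻¹ := by rw [map_mul, mul_inv_cancel_right]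
      rw [← orderOf_eq_one_iff]
      refine Nat.eq_one_of_dvd_coprimes (k := orderOf (f a)) (Nat.Coprime.pow_left k ?_)
        (hk ▸ orderOf_map_dvd f a) (dvd_refl _)
      rw [e]
      refine Nat.Coprime.symm (Nat.Coprime.coprime_dvd_left hc.orderOf_mul_dvd_lcm ?_)
      refine Nat.Coprime.coprime_dvd_left (Nat.lcm_dvd_mul _ _) (Nat.Coprime.mul_left hco ?_)
      rw [orderOf_inv]
      exact hbp.coprime_dvd_left (orderOf_map_dvd f b)
    rw [map_mul, hfa, one_mul]
    exact hbz
  have hPbM : (Pb : Subgroup (G ⧸ Cfsg.pCore p G)) ≤ Mb := map_mono hPM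
  -- the normaliser of `Z(J(Pb))`
  have hNeq : normalizer ((Cfsg.centerThompsonAOf (Pb : Subgroup (G ⧸ Cfsg.pCore p G)) : Subgroup _) :
      Set (G ⧸ Cfsg.pCore p G)) = Mb := by
    have hle : Mb ≤ normalizer ((Pb : Subgroup (G ⧸ Cfsg.pCore p G)) : Set (G ⧸ Cfsg.pCore p G)) := by
      change M.map f ≤ _
      rw [hM, Subgroup.map_sup]
      exact sup_le le_normalizer (hZb.trans (center_le_normalizer _))
    refine (hMb.le_iff.1
      (hle.trans (CfsgLib.PLocal.normalizer_le_normalizer_centerThompsonA _))).resolve_left fun h => ?_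
    haveI := normalizer_eq_top_iff.1 h
    have h1 := CfsgLib.Core.le_pCore (p := p)
      (Pb.isPGroup'.to_le (CfsgLib.PLocal.centerThompsonA_le (Pb : Subgroup (G ⧸ Cfsg.pCore p G))))
    rw [CfsgLib.Core.pCore_quotient_pCore] at h1
    exact CfsgLib.PLocal.centerThompsonA_ne_bot Pb.isPGroup' hPne (le_bot_iff.1 h1)
  have hQ : Cfsg.HasNormalPComplement p (G ⧸ Cfsg.pCore p G) := by
    refine hGl Pb ?_
    rw [hNeq]
    refine CfsgLib.Transfer.hasNormalPComplement_of_centralizes default ?_
    intro Q _ g _ hg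
    refine mem_centralizer_iff.2 fun c _ => Subtype.ext ?_
    exact mem_center_iff.1 (hcent g g.2 (by rwa [orderOf_coe])) c
  obtain ⟨K, hK, hKco, hKq⟩ := CfsgLib.Transfer.hasNormalPComplement_iff_exists.1 hQ
  haveI := hK
  have hQsolv : Group.IsSolvable (G ⧸ Cfsg.pCore p G) := by
    have hPbK : (Pb : Subgroup (G ⧸ Cfsg.pCore p G)) ≤ normalizer (K : Set _) :=
      le_top.trans (normalizer_eq_top_iff.2 hK).ge
    obtain ⟨m, hm⟩ := IsPGroup.iff_card.1 Pb.isPGroup'
    have hcopPK : (Nat.card (Pb : Subgroup (G ⧸ Cfsg.pCore p G))).Coprime (Nat.card K) := by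
      rw [hm]; exact hKco.symm.pow_left m
    haveI : Group.IsNilpotent (Pb : Subgroup (G ⧸ Cfsg.pCore p G)) := Pb.isPGroup'.isNilpotent
    by_cases hcase : ∀ (q : ℕ) (_ : Fact q.Prime) (R : Sylow q K),
        (Pb : Subgroup (G ⧸ Cfsg.pCore p G)) ≤ normalizer (((R : Subgroup K).map K.subtype : Subgroup _) :
          Set (G ⧸ Cfsg.pCore p G)) → (R : Subgroup K).map K.subtype ≤ Mb
    · -- `K` is central
      have hKZ : (center (G ⧸ Cfsg.pCore p G)).subgroupOf K = ⊤ := by
        rw [← index_eq_one]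
        by_contra hne
        obtain ⟨q, hq, hqd⟩ := Nat.exists_prime_and_dvd hne
        haveI := Fact.mk hq
        obtain ⟨R, hR⟩ := CfsgLib.Core.exists_invariant_sylow hPbK hcopPK (Or.inl inferInstance) q
        have hRle : (R : Subgroup K) ≤ (center (G ⧸ Cfsg.pCore p G)).subgroupOf K := by
          intro r hr
          refine mem_subgroupOf.2 (hcent _ (hcase q inferInstance R hR (mem_map_of_mem _ hr)) ?_)
          rw [orderOf_coe]
          exact hKco.coprime_dvd_left (orderOf_dvd_natCard r)
        exact R.not_dvd_index (hqd.trans (index_dvd_of_le hRle))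
      rw [Group.isSolvable_iff_subgroup_quotient K]
      refine ⟨Group.isSolvable_of_comm fun a b => Subtype.ext ?_, ?_⟩
      · exact (mem_center_iff.1 ((subgroupOf_eq_top.1 hKZ) a.2) b).symm
      · haveI := hKq.isNilpotent
        infer_instance
    · push Not at hcase
      obtain ⟨q, _, R, hR, hRM⟩ := hcase
      set R' := (R : Subgroup K).map K.subtype
      have hsup : R' ⊔ Mb = ⊤ := (hMb.le_iff.1 le_sup_right).resolve_right
        fun h => hRM (le_sup_left.trans h.le)
      have hMR : Mb ≤ normalizer (R' : Set (G ⧸ Cfsg.pCore p G)) := by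
        change M.map f ≤ _
        rw [hM, Subgroup.map_sup]
        exact sup_le hR (hZb.trans (center_le_normalizer _))
      haveI : R'.Normal :=
        normalizer_eq_top_iff.1 (top_unique (hsup ▸ sup_le le_normalizer hMR))
      rw [Group.isSolvable_iff_subgroup_quotient R']
      refine ⟨?_, ?_⟩
      · haveI := (R.isPGroup'.map K.subtype).isNilpotent
        infer_instance
      · haveI : Group.IsSolvable M := H.isSolvable_cent hx
        let g : M →* (G ⧸ Cfsg.pCore p G) ⧸ R' :=
          (QuotientGroup.mk' R').comp (f.comp M.subtype)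
        refine Group.isSolvable_of_surjective (f := g) (fun c => ?_)
        obtain ⟨c, rfl⟩ := QuotientGroup.mk'_surjective R' c
        have hc : c ∈ R' ⊔ Mb := hsup ▸ mem_top c
        rw [mem_sup_of_normal_left] at hc
        obtain ⟨r, hr, _, ⟨m, hm, rfl⟩, rfl⟩ := hc
        refine ⟨⟨m, hm⟩, ?_⟩
        simp only [g, MonoidHom.comp_apply, coe_subtype, map_mul]
        rw [show QuotientGroup.mk' R' r = 1 from (QuotientGroup.eq_one_iff r).2 hr, one_mul]
  rw [Group.isSolvable_iff_subgroup_quotient (Cfsg.pCore p G)]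
  refine ⟨?_, hQsolv⟩
  haveI := (CfsgLib.Core.isPGroup_pCore p G).isNilpotent
  infer_instance

/-- **All centralisers maximal implies solvable**, relative to the odd normal `p`-complement criterion. -/
theorem isSolvable (H : CentMax G)
    (hGl : ∀ (p : ℕ) [Fact p.Prime], p ≠ 2 → ∀ P : Sylow p (G ⧸ Cfsg.pCore p G),
      Cfsg.HasNormalPComplement p
        (normalizer ((Cfsg.centerThompsonAOf (P : Subgroup (G ⧸ Cfsg.pCore p G)) :
          Subgroup (G ⧸ Cfsg.pCore p G)) : Set (G ⧸ Cfsg.pCore p G))) →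
        Cfsg.HasNormalPComplement p (G ⧸ Cfsg.pCore p G)) :
    Group.IsSolvable G := by
  by_contra hns
  have hN : ∀ x : G, x ∉ center G → ¬ (centralizer ({x} : Set G)).Normal :=
    fun x hx h => hns (H.isSolvable_of_normal hx h)
  have hodd : ∀ (q : ℕ) (y : G), q.Prime → q ≠ 2 → y ∉ center G → (∃ k, orderOf y = q ^ k) →
      ∀ a ∈ centralizer ({y} : Set G), ∀ b ∈ centralizer ({y} : Set G), a * b = b * a := by
    intro q y hq hq2 hy hyo
    haveI := Fact.mk hq
    exact (H.dichotomy hq hy hyo).resolve_right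
      fun h => hns (H.isSolvable_of_pType_crit hN (hGl q hq2) hy h)
  haveI := Fact.mk Nat.prime_two
  -- an odd noncentral element of prime power order
  obtain ⟨q, y, hq, hq2, hy, hyo⟩ : ∃ (q : ℕ) (y : G), q.Prime ∧ q ≠ 2 ∧ y ∉ center G ∧
      ∃ k, orderOf y = q ^ k := by
    by_contra hno
    push Not at hno
    refine hns ?_
    haveI : Group.IsSolvable (⊤ : Subgroup G) := isSolvable_of_pType (p := 2) fun z _ hz => by
      refine mem_of_primePow_parts (center G) z fun y hy q k hq hk => ?_
      by_contra hyc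
      by_cases hq2 : q = 2
      · rcases Nat.eq_zero_or_pos k with rfl | hk0
        · exact hyc ((orderOf_eq_one_iff.1 (show orderOf y = 1 by simpa using hk)) ▸ one_mem _)
        · have h2 := hz.coprime_dvd_left (orderOf_dvd_of_mem_zpowers hy)
          rw [hk, hq2, Nat.coprime_pow_left_iff hk0] at h2
          exact absurd h2 (by norm_num)
      · exact hno q y hq hq2 hyc k hk
    exact Group.isSolvable_of_surjective (f := (topEquiv : (⊤ : Subgroup G) ≃* G).toMonoidHom)
      topEquiv.surjective
  haveI := Fact.mk hq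
  have haby := hodd q y hq hq2 hy hyo
  set A := centralizer ({y} : Set G) with hA
  obtain ⟨S, hS, hSc'⟩ := H.abelian_class_injective hN hy haby
  have hSc : S.ncard = A.index * (Nat.card A - Nat.card (center G)) := hSc'
  clear hSc'
  have hZA : center G ≤ A := center_le_centralizer _
  have hz : 0 < Nat.card (center G) := Nat.card_pos
  have hzA : 2 * Nat.card (center G) ≤ Nat.card A := card_center_lt hy
  have hAG := A.index_mul_card
  -- a nonabelian centraliser
  obtain ⟨x, hx, hxab, hxP⟩ : ∃ x : G, x ∉ center G ∧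
      ¬ (∀ a ∈ centralizer ({x} : Set G), ∀ b ∈ centralizer ({x} : Set G), a * b = b * a) ∧
      ∀ u ∈ centralizer ({x} : Set G), (orderOf u).Coprime 2 → u ∈ center G := by
    by_contra hno
    push Not at hno
    have hall : ∀ g : G, g ∉ center G → g ∈ S := by
      intro g hg
      obtain ⟨r, u, hr, hu, huo, e⟩ := H.exists_primePow hg
      have hab : ∀ a ∈ centralizer ({u} : Set G), ∀ b ∈ centralizer ({u} : Set G),
          a * b = b * a := by
        by_cases hr2 : r = 2
        · subst hr2
          by_contra hnab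
          have hnab' := hnab
          push Not at hnab'
          obtain ⟨w, hw, hw2, hwc⟩ := hno u hu hnab'
          exact hwc ((H.dichotomy hr hu huo).resolve_left hnab w hw hw2)
        · exact hodd r u hr hr2 hu huo
      obtain ⟨h, hh⟩ := H.abelian_conj hN hy hu haby hab
      exact (hS g).2 ⟨hg, h, e ▸ hh⟩
    have hSeq : S = (center G : Set G)ᶜ :=
      Set.Subset.antisymm (fun g hg => ((hS g).1 hg).1) hall
    rw [hSeq, Set.ncard_compl, ← Nat.card_coe_set_eq] at hSc
    change Nat.card G - Nat.card (center G) = _ at hSc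
    have hi : A.index = 1 := by
      rw [Nat.mul_sub, hAG] at hSc
      have h1 : A.index * Nat.card (center G) ≤ A.index * Nat.card A :=
        Nat.mul_le_mul_left _ (by omega)
      have h2 : Nat.card (center G) ≤ A.index * Nat.card (center G) :=
        Nat.le_mul_of_pos_left _ (Nat.pos_of_ne_zero index_ne_zero_of_finite)
      rw [hAG] at h1
      have h3 : A.index * Nat.card (center G) = 1 * Nat.card (center G) := by omega
      exact Nat.eq_of_mul_eq_mul_right hz h3
    exact (H y hy).1 (index_eq_one.1 hi)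
  obtain ⟨P, hPM, hM⟩ := H.pType_sylow hN hx hxP
  set M := centralizer ({x} : Set G) with hMdef
  -- the index of `A` is a power of two
  have hidx : ∀ r : ℕ, r.Prime → r ≠ 2 → ¬ r ∣ A.index := by
    intro r hr hr2 hd
    haveI := Fact.mk hr
    let Q : Sylow r G := default
    by_cases hQ : (Q : Subgroup G) ≤ center G
    · exact Q.not_dvd_index (hd.trans (index_dvd_of_le (hQ.trans hZA)))
    obtain ⟨z, hzQ, hzc⟩ := SetLike.not_le_iff_exists.1 hQ
    obtain ⟨j, hj⟩ := IsPGroup.iff_orderOf.1 Q.isPGroup' ⟨z, hzQ⟩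
    rw [orderOf_mk] at hj
    have habz := hodd r z hr hr2 hzc ⟨j, hj⟩
    obtain ⟨h, hh⟩ := H.abelian_conj hN hy hzc haby habz
    have hle := H.sylow_le_abelian hN Q hzc hzQ habz
    rw [hh] at hle
    exact Q.not_dvd_index (hd.trans (by
      have := index_dvd_of_le hle
      rwa [CfsgLib.Core.index_conj_smul] at this))
  have hAodd : ¬ 2 ∣ ((center G).subgroupOf A).index := by
    intro hd
    haveI : ((center G).subgroupOf A).Normal := inferInstance
    obtain ⟨c, hc⟩ := exists_prime_orderOf_dvd_card' (G := A ⧸ (center G).subgroupOf A) 2 hd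
    obtain ⟨a, rfl⟩ := QuotientGroup.mk'_surjective _ c
    obtain ⟨u, v, hu, hv, huv, ⟨j, hj⟩, hvp⟩ := exists_coprime_parts Nat.prime_two (a : G)
    have haA := zpowers_le.2 a.2
    by_cases huc : u ∈ center G
    · have hn : (QuotientGroup.mk' ((center G).subgroupOf A) a) ^ orderOf v = 1 := by
        rw [← map_pow]
        refine (QuotientGroup.eq_one_iff _).2 (mem_subgroupOf.2 ?_)
        have hc' : Commute u v := (mem_center_iff.1 huc v).symm
        rw [coe_pow, ← huv, hc'.mul_pow, pow_orderOf_eq_one v, mul_one]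
        exact pow_mem huc _
      have := orderOf_dvd_of_pow_eq_one hn
      rw [hc] at this
      exact absurd (Nat.eq_one_of_dvd_coprimes hvp this dvd_rfl) (by norm_num)
    · have hCu : centralizer ({u} : Set G) = A :=
        H.eq_of_mem_abelian hy huc haby (haA hu)
      obtain ⟨P', hP'⟩ := (IsPGroup.of_card (G := zpowers u) (n := j)
        (by rw [Nat.card_zpowers, hj])).exists_le_sylow (p := 2)
      obtain ⟨h, rfl⟩ := MulAction.exists_smul_eq G P P'
      have hux : u ∈ centralizer ({h * x * h⁻¹} : Set G) := by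
        rw [← cent_conj]
        refine (pointwise_smul_le_pointwise_smul_iff.2 hPM : _) ?_
        have := hP' (mem_zpowers u)
        rwa [Sylow.coe_subgroup_smul] at this
      have hx' : h * x * h⁻¹ ∈ A := hCu ▸ mem_cent_symm hux
      have e := H.eq_of_mem_abelian hy (conj_not_mem_center hx h) haby hx'
      rw [← cent_conj] at e
      refine hxab fun a ha b hb => ?_
      have ha' : h * a * h⁻¹ ∈ A := e.le (smul_mem_pointwise_smul a (MulAut.conj h) _ ha)
      have hb' : h * b * h⁻¹ ∈ A := e.le (smul_mem_pointwise_smul b (MulAut.conj h) _ hb)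
      calc a * b = h⁻¹ * ((h * a * h⁻¹) * (h * b * h⁻¹)) * h := by group
        _ = h⁻¹ * ((h * b * h⁻¹) * (h * a * h⁻¹)) * h := by rw [haby _ ha' _ hb']
        _ = b * a := by group
  -- counting
  have hkey : A.index * Nat.card (center G) ≤ Nat.card M := by
    have hZM : center G ≤ M := center_le_centralizer _
    have e1 := relIndex_mul_index hZA
    have e2 := relIndex_mul_index hZM
    have hdvd : A.index ∣ (center G).relIndex M := by
      have hd : A.index ∣ (center G).relIndex M * M.index := ⟨(center G).relIndex A, by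
        rw [e2, ← e1, mul_comm]⟩
      refine Nat.Coprime.dvd_of_dvd_mul_right ?_ hd
      refine Nat.coprime_of_dvd fun r hr h1 h2 => ?_
      by_cases hr2 : r = 2
      · exact P.not_dvd_index ((hr2 ▸ h2).trans (index_dvd_of_le hPM))
      · exact hidx r hr hr2 h1
    have e3 : Nat.card (center G) * (center G).relIndex M = Nat.card M := by
      rw [← Nat.card_congr (subgroupOfEquivOfLe hZM).toEquiv]
      exact card_mul_index _
    rw [← e3, mul_comm]
    exact Nat.mul_le_mul_left _ (Nat.le_of_dvd
      (Nat.pos_of_ne_zero index_ne_zero_of_finite) hdvd)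
  have hset : (center G : Set G)ᶜ \ S = (M : Set G) \ (center G : Set G) := by
    symm
    refine Set.eq_of_subset_of_ncard_le ?_ ?_
    · intro g hg
      refine ⟨hg.2, fun hgS => ?_⟩
      obtain ⟨-, h, hh⟩ := (hS g).1 hgS
      have hxg : x ∈ MulAut.conj h • A := hh ▸ mem_cent_symm hg.1
      rw [CfsgLib.Core.mem_conj_smul_iff] at hxg
      have hx' : h⁻¹ * x * h ∉ center G := by
        have := conj_not_mem_center hx h⁻¹; rwa [inv_inv] at this
      have e := H.eq_of_mem_abelian hy hx' haby hxg
      refine hxab fun a ha b hb => ?_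
      have conv : ∀ c ∈ M, h⁻¹ * c * h ∈ A := fun c hc => by
        refine e.le (mem_cent_iff.2 ?_)
        calc h⁻¹ * x * h * (h⁻¹ * c * h) = h⁻¹ * (x * c) * h := by group
          _ = h⁻¹ * (c * x) * h := by rw [mem_cent_iff.1 hc]
          _ = h⁻¹ * c * h * (h⁻¹ * x * h) := by group
      calc a * b = h * ((h⁻¹ * a * h) * (h⁻¹ * b * h)) * h⁻¹ := by group
        _ = h * ((h⁻¹ * b * h) * (h⁻¹ * a * h)) * h⁻¹ := by
          rw [haby _ (conv a ha) _ (conv b hb)]
        _ = b * a := by group
    · rw [Set.ncard_sdiff (show S ⊆ (center G : Set G)ᶜ from fun g hg => ((hS g).1 hg).1), hSc, Set.ncard_compl,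
        Set.ncard_sdiff (center_le_centralizer _ : center G ≤ M)]
      rw [Nat.mul_sub, hAG]
      have h1 : A.index * Nat.card (center G) ≤ A.index * Nat.card A :=
        Nat.mul_le_mul_left _ (by omega)
      have h2 : Nat.card (center G) ≤ A.index * Nat.card (center G) :=
        Nat.le_mul_of_pos_left _ (Nat.pos_of_ne_zero index_ne_zero_of_finite)
      rw [hAG] at h1
      change (Nat.card G - Nat.card (center G)) -
        (Nat.card G - A.index * Nat.card (center G)) ≤ Nat.card M - Nat.card (center G)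
      omega
  refine hN x hx ⟨fun m hm g => ?_⟩
  by_cases hmc : m ∈ center G
  · exact center_le_centralizer _ ((inferInstance : (center G).Normal).conj_mem m hmc g)
  have h1 : m ∈ (center G : Set G)ᶜ \ S := hset ▸ ⟨hm, hmc⟩
  have h2 : g * m * g⁻¹ ∈ (center G : Set G)ᶜ \ S := by
    refine ⟨conj_not_mem_center hmc g, fun hgS => h1.2 ?_⟩
    obtain ⟨-, h, hh⟩ := (hS _).1 hgS
    refine (hS m).2 ⟨hmc, g⁻¹ * h, ?_⟩
    rw [map_mul, mul_smul, ← hh, cent_conj]
    congr 2
    group
  exact (hset ▸ h2).1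

end CentMax

end CfsgLib.HallGen
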