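import Mathlib
import Cfsg.Agent.Lib.HallGen.SylowNumber

/-!
M. Hall: a Sylow number is a product of prime powers `≡ 1 (mod p)` and of Sylow numbers of simple groups.
-/

set_option linter.style.haveILetI false

namespace CfsgLib.HallGen

theorem exists_primePow_list {p n : ℕ} (hp : p.Prime) (h : PartsOne p n) :
    ∃ l : List ℕ, l.prod = n ∧ ∀ m ∈ l, IsPrimePow m ∧ m % p = 1 := by
  refine ⟨n.primeFactors.toList.map fun q => q ^ n.factorization q, ?_, fun m hm => ?_⟩
  · rw [Finset.prod_map_toList]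
    exact Nat.prod_factorization_pow_eq_self h.1
  · simp only [List.mem_map, Finset.mem_toList] at hm
    obtain ⟨q, hq, rfl⟩ := hm
    obtain ⟨hqp, hqn, -⟩ := Nat.mem_primeFactors.1 hq
    refine ⟨hqp.prime.isPrimePow.pow (hqp.factorization_pos_of_dvd h.1 hqn).ne', ?_⟩
    exact Eq.trans (h.2 q hqp) (Nat.mod_eq_of_lt hp.one_lt)

theorem exists_hall_list.{w} (p : ℕ) [Fact p.Prime] : ∀ n : ℕ, ∀ (G : Type w) [Group G] [Finite G],
    Nat.card G = n → ∃ l : List ℕ, l.prod = Nat.card (Sylow p G) ∧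
      ∀ m ∈ l, (IsPrimePow m ∧ m % p = 1) ∨
        ∃ (S : Type w) (_ : Group S) (_ : Finite S), IsSimpleGroup S ∧ m = Nat.card (Sylow p S) := by
  intro n
  induction n using Nat.strong_induction_on with
  | _ n ih =>
    intro G _ _ hn
    subst hn
    rcases subsingleton_or_nontrivial G with h | h
    · refine ⟨[], ?_, by simp⟩
      rw [(default : Sylow p G).card_eq_index_normalizer, eq_comm]
      exact Subgroup.index_eq_one.2 (Subgroup.eq_top_iff' _ |>.2 fun x => by
        rw [Subsingleton.elim x 1]; exact one_mem _)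
    by_cases hs : IsSimpleGroup G
    · exact ⟨[Nat.card (Sylow p G)], by simp, fun m hm => Or.inr
        ⟨G, inferInstance, inferInstance, hs, by simpa using hm⟩⟩
    have hex : ∃ K : Subgroup G, K.Normal ∧ K ≠ ⊥ ∧ K ≠ ⊤ := by
      by_contra hno
      push Not at hno
      exact hs ⟨fun N hN => (em (N = ⊥)).imp_right (hno N hN)⟩
    obtain ⟨K, hK, hbot, htop⟩ := hex
    haveI := hK
    obtain ⟨l1, h1, h1'⟩ := ih _ (CfsgLib.Core.card_quotient_lt K hbot) (G ⧸ K) rfl
    obtain ⟨l2, h2, h2'⟩ := ih _ (CfsgLib.Core.card_subgroup_lt K htop) K rfl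
    obtain ⟨l3, h3, h3'⟩ := exists_primePow_list (Fact.out : p.Prime)
      (partsOne_card_sylow_third K (default : Sylow p G) _ rfl)
    refine ⟨l1 ++ l2 ++ l3, ?_, fun m hm => ?_⟩
    · rw [List.prod_append, List.prod_append, h1, h2, h3]
      exact (card_sylow_product K _ _ rfl).symm
    · simp only [List.mem_append] at hm
      rcases hm with (hm | hm) | hm
      exacts [h1' m hm, h2' m hm, Or.inl (h3' m hm)]

end CfsgLib.HallGen
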