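import Mathlib
import Cfsg.Agent.Lib.HallGen.SylowNumber
import Cfsg.Agent.Lib.Perm.SimpleCount

/-!
No finite simple group has exactly 15 Sylow `7`-subgroups.
-/

set_option linter.style.haveILetI false

open scoped Pointwise

namespace CfsgLib.HallGen

open Subgroup

variable {S : Type*} [Group S] [Finite S]

/-- A Sylow subgroup of prime order `q` with `q - 1` prime to the group order. -/
theorem isPGroup_of_sylow_card_prime [IsSimpleGroup S] {q : ℕ} [Fact q.Prime] (P : Sylow q S)
    (hP : Nat.card (P : Subgroup S) = q) (hcop : (q - 1).Coprime (Nat.card S)) : IsPGroup q S := by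
  by_contra hne
  refine CfsgLib.Perm.not_normalizer_le_centralizer P (hP ▸ card_subgroup_dvd_card _) hne ?_
  intro g hg
  set φ := Subgroup.normalizerMonoidHom (P : Subgroup S) with hφ
  haveI : IsCyclic (P : Subgroup S) := isCyclic_of_prime_card hP
  have h1 : orderOf (φ ⟨g, hg⟩) = 1 := by
    refine Nat.eq_one_of_dvd_coprimes hcop ?_
      (((orderOf_map_dvd φ _).trans (_root_.orderOf_dvd_natCard _)).trans (card_subgroup_dvd_card _))
    refine (_root_.orderOf_dvd_natCard _).trans ?_
    rw [IsCyclic.card_mulAut, hP, Nat.totient_prime (Fact.out)]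
  rw [orderOf_eq_one_iff] at h1
  have hker : (⟨g, hg⟩ : normalizer ((P : Subgroup S) : Set S)) ∈ φ.ker := h1
  rw [hφ, Subgroup.normalizerMonoidHom_ker] at hker
  exact hker

variable {p : ℕ} [Fact p.Prime]

/-- The stabiliser in a Sylow subgroup of another one. -/
theorem stabilizer_sylow_eq (P R : Sylow p S) :
    MulAction.stabilizer (P : Subgroup S) R = (R : Subgroup S).subgroupOf (P : Subgroup S) := by
  ext ⟨x, hx⟩
  rw [MulAction.mem_stabilizer_iff, mem_subgroupOf]
  change x • R = R ↔ _
  rw [Sylow.smul_eq_iff_mem_normalizer]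
  refine ⟨fun h => ?_, fun h => le_normalizer h⟩
  have h2 : (P : Subgroup S) ⊓ normalizer ((R : Subgroup S) : Set S) =
      (P : Subgroup S) ⊓ R := P.isPGroup'.inf_normalizer_sylow R
  exact (h2.le ⟨hx, h⟩).2

theorem eq_of_sylow_le {P R : Sylow p S} (h : (P : Subgroup S) ≤ R) : P = R :=
  Sylow.ext (Subgroup.eq_of_le_of_card_ge h
    (by rw [Sylow.card_eq_multiplicity, Sylow.card_eq_multiplicity]))

/-- The orbit of another Sylow subgroup under `P` has size `[P : P ∩ R] < n_p`. -/
theorem relIndex_lt_card_sylow (P R : Sylow p S) (hne : P ≠ R) :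
    (R : Subgroup S).relIndex P < Nat.card (Sylow p S) := by
  have h : (MulAction.stabilizer (P : Subgroup S) R).index =
      (MulAction.orbit (P : Subgroup S) R).ncard := MulAction.index_stabilizer _ R
  rw [stabilizer_sylow_eq] at h
  rw [relIndex, h, ← Set.ncard_univ]
  refine Set.ncard_lt_ncard ((Set.ssubset_univ_iff).2 fun he => ?_) (Set.toFinite _)
  obtain ⟨⟨x, hx⟩, hxR⟩ : P ∈ MulAction.orbit (P : Subgroup S) R := he ▸ Set.mem_univ P
  change x • R = P at hxR
  have : x⁻¹ • P = R := by rw [← hxR, inv_smul_smul]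
  exact hne (by rw [← this, Sylow.smul_eq_iff_mem_normalizer.2 (le_normalizer (Subgroup.inv_mem _ hx))])

omit [Fact p.Prime] in
/-- With fewer Sylow subgroups than `p ^ 2`, two of them meet in index at most `p`. -/
theorem relIndex_eq_prime {q : ℕ} [Fact q.Prime] (P R : Sylow q S) (hne : P ≠ R)
    (hn : Nat.card (Sylow q S) ≤ q ^ 2) : (R : Subgroup S).relIndex P = q := by
  have hlt := relIndex_lt_card_sylow P R hne
  obtain ⟨a, ha⟩ := IsPGroup.iff_card.1 P.isPGroup'
  have hd : (R : Subgroup S).relIndex P ∣ Nat.card (P : Subgroup S) := index_dvd_card _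
  rw [ha] at hd
  obtain ⟨b, -, hb⟩ := (Nat.dvd_prime_pow (Fact.out : q.Prime)).1 hd
  rw [hb] at hlt ⊢
  have hb2 : b < 2 := (Nat.pow_lt_pow_iff_right (Fact.out : q.Prime).one_lt).1 (hlt.trans_le hn)
  interval_cases b
  · rw [pow_zero] at hb
    exact absurd (eq_of_sylow_le (relIndex_eq_one.1 hb)) hne
  · exact pow_one q

/-- Sylow subgroups above a normal-in-`N` subgroup correspond to Sylow subgroups of `N`. -/
theorem card_sylow_over (D N : Subgroup S) (hDp : IsPGroup p D) (hD : D ≤ N) [(D.subgroupOf N).Normal]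
    (h : ∀ R : Sylow p S, D ≤ R → (R : Subgroup S) ≤ N) (P : Sylow p S) (hP : D ≤ P) :
    Nat.card {R : Sylow p S // D ≤ R} = Nat.card (Sylow p N) := by
  refine Nat.card_congr (Equiv.ofBijective (fun R => R.1.subtype (h R.1 R.2)) ⟨?_, ?_⟩)
  · rintro ⟨R1, h1⟩ ⟨R2, h2⟩ he
    exact Subtype.ext (Sylow.subtype_injective he)
  · intro R'
    obtain ⟨g, hg⟩ := MulAction.exists_smul_eq N (P.subtype (h P hP)) R'
    have hDR : D.subgroupOf N ≤ R' := IsPGroup.le_sylow_of_normal (N := D.subgroupOf N)
      (IsPGroup.comap_subtype hDp) R'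
    have hd : D ≤ ((g : S) • P : Sylow p S) := by
      intro d hd
      have h1 : (⟨d, hD hd⟩ : N) ∈ (g • P.subtype (h P hP) : Sylow p N) := hg ▸ hDR hd
      rw [Sylow.smul_subtype] at h1
      exact h1
    refine ⟨⟨(g : S) • P, hd⟩, ?_⟩
    rw [← hg, Sylow.smul_subtype]
    rfl

section Seven

variable [IsSimpleGroup S]

/-- A finite simple group does not have 15 Sylow `7`-subgroups. -/
theorem card_sylow_seven_ne_fifteen [Fact (Nat.Prime 7)] : Nat.card (Sylow 7 S) ≠ 15 := by
  classical
  intro hn
  let P : Sylow 7 S := default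
  have hidx : (normalizer ((P : Subgroup S) : Set S)).index = 15 := by
    rw [← hn, P.card_eq_index_normalizer]; rfl
  have hNtop : normalizer ((P : Subgroup S) : Set S) ≠ ⊤ := by
    intro h; rw [h, index_top] at hidx; omega
  have h15 : 15 ∣ Nat.card S := hidx ▸ index_dvd_card _
  have hnab : ¬ IsMulCommutative S := CfsgLib.Perm.not_comm_of_not_prime fun hp => by
    have := (Nat.prime_dvd_prime_iff_eq Nat.prime_three hp).1 ((show 3 ∣ 15 by norm_num).trans h15)
    omega
  have hdvd : 2 * Nat.card S ∣ Nat.factorial 15 :=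
    hidx ▸ CfsgLib.Perm.two_mul_card_dvd_factorial_index hnab _ hNtop
  obtain ⟨a, ha⟩ := IsPGroup.iff_card.1 P.isPGroup'
  have ha2 : a < 3 := by
    by_contra h
    have h1 : 7 ^ 3 ∣ Nat.factorial 15 :=
      ((pow_dvd_pow 7 (by omega : 3 ≤ a)).trans (ha ▸ card_subgroup_dvd_card _)).trans
        ((Dvd.intro_left 2 rfl).trans hdvd)
    norm_num [Nat.factorial] at h1
  have hne : ¬ IsPGroup 7 S :=
    CfsgLib.Perm.not_isPGroup_of_dvd Nat.prime_three (by norm_num) ((show 3 ∣ 15 by norm_num).trans h15)
  interval_cases a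
  · -- trivial Sylow subgroup
    have : (P : Subgroup S) = ⊥ := eq_bot_of_card_eq _ (by simpa using ha)
    refine hNtop ?_
    rw [this]
    exact normalizer_eq_top _
  · -- order 7
    rw [pow_one] at ha
    have hC : ∀ y ∈ centralizer ((P : Subgroup S) : Set S), ∀ q : ℕ, q.Prime → orderOf y = q → q = 7 := by
      intro y hy q hq hoy
      by_contra hq7
      haveI := Fact.mk hq
      haveI : Fintype (Sylow 7 S) := Fintype.ofFinite _
      let φ : S →* Equiv.Perm (Sylow 7 S) := MulAction.toPermHom S (Sylow 7 S)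
      have hφ : Function.Injective φ := by
        rw [← MonoidHom.ker_eq_bot_iff]
        refine (MonoidHom.normal_ker φ).eq_bot_or_eq_top.resolve_right fun h => hNtop ?_
        rw [eq_top_iff]
        intro g _
        have hg : g ∈ φ.ker := h ▸ mem_top g
        exact Sylow.smul_eq_iff_mem_normalizer.1 (Equiv.ext_iff.1 hg P)
      obtain ⟨g, hg⟩ := exists_prime_orderOf_dvd_card' (G := (P : Subgroup S)) 7 (by rw [ha])
      set σ := φ y with hσdef
      have hσo : orderOf σ = q := by rw [hσdef, orderOf_injective φ hφ, hoy]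
      have hcomm : φ (g : S) * σ = σ * φ (g : S) := by
        rw [← map_mul, ← map_mul, mem_centralizer_iff.1 hy g g.2]
      have hfixP : σ P = P :=
        Sylow.smul_eq_iff_mem_normalizer.2 (centralizer_le_normalizer _ hy)
      have hinv : ∀ R, φ (g : S) R ∈ σ.support ↔ R ∈ σ.support := fun R => by
        rw [Equiv.Perm.mem_support, Equiv.Perm.mem_support, not_iff_not,
          ← Equiv.Perm.mul_apply, ← hcomm, Equiv.Perm.mul_apply, (φ (g : S)).injective.eq_iff]
      have h7 : 7 ∣ σ.support.card := by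
        by_contra hnd
        let τ : Equiv.Perm {R // R ∈ σ.support} := (φ (g : S)).subtypePerm hinv
        obtain ⟨⟨R, hR⟩, hRfix⟩ := Equiv.Perm.exists_fixed_point_of_prime (n := 1) (p := 7)
          (by rwa [Fintype.card_coe]) (σ := τ) (by
            rw [pow_one]
            ext R
            have hg7 : ((g : S)) ^ 7 = 1 := by
              have h0 := pow_orderOf_eq_one g
              rw [hg] at h0
              simpa using congrArg Subtype.val h0
            simp [τ, ← map_pow, hg7])
        have hgR : (g : S) • R = R := congrArg Subtype.val hRfix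
        have hPR : P ≠ R := by
          rintro rfl
          exact Equiv.Perm.mem_support.1 hR hfixP
        have h1 : (R : Subgroup S).subgroupOf (P : Subgroup S) = ⊤ := by
          refine eq_top_iff.2 fun x _ => ?_
          have hgen : Subgroup.zpowers g = ⊤ := eq_top_of_card_eq _ (by rw [Nat.card_zpowers, hg, ha])
          rw [← stabilizer_sylow_eq]
          obtain ⟨i, rfl⟩ := mem_zpowers_iff.1 (hgen ▸ mem_top x : x ∈ Subgroup.zpowers g)
          exact Subgroup.zpow_mem _ (MulAction.mem_stabilizer_iff.2 hgR) i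
        exact hPR (eq_of_sylow_le (subgroupOf_eq_top.1 h1))
      have hσ1 : σ ≠ 1 := fun h => hq.one_lt.ne' (by rw [← hσo, h, orderOf_one])
      obtain ⟨k, hk⟩ := Equiv.Perm.cycleType_prime_order (σ := σ) (hσo ▸ hq)
      rw [hσo] at hk
      have hsum : σ.support.card = (k + 1) * q := by
        rw [← Equiv.Perm.sum_cycleType, hk, Multiset.sum_replicate, smul_eq_mul]
      have hle : σ.support.card ≤ 14 := by
        have : σ.support ⊆ Finset.univ.erase P := fun R hR =>
          Finset.mem_erase.2 ⟨fun h => Equiv.Perm.mem_support.1 hR (h ▸ hfixP), Finset.mem_univ _⟩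
        refine (Finset.card_le_card this).trans ?_
        rw [Finset.card_erase_of_mem (Finset.mem_univ _), Finset.card_univ, ← Nat.card_eq_fintype_card, hn]
      have h7q : 7 ∣ k + 1 := ((Nat.coprime_primes (by norm_num) hq).2 (Ne.symm hq7)).dvd_of_dvd_mul_right
        (hsum ▸ h7)
      have hk6 : k = 6 ∧ q = 2 := by
        obtain ⟨c, hc⟩ := h7q
        rw [hsum, hc] at hle
        have hq2 := hq.two_le
        have : c = 1 := by
          rcases c with _ | _ | c
          · omega
          · rfl
          · nlinarith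
        subst this
        constructor <;> omega
      have hs := CfsgLib.Perm.hom_comm_trivial hnab (Equiv.Perm.sign.comp φ) y
      rw [MonoidHom.comp_apply, ← hσdef, Equiv.Perm.sign_of_cycleType, hk, hk6.1, hk6.2] at hs
      simp at hs
      exact absurd hs (by decide)
    -- the centralizer is P
    have hCP : Nat.card (centralizer ((P : Subgroup S) : Set S)) = 7 := by
      obtain ⟨b, hb⟩ : ∃ b, Nat.card (centralizer ((P : Subgroup S) : Set S)) = 7 ^ b := by
        refine ⟨_, Nat.eq_prime_pow_of_unique_prime_dvd Nat.card_pos.ne' fun {q} hq hqd => ?_⟩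
        haveI := Fact.mk hq
        obtain ⟨y, hy⟩ := exists_prime_orderOf_dvd_card' q hqd
        exact hC y y.2 q hq (by rw [Subgroup.orderOf_coe, hy])
      rw [hb]
      have hge : (P : Subgroup S) ≤ centralizer ((P : Subgroup S) : Set S) := by
        haveI : IsCyclic (P : Subgroup S) := isCyclic_of_prime_card ha
        intro x hx
        rw [mem_centralizer_iff]
        intro z hz
        obtain ⟨w, hw⟩ := IsCyclic.exists_generator (α := (P : Subgroup S))
        obtain ⟨i, hi⟩ := mem_zpowers_iff.1 (hw ⟨x, hx⟩)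
        obtain ⟨j, hj⟩ := mem_zpowers_iff.1 (hw ⟨z, hz⟩)
        have := congrArg Subtype.val (show (⟨z, hz⟩ : (P : Subgroup S)) * ⟨x, hx⟩ = ⟨x, hx⟩ * ⟨z, hz⟩ by
          rw [← hi, ← hj, ← zpow_add, ← zpow_add, add_comm])
        exact this
      have hb1 : b ≤ 1 := by
        rw [← (Nat.pow_dvd_pow_iff_le_right (x := 7) (by norm_num)), ← hb]
        have hpc : IsPGroup 7 (centralizer ((P : Subgroup S) : Set S)) := IsPGroup.of_card hb
        have := P.is_maximal' hpc hge
        rw [this, ha, pow_one]
      have : 7 ∣ 7 ^ b := by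
        have h0 := card_dvd_of_le hge
        rwa [ha, hb] at h0
      interval_cases b
      · norm_num at this
      · norm_num
    have hN : ∃ e, e ∣ 6 ∧ Nat.card (normalizer ((P : Subgroup S) : Set S)) = 7 * e := by
      set φ := Subgroup.normalizerMonoidHom (P : Subgroup S) with hφ
      haveI : IsCyclic (P : Subgroup S) := isCyclic_of_prime_card ha
      refine ⟨φ.ker.index, ?_, ?_⟩
      · rw [Subgroup.index_ker]
        refine (card_subgroup_dvd_card _).trans ?_
        rw [IsCyclic.card_mulAut, ha, Nat.totient_prime (by norm_num)]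
      · rw [← φ.ker.card_mul_index, hφ, Subgroup.normalizerMonoidHom_ker,
          Nat.card_congr (subgroupOfEquivOfLe (centralizer_le_normalizer _)).toEquiv, hCP]
    obtain ⟨e, he, hNc⟩ := hN
    have hS : Nat.card S = 15 * (7 * e) := by
      rw [← hNc, ← hidx, index_mul_card]
    have he' : e ≤ 6 := Nat.le_of_dvd (by norm_num) he
    haveI : Fact (Nat.Prime 5) := ⟨by norm_num⟩
    haveI : Fact (Nat.Prime 2) := ⟨Nat.prime_two⟩
    have h5 : (5 ∣ Nat.card S) := ⟨3 * (7 * e), by rw [hS]; ring⟩
    have h2 : ∀ m, Nat.card S = 2 * m → ¬ 2 ∣ m → False := fun m hm hodd => by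
      have := isPGroup_of_sylow_card_prime (default : Sylow 2 S)
        (by rw [CfsgLib.Perm.sylow_card_eq _ (k := 1) (by rw [pow_one]; exact hm) hodd, pow_one])
        (by norm_num)
      exact CfsgLib.Perm.not_isPGroup_of_dvd (q := 5) (by norm_num) (by norm_num) h5 this
    have h5' : ∀ m, Nat.card S = 5 * m → ¬ 5 ∣ m → (Nat.card S).Coprime 4 → False := fun m hm hnd hc => by
      have := isPGroup_of_sylow_card_prime (default : Sylow 5 S)
        (by rw [CfsgLib.Perm.sylow_card_eq _ (k := 1) (by rw [pow_one]; exact hm) hnd, pow_one])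
        (by simpa using hc.symm)
      exact CfsgLib.Perm.not_isPGroup_of_dvd (q := 3) (by norm_num) (by norm_num)
        ((show 3 ∣ 15 by norm_num).trans h15) this
    interval_cases e
    · norm_num at he
    · exact h5' 21 (by omega) (by norm_num) (by rw [hS]; norm_num)
    · exact h2 105 (by omega) (by norm_num)
    · exact h5' 63 (by omega) (by norm_num) (by rw [hS]; norm_num)
    · norm_num at he
    · norm_num at he
    · exact h2 315 (by omega) (by norm_num)
  · -- order 49
    have habel : ∀ R : Sylow 7 S, ∀ x ∈ (R : Subgroup S), ∀ y ∈ (R : Subgroup S), x * y = y * x := by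
      intro R x hx y hy
      have hc : Nat.card (R : Subgroup S) = 7 ^ 2 := by
        rw [← ha, Sylow.card_eq_multiplicity, Sylow.card_eq_multiplicity]
      haveI := IsPGroup.isMulCommutative_of_card_eq_prime_sq hc
      exact congrArg Subtype.val (IsMulCommutative.is_comm.comm (⟨x, hx⟩ : (R : Subgroup S)) ⟨y, hy⟩)
    have hRc : ∀ R : Sylow 7 S, Nat.card (R : Subgroup S) = 49 := fun R => by
      rw [show (49 : ℕ) = 7 ^ 2 by norm_num, ← ha, Sylow.card_eq_multiplicity, Sylow.card_eq_multiplicity]
    have hinf : ∀ R Q : Sylow 7 S, R ≠ Q → Nat.card ((Q : Subgroup S) ⊓ R : Subgroup S) = 7 := by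
      intro R Q hRQ
      have h1 := relIndex_eq_prime Q R (Ne.symm hRQ) (by rw [hn]; norm_num)
      rw [← inf_relIndex_right] at h1
      have h2 := relIndex_mul_relIndex ⊥ ((R : Subgroup S) ⊓ Q) Q bot_le inf_le_right
      rw [relIndex_bot_left, relIndex_bot_left, h1, hRc] at h2
      rw [inf_comm]
      omega
    -- the subgroups of order 7 in two Sylow subgroups
    let T := {D : Subgroup S // Nat.card D = 7 ∧ ∃ R Q : Sylow 7 S, R ≠ Q ∧ D ≤ R ∧ D ≤ Q}
    have hover : ∀ D : T, Nat.card {R : Sylow 7 S // D.1 ≤ R} = 8 := by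
      rintro ⟨D, hD, R0, Q0, hRQ, hR0, hQ0⟩
      have hDp : IsPGroup 7 D := IsPGroup.of_card (n := 1) (by rw [hD, pow_one])
      have hle : ∀ R : Sylow 7 S, D ≤ R → (R : Subgroup S) ≤ normalizer (D : Set S) := by
        intro R hR x hx
        refine centralizer_le_normalizer _ (mem_centralizer_iff.2 fun d hd => ?_)
        exact habel R d (hR hd) x hx
      haveI : (D.subgroupOf (normalizer (D : Set S))).Normal := normal_in_normalizer
      have heq := card_sylow_over D _ hDp le_normalizer hle R0 hR0
      have hmod : Nat.card (Sylow 7 (normalizer (D : Set S))) ≡ 1 [MOD 7] := card_sylow_modEq_one 7 _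
      have hle15 : Nat.card {R : Sylow 7 S // D ≤ R} ≤ 15 :=
        hn ▸ Nat.card_le_card_of_injective _ Subtype.val_injective
      have hge2 : 2 ≤ Nat.card {R : Sylow 7 S // D ≤ R} := by
        haveI : Nontrivial {R : Sylow 7 S // D ≤ R} :=
          ⟨⟨⟨R0, hR0⟩, ⟨Q0, hQ0⟩, fun h => hRQ (congrArg Subtype.val h)⟩⟩
        exact Finite.one_lt_card
      have hne15 : Nat.card {R : Sylow 7 S // D ≤ R} ≠ 15 := by
        intro h
        have hall : ∀ R : Sylow 7 S, D ≤ R := by
          intro R
          have hbij := (Nat.bijective_iff_injective_and_card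
            (Subtype.val : {R : Sylow 7 S // D ≤ R} → Sylow 7 S)).2 ⟨Subtype.val_injective, by rw [h, hn]⟩
          obtain ⟨⟨R', hR'⟩, rfl⟩ := hbij.2 R
          exact hR'
        have hcore : D ≤ Cfsg.pCore 7 S := fun d hd =>
          mem_pCore_of_forall_sylow 7 d fun R => hall R hd
        rcases (pCore_normal' (G := S) 7).eq_bot_or_eq_top with hb | ht
        · rw [hb, le_bot_iff] at hcore
          rw [hcore, Subgroup.card_bot] at hD
          norm_num at hD
        · exact hne ((isPGroup_pCore (G := S) 7).of_equiv ((MulEquiv.subgroupCongr ht).trans Subgroup.topEquiv))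
      rw [heq] at hle15 hge2 hne15 ⊢
      have := hmod
      unfold Nat.ModEq at this
      omega
    let X : Sylow 7 S → Type _ := fun R => {D : T // D.1 ≤ R}
    have hXle : ∀ R, Nat.card (X R) ≤ 2 := by
      intro R
      haveI := Fintype.ofFinite (X R)
      let f : (Σ D : X R, {Q : {Q : Sylow 7 S // D.1.1 ≤ Q} // Q.1 ≠ R}) → {Q : Sylow 7 S // Q ≠ R} :=
        fun z => ⟨z.2.1.1, z.2.2⟩
      have hf : Function.Injective f := by
        rintro ⟨⟨⟨D1, hD1⟩, h1⟩, ⟨Q1, hQ1⟩, hne1⟩ ⟨⟨⟨D2, hD2⟩, h2⟩, ⟨Q2, hQ2⟩, hne2⟩ he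
        have hQ : Q1 = Q2 := congrArg Subtype.val he
        subst hQ
        have e1 : D1 = (R : Subgroup S) ⊓ Q1 := Subgroup.eq_of_le_of_card_ge (le_inf h1 hQ1)
          (by rw [hinf Q1 R hne1, hD1.1])
        have e2 : D2 = (R : Subgroup S) ⊓ Q1 := Subgroup.eq_of_le_of_card_ge (le_inf h2 hQ2)
          (by rw [hinf Q1 R hne1, hD2.1])
        have : D1 = D2 := e1.trans e2.symm
        subst this
        rfl
      have h1 := Nat.card_le_card_of_injective f hf
      rw [Nat.card_sigma] at h1
      have h2 : ∀ D : X R, Nat.card {Q : {Q : Sylow 7 S // D.1.1 ≤ Q} // Q.1 ≠ R} = 7 := by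
        intro D
        have h8 := hover D.1
        haveI := Fintype.ofFinite {Q : Sylow 7 S // D.1.1 ≤ Q}
        rw [Nat.card_eq_fintype_card] at h8 ⊢
        rw [Fintype.card_subtype]
        have e : (Finset.univ.filter fun Q : {Q : Sylow 7 S // D.1.1 ≤ Q} => Q.1 ≠ R) =
            Finset.univ.erase ⟨R, D.2⟩ := by
          ext Q; simp [Subtype.ext_iff]
        rw [e, Finset.card_erase_of_mem (Finset.mem_univ _), Finset.card_univ, h8]
      have h3 : Nat.card {Q : Sylow 7 S // Q ≠ R} = 14 := by
        haveI := Fintype.ofFinite (Sylow 7 S)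
        rw [Nat.card_eq_fintype_card, Fintype.card_subtype_compl, Fintype.card_subtype_eq,
          ← Nat.card_eq_fintype_card, hn]
      simp only [h2, Finset.sum_const, Finset.card_univ, smul_eq_mul, h3] at h1
      rw [Nat.card_eq_fintype_card]
      omega
    have hXconst : ∀ R, Nat.card (X R) = Nat.card (X P) := by
      intro R
      obtain ⟨g, rfl⟩ := MulAction.exists_smul_eq S P R
      symm
      have key : ∀ (c : S) (D : T), Nat.card (MulAut.conj c • D.1 : Subgroup S) = 7 ∧
          ∃ A B : Sylow 7 S, A ≠ B ∧ MulAut.conj c • D.1 ≤ A ∧ MulAut.conj c • D.1 ≤ B := by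
        rintro c ⟨D, hD, A, B, hAB, hA, hB⟩
        exact ⟨by rw [CfsgLib.Core.card_conj_smul, hD], c • A, c • B,
          (MulAction.injective c).ne hAB, CfsgLib.Core.conj_smul_mono hA, CfsgLib.Core.conj_smul_mono hB⟩
      let mv : S → T → T := fun c D => ⟨MulAut.conj c • D.1, key c D⟩
      refine Nat.card_congr
        { toFun := fun D => ⟨mv g D.1, CfsgLib.Core.conj_smul_mono D.2⟩
          invFun := fun D => ⟨mv g⁻¹ D.1, ?_⟩
          left_inv := fun D => Subtype.ext (Subtype.ext (by
            change MulAut.conj g⁻¹ • MulAut.conj g • D.1.1 = D.1.1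
            rw [CfsgLib.Core.conj_smul_conj_smul, inv_mul_cancel, CfsgLib.Core.conj_one_smul]))
          right_inv := fun D => Subtype.ext (Subtype.ext (by
            change MulAut.conj g • MulAut.conj g⁻¹ • D.1.1 = D.1.1
            rw [CfsgLib.Core.conj_smul_conj_smul, mul_inv_cancel, CfsgLib.Core.conj_one_smul])) }
      have h := CfsgLib.Core.conj_smul_mono (g := g⁻¹) D.2
      have e : MulAut.conj g⁻¹ • ((g • P : Sylow 7 S) : Subgroup S) = (P : Subgroup S) := by
        rw [Sylow.coe_subgroup_smul, CfsgLib.Core.conj_smul_conj_smul, inv_mul_cancel,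
          CfsgLib.Core.conj_one_smul]
      exact h.trans e.le
    have hX1 : 1 ≤ Nat.card (X P) := by
      haveI : Nontrivial (Sylow 7 S) := Finite.one_lt_card_iff_nontrivial.1 (by omega)
      obtain ⟨R, hR⟩ := exists_ne P
      haveI : Nonempty (X P) :=
        ⟨⟨⟨(P : Subgroup S) ⊓ R, hinf R P hR, R, P, hR, inf_le_right, inf_le_left⟩, inf_le_left⟩⟩
      exact Nat.card_pos
    have hsum : Nat.card (Σ R : Sylow 7 S, X R) = Nat.card (Σ D : T, {R : Sylow 7 S // D.1 ≤ R}) :=
      Nat.card_congr
        { toFun := fun z => ⟨z.2.1, z.1, z.2.2⟩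
          invFun := fun z => ⟨z.2.1, z.1, z.2.2⟩
          left_inv := fun z => rfl
          right_inv := fun z => rfl }
    haveI := Fintype.ofFinite (Sylow 7 S)
    haveI := Fintype.ofFinite T
    rw [Nat.card_sigma, Nat.card_sigma] at hsum
    simp only [hXconst, hover, Finset.sum_const, Finset.card_univ, smul_eq_mul] at hsum
    rw [← Nat.card_eq_fintype_card, hn] at hsum
    have := hXle P
    omega

end Seven

end CfsgLib.HallGen
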