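import Mathlib.LinearAlgebra.Matrix.SpecialLinearGroup
import Mathlib.Algebra.Group.Subgroup.Ker
import Mathlib.FieldTheory.Finite.Basic
import Mathlib.Tactic.LinearCombination
import Mathlib.Tactic.FieldSimp
import Mathlib.Tactic.FinCases

/-!
# Elementary facts on `SL(2,F)` in odd characteristic

Two automorphism patterns (diagonal and antidiagonal conjugation) and their use on square roots of
`±1`, as needed for involution centralisers inside Chevalley groups.
-/

set_option autoImplicit false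

namespace CfsgLib.HallGen.SLTwo

open Matrix
open scoped MatrixGroups

variable {F : Type*} [Field F]

/-- The element with the given entries. -/
def mk (a b c d : F) (h : a * d - b * c = 1) : SL(2, F) :=
  ⟨!![a, b; c, d], by rw [det_fin_two_of, h]⟩

section
variable (a b c d : F) (h : a * d - b * c = 1)

@[simp] theorem mk_00 : (mk a b c d h).1 0 0 = a := rfl
@[simp] theorem mk_01 : (mk a b c d h).1 0 1 = b := rfl
@[simp] theorem mk_10 : (mk a b c d h).1 1 0 = c := rfl
@[simp] theorem mk_11 : (mk a b c d h).1 1 1 = d := rfl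

end

theorem det_eq (g : SL(2, F)) : g.1 0 0 * g.1 1 1 - g.1 0 1 * g.1 1 0 = 1 :=
  (det_fin_two g.1).symm.trans g.2

/-- Upper unitriangular. -/
def X (t : F) : SL(2, F) := mk 1 t 0 1 (by ring)

/-- Lower unitriangular. -/
def L (t : F) : SL(2, F) := mk 1 0 t 1 (by ring)

/-- The Weyl element. -/
def W : SL(2, F) := mk 0 (-1) 1 0 (by ring)

theorem ext2 {g h : SL(2, F)} (h00 : g.1 0 0 = h.1 0 0) (h01 : g.1 0 1 = h.1 0 1)
    (h10 : g.1 1 0 = h.1 1 0) (h11 : g.1 1 1 = h.1 1 1) : g = h := by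
  apply Subtype.ext
  ext i j
  fin_cases i <;> fin_cases j <;> assumption

theorem mul_apply2 (g h : SL(2, F)) (i j : Fin 2) :
    (g * h).1 i j = g.1 i 0 * h.1 0 j + g.1 i 1 * h.1 1 j :=
  show (g.1 * h.1) i j = _ by rw [Matrix.mul_apply, Fin.sum_univ_two]

theorem eq_top_of_unipotent {H : Subgroup SL(2, F)} (hX : ∀ t, X t ∈ H) (hL : ∀ t, L t ∈ H) :
    H = ⊤ := by
  have key : ∀ g : SL(2, F), g.1 1 0 ≠ 0 → g ∈ H := by
    intro g hc
    have hd := det_eq g
    have e : g = X ((g.1 0 0 - 1) / g.1 1 0) * L (g.1 1 0) * X ((g.1 1 1 - 1) / g.1 1 0) := by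
      refine ext2 ?_ ?_ ?_ ?_ <;> simp [X, L, mul_apply2] <;> field_simp
      · ring
      · linear_combination -hd
      · ring
    rw [e]
    exact mul_mem (mul_mem (hX _) (hL _)) (hX _)
  refine eq_top_iff.2 fun g _ => ?_
  by_cases hc : g.1 1 0 = 0
  · have ha : g.1 0 0 ≠ 0 := fun h => by
      have := det_eq g
      rw [h, hc] at this
      simp at this
    have e : g = (L 1)⁻¹ * (L 1 * g) := by group
    rw [e]
    refine mul_mem (inv_mem (hL 1)) (key _ ?_)
    simp [L, mul_apply2, hc, ha]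
  · exact key g hc

theorem hom_ext {G : Type*} [Group G] {f f' : SL(2, F) →* G} (hX : ∀ t, f (X t) = f' (X t))
    (hL : ∀ t, f (L t) = f' (L t)) : f = f' := by
  have h := eq_top_of_unipotent (H := f.eqLocus f') hX hL
  exact MonoidHom.ext fun g => (show g ∈ f.eqLocus f' from h ▸ Subgroup.mem_top g)

/-- Conjugation by `diag(a,1)`. -/
def diagConj (a : F) (ha : a ≠ 0) : SL(2, F) →* SL(2, F) where
  toFun g := mk (g.1 0 0) (a * g.1 0 1) (g.1 1 0 / a) (g.1 1 1) (by
    refine Eq.trans ?_ (det_eq g); field_simp)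
  map_one' := by refine ext2 ?_ ?_ ?_ ?_ <;> simp
  map_mul' g h := by
    refine ext2 ?_ ?_ ?_ ?_ <;> simp [mul_apply2] <;> field_simp

/-- Conjugation by `!![0, 1; a, 0]`. -/
def antiConj (a : F) (ha : a ≠ 0) : SL(2, F) →* SL(2, F) where
  toFun g := mk (g.1 1 1) (g.1 1 0 / a) (a * g.1 0 1) (g.1 0 0) (by
    refine Eq.trans ?_ (det_eq g); field_simp)
  map_one' := by refine ext2 ?_ ?_ ?_ ?_ <;> simp
  map_mul' g h := by
    refine ext2 ?_ ?_ ?_ ?_ <;> simp [mul_apply2] <;> field_simp <;> ring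

theorem diagConj_X (a : F) (ha : a ≠ 0) (t : F) : diagConj a ha (X t) = X (a * t) := by
  refine ext2 ?_ ?_ ?_ ?_ <;> simp [diagConj, X]

theorem diagConj_L (a : F) (ha : a ≠ 0) (t : F) : diagConj a ha (L t) = L (a⁻¹ * t) := by
  refine ext2 ?_ ?_ ?_ ?_ <;> simp [diagConj, L] <;> field_simp

theorem antiConj_X (a : F) (ha : a ≠ 0) (t : F) : antiConj a ha (X t) = L (a * t) := by
  refine ext2 ?_ ?_ ?_ ?_ <;> simp [antiConj, X, L]

theorem antiConj_L (a : F) (ha : a ≠ 0) (t : F) : antiConj a ha (L t) = X (a⁻¹ * t) := by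
  refine ext2 ?_ ?_ ?_ ?_ <;> simp [antiConj, X, L] <;> field_simp

theorem W_sq : (W : SL(2, F)) * W = -1 := by
  refine ext2 ?_ ?_ ?_ ?_ <;> simp [W, mul_apply2]

theorem neg_comm (g : SL(2, F)) : g * (-1) = (-1) * g := by
  refine ext2 ?_ ?_ ?_ ?_ <;> simp [mul_apply2]

theorem eq_one_or_neg {g : SL(2, F)} (hb : g.1 0 1 = 0) (hc : g.1 1 0 = 0)
    (had : g.1 0 0 = g.1 1 1) : g = 1 ∨ g = -1 := by
  have h := det_eq g
  rw [hb, hc, ← had, mul_zero, sub_zero] at h
  rcases mul_self_eq_one_iff.1 h with ha | ha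
  · refine Or.inl (ext2 ?_ ?_ ?_ ?_) <;> simp [hb, hc, ← had, ha]
  · refine Or.inr (ext2 ?_ ?_ ?_ ?_) <;> simp [hb, hc, ← had, ha]

theorem eq_pm_one_of_central {g : SL(2, F)} (h : ∀ t, g * X t = X t * g) (h' : ∀ t, g * L t = L t * g) :
    g = 1 ∨ g = -1 := by
  have e0 := congrArg (fun x : SL(2, F) => x.1 0 0) (h 1)
  have e1 := congrArg (fun x : SL(2, F) => x.1 0 1) (h 1)
  have e2 := congrArg (fun x : SL(2, F) => x.1 0 0) (h' 1)
  simp [X, L, mul_apply2] at e0 e1 e2
  refine eq_one_or_neg e2 e0 ?_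
  linear_combination e1

variable [Fintype F]

theorem ringChar_ne_two (h2 : (2 : F) ≠ 0) : ringChar F ≠ 2 := fun h => h2 (by
  rw [← Nat.cast_ofNat (R := F), ← h]; exact CharP.cast_eq_zero F (ringChar F))

theorem two_ne_zero_of_odd (hF : Odd (Fintype.card F)) : (2 : F) ≠ 0 := fun h => by
  haveI := ringChar.charP F
  have h2 : ringChar F ∣ 2 := ringChar.dvd (by exact_mod_cast h)
  have hp : (ringChar F).Prime := CharP.char_is_prime F _
  have := FiniteField.even_card_iff_char_two.1 ((Nat.prime_dvd_prime_iff_eq hp Nat.prime_two).1 h2)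
  rw [Nat.odd_iff] at hF
  omega

/-- The form `x² + k y²` represents every non-zero value. -/
theorem exists_sq_add (h2 : (2 : F) ≠ 0) {k : F} (hk : k ≠ 0) (r : F) :
    ∃ x y : F, x ^ 2 + k * y ^ 2 = r := by
  have hodd : Fintype.card F % 2 = 1 := by
    by_contra h
    exact ringChar_ne_two h2 (FiniteField.even_card_iff_char_two.2 (by omega))
  obtain ⟨x, y, h⟩ := FiniteField.exists_root_sum_quadratic (R := F)
    (f := Polynomial.X ^ 2 - Polynomial.C r) (g := Polynomial.C k * Polynomial.X ^ 2)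
    (Polynomial.degree_X_pow_sub_C (by norm_num) r) (Polynomial.degree_C_mul_X_pow 2 hk) hodd
  refine ⟨x, y, ?_⟩
  simp at h
  linear_combination h

theorem exists_antiConj_eq_neg (h2 : (2 : F) ≠ 0) (a : F) (ha : a ≠ 0) :
    ∃ u : SL(2, F), antiConj a ha u = -u := by
  obtain ⟨x, y, h⟩ := exists_sq_add h2 (neg_ne_zero.2 ha) (-1)
  refine ⟨mk x y (-a * y) (-x) (by linear_combination -h), ?_⟩
  refine ext2 ?_ ?_ ?_ ?_ <;> simp [antiConj] <;> field_simp

/-- Square roots of `-1` are conjugate to `W`. -/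
theorem exists_conj_W (h2 : (2 : F) ≠ 0) {g : SL(2, F)} (hg : g * g = -1) :
    ∃ u : SL(2, F), u * W * u⁻¹ = g := by
  have hd := det_eq g
  have e00 := congrArg (fun x : SL(2, F) => x.1 0 0) hg
  have e01 := congrArg (fun x : SL(2, F) => x.1 0 1) hg
  have e10 := congrArg (fun x : SL(2, F) => x.1 1 0) hg
  have e11 := congrArg (fun x : SL(2, F) => x.1 1 1) hg
  simp [mul_apply2] at e00 e01 e10 e11
  set a := g.1 0 0
  set b := g.1 0 1
  set c := g.1 1 0
  set d := g.1 1 1
  have htr : d = -a := by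
    have h0 : (a + d) * (a + d) = 0 := by linear_combination e00 + e11 + 2 * hd
    exact eq_neg_of_add_eq_zero_right (mul_self_eq_zero.1 h0)
  obtain ⟨x, y, hxy⟩ : ∃ x y : F, x * (c * x + d * y) - y * (a * x + b * y) = 1 := by
    by_cases hc : c = 0
    · have ha : a ≠ 0 := fun h => by rw [h, hc] at e00; simp at e00
      refine ⟨-(1 + b) / (2 * a), 1, ?_⟩
      rw [hc, htr]
      field_simp
      ring
    · obtain ⟨s, t, hst⟩ := exists_sq_add h2 (one_ne_zero (α := F)) c
      refine ⟨(s + a * t) / c, t, ?_⟩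
      rw [htr] at hd ⊢
      field_simp
      linear_combination hst + t ^ 2 * hd
  refine ⟨mk x (a * x + b * y) y (c * x + d * y) (by linear_combination hxy), mul_inv_eq_iff_eq_mul.2 ?_⟩
  refine ext2 ?_ ?_ ?_ ?_ <;> simp [W, mul_apply2, a, b, c, d]
  all_goals first
    | linear_combination (0 : F) * e00
    | linear_combination x * e00 + y * e01
    | linear_combination -x * e00 - y * e01
    | linear_combination x * e10 + y * e11
    | linear_combination -x * e10 - y * e11

theorem eq_pm_one_of_sq (h2 : (2 : F) ≠ 0) {g : SL(2, F)} (hg : g * g = 1) : g = 1 ∨ g = -1 := by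
  have hd := det_eq g
  have e00 := congrArg (fun x : SL(2, F) => x.1 0 0) hg
  have e01 := congrArg (fun x : SL(2, F) => x.1 0 1) hg
  have e10 := congrArg (fun x : SL(2, F) => x.1 1 0) hg
  have e11 := congrArg (fun x : SL(2, F) => x.1 1 1) hg
  simp [mul_apply2] at e00 e01 e10 e11
  have hs : g.1 0 0 + g.1 1 1 ≠ 0 := fun h => by
    have h4 : (2 : F) * 2 = 0 := by linear_combination -e00 - e11 - 2 * hd + (g.1 0 0 + g.1 1 1) * h
    exact h2 (mul_self_eq_zero.1 h4)
  have hb : g.1 0 1 = 0 := (mul_eq_zero.1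
    (show g.1 0 1 * (g.1 0 0 + g.1 1 1) = 0 by linear_combination e01)).resolve_right hs
  have hc : g.1 1 0 = 0 := (mul_eq_zero.1
    (show g.1 1 0 * (g.1 0 0 + g.1 1 1) = 0 by linear_combination e10)).resolve_right hs
  refine eq_one_or_neg hb hc (sub_eq_zero.1 ((mul_eq_zero.1
    (show (g.1 0 0 - g.1 1 1) * (g.1 0 0 + g.1 1 1) = 0 by linear_combination e00 - e11)).resolve_right hs))

/-- `W` is a twisted commutator for conjugation by `diag(-1,1)`. -/
theorem exists_twist (h2 : (2 : F) ≠ 0) :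
    ∃ h : SL(2, F), h * (diagConj (-1) (neg_ne_zero.2 one_ne_zero) h)⁻¹ = W := by
  refine ⟨mk 1 (-(1 / 2)) 1 (1 / 2) (by field_simp; ring), mul_inv_eq_iff_eq_mul.2 ?_⟩
  refine ext2 ?_ ?_ ?_ ?_ <;> simp [diagConj, W, mul_apply2]

theorem X_one_conj (g : SL(2, F)) (y : F) (h : g * X 1 * g⁻¹ = X y) : y = g.1 0 0 * g.1 0 0 := by
  rw [mul_inv_eq_iff_eq_mul] at h
  have hd := det_eq g
  have e01 := congrArg (fun x : SL(2, F) => x.1 0 1) h
  have e00 := congrArg (fun x : SL(2, F) => x.1 0 0) h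
  simp [X, mul_apply2] at e01 e00
  by_cases hy : y = 0
  · subst hy
    have : g.1 0 0 = 0 := by linear_combination e01
    rw [this, mul_zero]
  · have hc : g.1 1 0 = 0 := e00.resolve_left hy
    rw [hc, mul_zero, sub_zero] at hd
    linear_combination -g.1 0 0 * e01 + (-y) * hd

end CfsgLib.HallGen.SLTwo
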