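import Cfsg.Agent.Lib.Lie.Rel.Facts
import Cfsg.Agent.Lib.Lie.Rel.SL2
import Cfsg.Agent.Lib.HallGen.SLTwoTools

/-!
# The orthogonal root pair of `G₂`

The torus elements, monomial elements and the two commuting copies of `SL(2,F)` belonging to the
orthogonal roots `a` (index 7, short) and `3a+2b` (index 11, long).
-/

set_option autoImplicit false

namespace CfsgLib.HallGen.ChevG2

open Cfsg.Lie CfsgLib.Lie.Chev
open scoped MatrixGroups

/-- Root indices of `G₂`. -/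
abbrev Rt : Type := Fin chevG2.nroots

/-- The root with the given index. -/
def rt (k : ℕ) (h : k < chevG2.nroots := by decide) : Rt := ⟨k, h⟩

/-- The simple reflections as permutations of the roots. -/
def w (i : Fin 2) : Equiv.Perm Rt where
  toFun s := ⟨auxG2.w i s, certG2.w_lt i.2 s.2⟩
  invFun s := ⟨auxG2.w i s, certG2.w_lt i.2 s.2⟩
  left_inv s := Fin.ext (certG2.w_w i.2 s.2)
  right_inv s := Fin.ext (certG2.w_w i.2 s.2)

/-- The Weyl element moving `b` to `3a+2b` and `a` to `-(a+b)`. -/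
def wg : Equiv.Perm Rt := w 1 * w 0

/-- The Cartan exponents. -/
def cart (i : ℕ) (s : Rt) : ℤ := chevG2.cartan i s

theorem cart_facts :
    (∀ s, cart 1 (wg⁻¹ s) = cart 0 s + 2 * cart 1 s) ∧
    (cart 0 (wg⁻¹ (rt 7))) % 2 = 1 ∧ (cart 0 (wg⁻¹ (rt 11))) % 2 = 1 ∧
    cart 0 (rt 7) = 2 ∧ cart 0 (rt 11) = 0 ∧ cart 1 (rt 7) = -1 ∧ cart 1 (rt 11) = 1 := by
  decide +kernel

theorem perm_facts :
    (w 0 * (wg * w 1 * wg⁻¹)) (rt 3) = rt 8 ∧ wg (rt 6) = rt 11 ∧ wg (rt 7) = rt 3 ∧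
    chevG2.simple 0 = 7 ∧ chevG2.simple 1 = 6 ∧
    chevG2.neg 3 = 8 ∧ chevG2.neg 7 = 4 ∧ chevG2.neg 11 = 0 := by
  decide +kernel

theorem commTerms_facts :
    chevG2.commTerms 7 11 = [] ∧ chevG2.commTerms 7 0 = [] ∧ chevG2.commTerms 4 11 = [] ∧
    chevG2.commTerms 4 0 = [] := by
  decide +kernel

variable (F : Type*) [Field F]

/-- The Chevalley group. -/
abbrev GG : Type _ := ↥(chevG2.group F)

/-- Its relation system. -/
noncomputable abbrev RR : Rel chevG2 auxG2 F (GG F) := chevRel certG2 F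

/-- First simple index. -/
abbrev i0 : Fin chevG2.rank := ⟨0, by decide⟩
/-- Second simple index. -/
abbrev i1 : Fin chevG2.rank := ⟨1, by decide⟩

theorem sroot0 : (RR F).sroot i0 = rt 7 := Fin.ext perm_facts.2.2.2.1
theorem sroot1 : (RR F).sroot i1 = rt 6 := Fin.ext perm_facts.2.2.2.2.1
theorem negF3 : (RR F).negF (rt 3) = rt 8 := Fin.ext perm_facts.2.2.2.2.2.1
theorem negF7 : (RR F).negF (rt 7) = rt 4 := Fin.ext perm_facts.2.2.2.2.2.2.1
theorem negF11 : (RR F).negF (rt 11) = rt 0 := Fin.ext perm_facts.2.2.2.2.2.2.2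

theorem wperm_eq (i : Fin chevG2.rank) : (RR F).wperm i = w i := Equiv.ext fun s => Fin.ext rfl

variable {F}

theorem HS_ext {g h : GG F} (hg : g ∈ (RR F).HS) (hh : h ∈ (RR F).HS) {a : Rt → F}
    (ha : (RR F).IsMon g 1 a) (ha' : (RR F).IsMon h 1 a) : g = h := by
  obtain ⟨b, hb, hmb⟩ := (RR F).exists_mat_HS hg
  obtain ⟨c, hc, hmc⟩ := (RR F).exists_mat_HS hh
  have e1 := ((RR F).isMon_unique hb ha).2
  have e2 := ((RR F).isMon_unique hc ha').2
  exact chevRel_injective certG2 F ((RR F).θ_eq_of_mat (by rw [hmb, hmc, e1, e2]))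

theorem he7_eq (c : F) : (RR F).he (chevG2.simple (i0 : Fin chevG2.rank)) c = (RR F).he (rt 7) c := by
  rw [show chevG2.simple (i0 : Fin chevG2.rank) = (rt 7 : ℕ) from congrArg Fin.val (sroot0 F)]

theorem isMon_he7 {c : F} (hc : c ≠ 0) :
    (RR F).IsMon ((RR F).he (rt 7) c) 1 fun s => c ^ cart 0 s :=
  he7_eq c ▸ (RR F).isMon_he_simple i0 hc

theorem isMon_he6 {c : F} (hc : c ≠ 0) :
    (RR F).IsMon ((RR F).he (rt 6) c) 1 fun s => c ^ cart 1 s := by
  have := (RR F).isMon_he_simple i1 hc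
  rwa [show chevG2.simple (i1 : Fin chevG2.rank) = (rt 6 : ℕ) from congrArg Fin.val (sroot1 F)] at this

variable (F) in
/-- A monomial element over `wg`. -/
noncomputable def gW : GG F := (RR F).ne (chevG2.simple i1) 1 * (RR F).ne (chevG2.simple i0) 1

theorem isMon_gW : ∃ a, (RR F).IsMon (gW F) wg a := by
  have h := (RR F).isMon_mul ((RR F).isMon_ne_simple i1 (one_ne_zero (α := F)))
    ((RR F).isMon_ne_simple i0 (one_ne_zero (α := F)))
  rw [wperm_eq, wperm_eq] at h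
  exact ⟨_, h⟩

theorem isMon_conj {g h : GG F} {σ : Equiv.Perm Rt} {a b : Rt → F} (hg : (RR F).IsMon g σ a)
    (hh : (RR F).IsMon h 1 b) : (RR F).IsMon (g * h * g⁻¹) 1 fun s => b (σ⁻¹ s) := by
  have h1 := (RR F).isMon_mul ((RR F).isMon_mul hg hh) ((RR F).isMon_inv hg)
  rw [mul_one, mul_inv_cancel] at h1
  refine (congrArg ((RR F).IsMon _ 1) (funext fun s => ?_)).mp h1
  have ha := (hg (σ⁻¹ s)).1
  simp only [Equiv.Perm.one_apply]
  field_simp

theorem gW_conj_he (r : Rt) {c : F} (hc : c ≠ 0) :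
    gW F * (RR F).he r c * (gW F)⁻¹ = (RR F).he (wg r) c := by
  obtain ⟨a, ha⟩ := isMon_gW (F := F)
  exact (RR F).he_conj ha r hc

theorem isMon_he11 {c : F} (hc : c ≠ 0) :
    (RR F).IsMon ((RR F).he (rt 11) c) 1 fun s => c ^ (cart 0 s + 2 * cart 1 s) := by
  obtain ⟨a, ha⟩ := isMon_gW (F := F)
  have := isMon_conj ha (isMon_he6 hc)
  rw [gW_conj_he _ hc, perm_facts.2.1] at this
  simpa only [cart_facts.1] using this

theorem isMon_he3 {c : F} (hc : c ≠ 0) :
    (RR F).IsMon ((RR F).he (rt 3) c) 1 fun s => c ^ cart 0 (wg⁻¹ s) := by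
  obtain ⟨a, ha⟩ := isMon_gW (F := F)
  have := isMon_conj ha (isMon_he7 hc)
  rwa [gW_conj_he _ hc, perm_facts.2.2.1] at this

theorem he11_eq {c : F} (hc : c ≠ 0) :
    (RR F).he (rt 11) c = (RR F).he (rt 7) c * (RR F).he (rt 6) (c * c) := by
  refine HS_ext ((RR F).he_mem _ hc)
    (mul_mem ((RR F).he_mem _ hc) ((RR F).he_mem _ (mul_ne_zero hc hc))) (isMon_he11 hc) ?_
  have := (RR F).isMon_mul (isMon_he7 hc) (isMon_he6 (mul_ne_zero hc hc))
  rw [mul_one] at this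
  refine (congrArg ((RR F).IsMon _ 1) (funext fun s => ?_)).mp this
  rw [Equiv.Perm.one_apply, mul_zpow, ← zpow_add₀ hc, ← zpow_add₀ hc]
  congr 1
  ring

theorem he11_neg_one : (RR F).he (rt 11) (-1 : F) = (RR F).he (rt 7) (-1) := by
  rw [he11_eq (neg_ne_zero.2 one_ne_zero), neg_mul_neg, one_mul, (RR F).he_one, mul_one]

theorem neg_one_zpow_eq_neg (n : ℤ) (h : n % 2 = 1) : (-1 : F) ^ n = -1 :=
  (Int.odd_iff.2 h).neg_one_zpow

theorem neg_one_zpow_eq_one (n : ℤ) (h : n % 2 = 0) : (-1 : F) ^ n = 1 :=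
  (Int.even_iff.2 h).neg_one_zpow

theorem ne_one_of_isMon {h : GG F} {a : Rt → F} (hh : (RR F).IsMon h 1 a) {s : Rt} (hs : a s ≠ 1) :
    h ≠ 1 := fun e => hs (congrFun ((RR F).isMon_unique (e ▸ hh) (RR F).isMon_one).2 s)

variable (F) in
/-- The central involution of the orthogonal pair. -/
noncomputable def t0 : GG F := (RR F).he (rt 7) (-1)

theorem isMon_t0 : (RR F).IsMon (t0 F) 1 fun s => (-1 : F) ^ cart 0 s :=
  isMon_he7 (neg_ne_zero.2 one_ne_zero)

theorem neg_one_ne_one (h2 : (2 : F) ≠ 0) : (-1 : F) ≠ 1 := fun h => h2 (by linear_combination -h)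

theorem cart0_six : cart 0 (rt 6) % 2 = 1 := by decide +kernel

theorem t0_ne_one (h2 : (2 : F) ≠ 0) : t0 F ≠ 1 :=
  ne_one_of_isMon isMon_t0 (s := rt 6) (by
    rw [neg_one_zpow_eq_neg _ cart0_six]; exact neg_one_ne_one h2)

theorem orderOf_t0 (h2 : (2 : F) ≠ 0) : orderOf (t0 F) = 2 := by
  refine orderOf_eq_prime ?_ (t0_ne_one h2)
  rw [pow_two, t0, (RR F).he_mul _ (neg_ne_zero.2 one_ne_zero) (neg_ne_zero.2 one_ne_zero), neg_mul_neg,
    one_mul, (RR F).he_one]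

variable (F) in
/-- The homomorphisms on the two copies of `SL(2,F)`. -/
noncomputable abbrev φ : SL(2, F) →* GG F := (RR F).slHom (rt 7)

variable (F) in
/-- The homomorphisms on the two copies of `SL(2,F)`. -/
noncomputable abbrev ψ : SL(2, F) →* GG F := (RR F).slHom (rt 11)

theorem slHom_X (r : Rt) (t : F) : (RR F).slHom r (SLTwo.X t) = (RR F).xe r t :=
  (RR F).slMap_slX r t

theorem slHom_L (r : Rt) (t : F) : (RR F).slHom r (SLTwo.L t) = (RR F).xe ((RR F).negF r) t :=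
  (RR F).slHom_lower r t _ rfl

theorem slHom_W (r : Rt) : (RR F).slHom r SLTwo.W = (RR F).ne r (-1 : F) :=
  (RR F).slMap_slW r

theorem slHom_upper (r : Rt) {g : SL(2, F)} (hg : g.1 1 0 = 0) :
    (RR F).slHom r g = (RR F).he r (g.1 0 0) * (RR F).xe r (g.1 0 1 / g.1 0 0) := by
  show (RR F).slMap r g = _
  simp [Rel.slMap, Rel.slEval, hg]

theorem slHom_neg_one (r : Rt) : (RR F).slHom r (-1) = (RR F).he r (-1 : F) := by
  rw [slHom_upper r (by simp)]
  simp [(RR F).xe_zero]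

theorem φ_neg_one : φ F (-1) = t0 F := slHom_neg_one _

theorem ψ_neg_one : ψ F (-1) = t0 F := (slHom_neg_one _).trans he11_neg_one

theorem slHom_eq_one (r : Rt) (hne : (RR F).he r (-1 : F) ≠ 1) (h2 : (2 : F) ≠ 0) {g : SL(2, F)}
    (hg : (RR F).slHom r g = 1) : g = 1 := by
  have hd := SLTwo.det_eq g
  by_cases hc : g.1 1 0 = 0
  · have ha : g.1 0 0 ≠ 0 := fun h => by rw [h, hc] at hd; simp at hd
    rw [slHom_upper r hc, mul_eq_one_iff_eq_inv, ← (RR F).xe_neg] at hg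
    have hsq : g.1 0 0 ^ 2 = 1 := by
      have h := (RR F).he_conj_xe r ha 1
      rw [hg, mul_one, (RR F).xe_add', (RR F).xe_add'] at h
      linear_combination -((RR F).xe_inj_param (r := r) h)
    rcases sq_eq_one_iff.1 hsq with h1 | h1
    · rw [h1, (RR F).he_one, div_one, ← (RR F).xe_zero (r : ℕ)] at hg
      have hb := (RR F).xe_inj_param (r := r) hg
      refine SLTwo.ext2 ?_ ?_ ?_ ?_ <;> simp
      · exact h1
      · linear_combination hb
      · exact hc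
      · rw [h1, hc, one_mul, mul_zero, sub_zero] at hd; exact hd
    · rw [h1] at hg
      refine absurd ?_ hne
      have hsq' := (RR F).he_mul r (neg_ne_zero.2 (one_ne_zero (α := F))) (neg_ne_zero.2 (one_ne_zero (α := F)))
      rw [neg_mul_neg, one_mul, (RR F).he_one, hg, (RR F).xe_add', ← (RR F).xe_zero (r : ℕ)] at hsq'
      have h0 := (RR F).xe_inj_param (r := r) hsq'
      have hb : g.1 0 1 = 0 := by
        have : (2 : F) * g.1 0 1 = 0 := by
          linear_combination h0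
        exact (mul_eq_zero.1 this).resolve_left h2
      rw [hg, hb]
      simp [(RR F).xe_zero]
  · exfalso
    have e : (RR F).slHom r g =
        (RR F).xe r (g.1 0 0 / g.1 1 0) * (RR F).ne r (-(g.1 1 0)⁻¹) * (RR F).xe r (g.1 1 1 / g.1 1 0) := by
      show (RR F).slMap r g = _
      simp [Rel.slMap, Rel.slEval, hc]
    rw [e] at hg
    have hn : (RR F).ne r (-(g.1 1 0)⁻¹) =
        (RR F).xe r (-(g.1 0 0 / g.1 1 0) + -(g.1 1 1 / g.1 1 0)) := by
      rw [← (RR F).xe_add', (RR F).xe_neg, (RR F).xe_neg]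
      calc (RR F).ne r (-(g.1 1 0)⁻¹) = ((RR F).xe r (g.1 0 0 / g.1 1 0))⁻¹ *
          ((RR F).xe r (g.1 0 0 / g.1 1 0) * (RR F).ne r (-(g.1 1 0)⁻¹) * (RR F).xe r (g.1 1 1 / g.1 1 0)) *
          ((RR F).xe r (g.1 1 1 / g.1 1 0))⁻¹ := by group
        _ = _ := by rw [hg, mul_one]
    have h := (RR F).ne_conj_xe r (neg_ne_zero.2 (inv_ne_zero hc)) 1
    rw [hn, (RR F).xe_add', ← (RR F).xe_neg, (RR F).xe_add', add_comm, ← add_assoc, neg_add_cancel,
      zero_add] at h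
    exact (RR F).negF_ne r ((RR F).xe_inj_root one_ne_zero h).symm

theorem φ_injective (h2 : (2 : F) ≠ 0) : Function.Injective (φ F) :=
  (injective_iff_map_eq_one _).2 fun _ hg => slHom_eq_one _ (t0_ne_one h2) h2 hg

theorem ψ_injective (h2 : (2 : F) ≠ 0) : Function.Injective (ψ F) :=
  (injective_iff_map_eq_one _).2 fun _ hg =>
    slHom_eq_one _ (by rw [he11_neg_one]; exact t0_ne_one h2) h2 hg

theorem xe_commute {r s : Rt} (h1 : (s : ℕ) ≠ r) (h2 : (s : ℕ) ≠ chevG2.neg r)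
    (h : chevG2.commTerms r s = []) (t u : F) : Commute ((RR F).xe r t) ((RR F).xe s u) := by
  have := (RR F).xe_comm r s t u r.2 s.2 h1 h2
  rw [ChevalleyDatum.commWord, h, List.map_nil, List.map_nil, List.prod_nil, mul_one] at this
  exact this.symm

theorem φψ_commute (g g' : SL(2, F)) : Commute (φ F g) (ψ F g') := by
  have key : ∀ r ∈ ({rt 7, rt 4} : Finset Rt), ∀ s ∈ ({rt 11, rt 0} : Finset Rt),
      (s : ℕ) ≠ r ∧ (s : ℕ) ≠ chevG2.neg r ∧ chevG2.commTerms r s = [] := by decide +kernel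
  have step : ∀ r ∈ ({rt 7, rt 4} : Finset Rt), ∀ t : F, ∀ g', Commute ((RR F).xe r t) (ψ F g') := by
    intro r hr t g'
    have hH : ((Subgroup.centralizer {(RR F).xe r t}).comap (ψ F)) = ⊤ := by
      refine SLTwo.eq_top_of_unipotent (fun u => ?_) (fun u => ?_) <;>
        rw [Subgroup.mem_comap, Subgroup.mem_centralizer_singleton_iff]
      · rw [slHom_X]
        obtain ⟨a, b, c⟩ := key r hr (rt 11) (by simp)
        exact (xe_commute a b c t u).symm
      · rw [slHom_L, negF11]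
        obtain ⟨a, b, c⟩ := key r hr (rt 0) (by simp)
        exact (xe_commute a b c t u).symm
    have hm : g' ∈ (Subgroup.centralizer {(RR F).xe r t}).comap (ψ F) := hH ▸ Subgroup.mem_top g'
    rw [Subgroup.mem_comap, Subgroup.mem_centralizer_singleton_iff] at hm
    exact Commute.symm hm
  have hH : ((Subgroup.centralizer {ψ F g'}).comap (φ F)) = ⊤ := by
    refine SLTwo.eq_top_of_unipotent (fun u => ?_) (fun u => ?_) <;>
      rw [Subgroup.mem_comap, Subgroup.mem_centralizer_singleton_iff]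
    · rw [slHom_X]; exact step (rt 7) (by simp) u g'
    · rw [slHom_L, negF7]; exact step (rt 4) (by simp) u g'
  have hm : g ∈ (Subgroup.centralizer {ψ F g'}).comap (φ F) := hH ▸ Subgroup.mem_top g
  rw [Subgroup.mem_comap, Subgroup.mem_centralizer_singleton_iff] at hm
  exact hm

/-- A torus element acts on each copy by a diagonal conjugation. -/
theorem conj_slHom {h : GG F} {a : Rt → F} (hh : (RR F).IsMon h 1 a) (r : Rt) (g : SL(2, F)) :
    h * (RR F).slHom r g * h⁻¹ = (RR F).slHom r (SLTwo.diagConj (a r) (hh r).1 g) := by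
  refine DFunLike.congr_fun (SLTwo.hom_ext (f := (MulAut.conj h).toMonoidHom.comp ((RR F).slHom r))
    (f' := ((RR F).slHom r).comp (SLTwo.diagConj (a r) (hh r).1)) (fun t => ?_) (fun t => ?_)) g
  · simp only [MonoidHom.comp_apply, MulEquiv.coe_toMonoidHom, MulAut.conj_apply, SLTwo.diagConj_X,
      slHom_X]
    exact (hh r).2.2.2 t
  · simp only [MonoidHom.comp_apply, MulEquiv.coe_toMonoidHom, MulAut.conj_apply, SLTwo.diagConj_L,
      slHom_L]
    have := (hh ((RR F).negF r)).2.2.2 t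
    rwa [(hh r).2.1] at this

/-- A monomial element inverting a root acts by an antidiagonal conjugation. -/
theorem conj_slHom_neg {h : GG F} {σ : Equiv.Perm Rt} {a : Rt → F} (hh : (RR F).IsMon h σ a) (r : Rt)
    (hσ : σ r = (RR F).negF r) (g : SL(2, F)) :
    h * (RR F).slHom r g * h⁻¹ = (RR F).slHom r (SLTwo.antiConj (a r) (hh r).1 g) := by
  refine DFunLike.congr_fun (SLTwo.hom_ext (f := (MulAut.conj h).toMonoidHom.comp ((RR F).slHom r))
    (f' := ((RR F).slHom r).comp (SLTwo.antiConj (a r) (hh r).1)) (fun t => ?_) (fun t => ?_)) g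
  · simp only [MonoidHom.comp_apply, MulEquiv.coe_toMonoidHom, MulAut.conj_apply, SLTwo.antiConj_X,
      slHom_X, slHom_L]
    rw [← hσ]
    exact (hh r).2.2.2 t
  · simp only [MonoidHom.comp_apply, MulEquiv.coe_toMonoidHom, MulAut.conj_apply, SLTwo.antiConj_L,
      slHom_X, slHom_L]
    have := (hh ((RR F).negF r)).2.2.2 t
    rwa [(hh r).2.1, (hh r).2.2.1, hσ, (RR F).negF_negF] at this

variable (F) in
/-- The involution `n_a n_{3a+2b}`. -/
noncomputable def cI : GG F := φ F SLTwo.W * ψ F SLTwo.W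

theorem isMon_cI : ∃ a, (RR F).IsMon (cI F) (w 0 * (wg * w 1 * wg⁻¹)) a := by
  obtain ⟨b, hb⟩ := isMon_gW (F := F)
  have hm1 : (-1 : F) ≠ 0 := neg_ne_zero.2 one_ne_zero
  have h7 : ∃ a, (RR F).IsMon (φ F SLTwo.W) (w 0) a := by
    rw [show φ F SLTwo.W = (RR F).ne (chevG2.simple (i0 : Fin chevG2.rank)) (-1) from by
      rw [show chevG2.simple (i0 : Fin chevG2.rank) = (rt 7 : ℕ) from congrArg Fin.val (sroot0 F)]
      exact slHom_W _]
    have := (RR F).isMon_ne_simple i0 hm1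
    rw [wperm_eq] at this
    exact ⟨_, this⟩
  obtain ⟨_, h7⟩ := h7
  have hc : (b (rt 6))⁻¹ * -1 ≠ 0 := mul_ne_zero (inv_ne_zero (hb _).1) hm1
  have h6 := (RR F).isMon_ne_simple i1 hc
  rw [wperm_eq, show chevG2.simple (i1 : Fin chevG2.rank) = (rt 6 : ℕ) from congrArg Fin.val (sroot1 F)] at h6
  have h11 := (RR F).isMon_mul ((RR F).isMon_mul hb h6) ((RR F).isMon_inv hb)
  have e := Rel.IsMon.conj_ne (RR F) hb (rt 6) ((b (rt 6))⁻¹ * -1)
  rw [perm_facts.2.1, mul_inv_cancel_left₀ (hb _).1] at e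
  rw [e, ← slHom_W] at h11
  exact ⟨_, (RR F).isMon_mul h7 h11⟩

variable (F) in
/-- A second torus involution. -/
noncomputable def s0 : GG F := (RR F).he (rt 3) (-1)

theorem isConj_t0_s0 : IsConj (t0 F) (s0 F) :=
  isConj_iff.2 ⟨gW F, by rw [t0, gW_conj_he _ (neg_ne_zero.2 one_ne_zero), perm_facts.2.2.1]; rfl⟩

variable [Fintype F]

theorem isConj_s0_cI_mul (h2 : (2 : F) ≠ 0) : IsConj (s0 F) (cI F * s0 F) := by
  obtain ⟨h, hh⟩ := SLTwo.exists_twist h2
  have hm1 : (-1 : F) ≠ 0 := neg_ne_zero.2 one_ne_zero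
  have hs := isMon_he3 (F := F) hm1
  have e : ∀ r : Rt, (-1 : F) ^ cart 0 (wg⁻¹ r) = -1 → ∀ g,
      s0 F * (RR F).slHom r g * (s0 F)⁻¹ = (RR F).slHom r (SLTwo.diagConj (-1) hm1 g) := by
    intro r hr g
    rw [s0, conj_slHom hs r g]
    simp only [hr]
  refine isConj_iff.2 ⟨φ F h * ψ F h, ?_⟩
  have e7 := e (rt 7) (neg_one_zpow_eq_neg _ cart_facts.2.1) h⁻¹
  have e11 := e (rt 11) (neg_one_zpow_eq_neg _ cart_facts.2.2.1) h⁻¹
  calc φ F h * ψ F h * s0 F * (φ F h * ψ F h)⁻¹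
      = φ F h * ψ F h * (s0 F * ψ F h⁻¹ * (s0 F)⁻¹) * (s0 F * φ F h⁻¹ * (s0 F)⁻¹) * s0 F := by
        rw [map_inv, map_inv]; group
    _ = φ F h * ψ F (h * SLTwo.diagConj (-1) hm1 h⁻¹) * φ F (SLTwo.diagConj (-1) hm1 h⁻¹) * s0 F := by
        rw [e7, e11, map_mul (ψ F)]; group
    _ = φ F (h * SLTwo.diagConj (-1) hm1 h⁻¹) * ψ F (h * SLTwo.diagConj (-1) hm1 h⁻¹) * s0 F := by
        rw [mul_assoc (φ F h), ← (φψ_commute _ _).eq, map_mul (φ F)]; group
    _ = _ := by rw [map_inv, hh]; rfl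

theorem cI_sq : cI F * cI F = 1 := by
  rw [cI, Commute.mul_mul_mul_comm (φψ_commute _ _).symm, ← map_mul, ← map_mul, SLTwo.W_sq, φ_neg_one, ψ_neg_one, t0,
    (RR F).he_mul _ (neg_ne_zero.2 one_ne_zero) (neg_ne_zero.2 one_ne_zero), neg_mul_neg, one_mul, (RR F).he_one]

theorem isConj_cI_mul (h2 : (2 : F) ≠ 0) : IsConj (cI F) (s0 F * cI F) := by
  obtain ⟨a, ha⟩ := isMon_cI (F := F)
  obtain ⟨u, hu⟩ := SLTwo.exists_antiConj_eq_neg h2 (a (rt 3)) (ha _).1
  have h := conj_slHom_neg ha (rt 3) (by rw [negF3]; exact perm_facts.1) u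
  rw [hu, show -u = u * (-1) by simp, map_mul, slHom_neg_one] at h
  refine isConj_iff.2 ⟨((RR F).slHom (rt 3) u)⁻¹, ?_⟩
  calc ((RR F).slHom (rt 3) u)⁻¹ * cI F * (((RR F).slHom (rt 3) u)⁻¹)⁻¹
      = ((RR F).slHom (rt 3) u)⁻¹ * (cI F * (RR F).slHom (rt 3) u * (cI F)⁻¹) * cI F := by group
    _ = _ := by rw [h, s0]; group

theorem isConj_t0_cI (h2 : (2 : F) ≠ 0) : IsConj (t0 F) (cI F) := by
  refine (isConj_t0_s0.trans (isConj_s0_cI_mul h2)).trans (IsConj.trans ?_ (isConj_cI_mul h2).symm)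
  exact isConj_iff.2 ⟨s0 F, by group⟩

end CfsgLib.HallGen.ChevG2
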