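import Mathlib.LinearAlgebra.Vandermonde
import Mathlib.RingTheory.MvPolynomial.Ideal
import Mathlib.RingTheory.Ideal.Quotient.Operations
import Mathlib.Algebra.Ring.GeomSum

/-!
# The Cauchy determinant and alternating sums of margin counts

`margN a b` counts the matrices of natural numbers with row sums `a` and column sums `b`. The alternating sum of
`margN (l - κ) (l' - κ')` over pairs of permutations is the Kronecker delta of two strictly increasing sequences
`l`, `l'`. This is the Cauchy determinant `det (1 / (1 - xᵢ yⱼ))`, read modulo high powers of the variables.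
-/

set_option autoImplicit false

namespace CfsgLib.HallGen.Cauchy

open Finset Matrix MvPolynomial

variable {n : ℕ}

section Domain

variable {R : Type*} [CommRing R]

/-- Signed elementary symmetric functions of the `y k`, `k ≠ j`. -/
def coefC (y : Fin n → R) (m j : Fin n) : R := ∑ t ∈ (univ.erase j).powersetCard m.val, ∏ k ∈ t, (-y k)

theorem sum_coefC (y : Fin n → R) (u v : R) (j : Fin n) :
    ∑ m : Fin n, u ^ m.val * v ^ (n - 1 - m.val) * coefC y m j = ∏ k ∈ univ.erase j, (v - u * y k) := by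
  have hc : (univ.erase j).card = n - 1 := by simp
  have hn : 0 < n := Nat.lt_of_le_of_lt (Nat.zero_le _) j.isLt
  have h : ∏ k ∈ univ.erase j, (v - u * y k) = ∏ k ∈ univ.erase j, (u * -y k + v) :=
    prod_congr rfl fun k _ => by ring
  simp only [coefC]
  rw [h, prod_add, sum_powerset, hc, Nat.sub_add_cancel hn,
    Fin.sum_univ_eq_sum_range (fun m => u ^ m * v ^ (n - 1 - m) *
      ∑ t ∈ (univ.erase j).powersetCard m, ∏ k ∈ t, (-y k)) n]
  refine sum_congr rfl fun m _ => ?_
  rw [mul_sum]
  refine sum_congr rfl fun t ht => ?_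
  obtain ⟨hsub, hcard⟩ := mem_powersetCard.1 ht
  rw [prod_mul_distrib, prod_const, prod_const, card_sdiff_of_subset hsub, hcard, hc]
  ring

theorem prod_erase_eq (y : Fin n → R) : ∏ j, ∏ k ∈ univ.erase j, (y j - y k) =
    (∏ i, ∏ j ∈ Ioi i, (y i - y j)) * ∏ i, ∏ j ∈ Ioi i, (y j - y i) := by
  have h : ∀ j : Fin n, univ.erase j = Ioi j ∪ Iio j := fun j => by
    ext k
    simp only [mem_erase, mem_univ, and_true, mem_union, mem_Ioi, mem_Iio]
    exact ⟨fun h => h.lt_or_gt.symm, fun h => h.elim ne_of_gt ne_of_lt⟩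
  have hd : ∀ j : Fin n, Disjoint (Ioi j) (Iio j) := fun j =>
    Finset.disjoint_left.2 fun k hk hk' => lt_asymm (mem_Ioi.1 hk) (mem_Iio.1 hk')
  simp_rw [h, prod_union (hd _), prod_mul_distrib]
  congr 1
  exact prod_comm' fun i j => by simp

theorem det_coefC [IsDomain R] {y : Fin n → R} (hy : Function.Injective y) :
    (Matrix.of (coefC y)).det = (vandermonde y).det := by
  have hW : projVandermonde (1 : Fin n → R) y * Matrix.of (coefC y) =
      diagonal fun j => ∏ k ∈ univ.erase j, (y j - y k) := by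
    ext i j
    have hs : (projVandermonde (1 : Fin n → R) y * Matrix.of (coefC y)) i j =
        ∏ k ∈ univ.erase j, (y i - y k) := by
      have he := sum_coefC y 1 (y i) j
      simp only [one_mul] at he
      rw [mul_apply, ← he]
      refine sum_congr rfl fun m _ => ?_
      rw [projVandermonde_apply, of_apply, Pi.one_apply, Fin.val_rev, show n - (m.val + 1) = n - 1 - m.val by omega]
    rw [hs]
    by_cases hij : i = j
    · subst hij; rw [diagonal_apply_eq]
    · rw [diagonal_apply_ne _ hij, prod_eq_zero (mem_erase.2 ⟨hij, mem_univ i⟩) (sub_self (y i))]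
  have h := congrArg Matrix.det hW
  rw [det_mul, det_diagonal, det_projVandermonde, prod_erase_eq] at h
  simp only [Pi.one_apply, one_mul] at h
  rw [det_vandermonde]
  refine mul_left_cancel₀ (prod_ne_zero_iff.2 fun i _ => prod_ne_zero_iff.2 fun j hj => ?_) h
  exact sub_ne_zero.2 fun e => (mem_Ioi.1 hj).ne (hy e)

/-- The Cauchy determinant, denominators cleared. -/
theorem det_cauchy [IsDomain R] (x : Fin n → R) {y : Fin n → R} (hy : Function.Injective y) :
    (Matrix.of fun i j => ∏ k ∈ univ.erase j, (1 - x i * y k)).det = (vandermonde x).det * (vandermonde y).det := by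
  rw [← det_coefC hy, ← det_mul]
  congr 1
  ext i j
  rw [of_apply, mul_apply, ← sum_coefC y (x i) 1 j]
  simp [vandermonde_apply]

end Domain

/-- The number of matrices of natural numbers with row sums `a` and column sums `b`. -/
noncomputable def margN (a b : Fin n → ℕ) : ℕ :=
  Nat.card {M : Fin n → Fin n → ℕ // (∀ i, ∑ j, M i j = a i) ∧ ∀ j, ∑ i, M i j = b j}

/-- The exponent vector with `x`-part `a` and `y`-part `b`. -/
noncomputable def expo (a b : Fin n → ℕ) : (Fin n ⊕ Fin n) →₀ ℕ := Finsupp.equivFunOnFinite.symm (Sum.elim a b)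

@[simp] theorem expo_inl (a b : Fin n → ℕ) (i : Fin n) : expo a b (Sum.inl i) = a i := rfl

@[simp] theorem expo_inr (a b : Fin n → ℕ) (i : Fin n) : expo a b (Sum.inr i) = b i := rfl

/-- The variables. -/
noncomputable def vx (n : ℕ) (i : Fin n) : MvPolynomial (Fin n ⊕ Fin n) ℤ := X (Sum.inl i)

/-- The variables. -/
noncomputable def vy (n : ℕ) (i : Fin n) : MvPolynomial (Fin n ⊕ Fin n) ℤ := X (Sum.inr i)

/-- The truncated geometric series in `xᵢ yⱼ`. -/
noncomputable def geo (T : ℕ) (i j : Fin n) : MvPolynomial (Fin n ⊕ Fin n) ℤ := ∑ t ∈ range T, (vx n i * vy n j) ^ t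

theorem coeff_prod_geo {ι : Type*} [Fintype ι] [DecidableEq ι] (r c : ι → Fin n) (T : ℕ) (a b : Fin n → ℕ)
    (ha : ∀ i, a i < T) :
    coeff (expo a b) (∏ p, geo T (r p) (c p)) =
      (Nat.card {f : ι → ℕ // (∀ i, ∑ p ∈ univ.filter (r · = i), f p = a i) ∧
        ∀ j, ∑ p ∈ univ.filter (c · = j), f p = b j} : ℤ) := by
  classical
  simp only [geo]
  rw [prod_univ_sum, coeff_sum]
  have hterm : ∀ f : ι → ℕ, coeff (expo a b) (∏ p, (vx n (r p) * vy n (c p)) ^ f p) =
      if ((∀ i, ∑ p ∈ univ.filter (r · = i), f p = a i) ∧ ∀ j, ∑ p ∈ univ.filter (c · = j), f p = b j)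
        then (1 : ℤ) else 0 := by
    intro f
    have hm : ∏ p, (vx n (r p) * vy n (c p)) ^ f p = monomial
        (∑ p, (Finsupp.single (Sum.inl (r p) : Fin n ⊕ Fin n) (f p) + Finsupp.single (Sum.inr (c p)) (f p))) (1 : ℤ) := by
      rw [monomial_sum_one]
      refine prod_congr rfl fun p _ => ?_
      rw [mul_pow, vx, vy, X_pow_eq_monomial, X_pow_eq_monomial, monomial_mul, one_mul]
    rw [hm, coeff_monomial]
    refine if_congr ⟨fun h => ⟨fun i => ?_, fun j => ?_⟩, fun h => ?_⟩ rfl rfl
    · have h' := DFunLike.congr_fun h (Sum.inl i)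
      simpa [Finsupp.single_apply, sum_filter] using h'
    · have h' := DFunLike.congr_fun h (Sum.inr j)
      simpa [Finsupp.single_apply, sum_filter] using h'
    · ext v
      rcases v with i | j
      · simpa [Finsupp.single_apply, sum_filter] using h.1 i
      · simpa [Finsupp.single_apply, sum_filter] using h.2 j
  simp only [hterm]
  rw [sum_boole, Nat.subtype_card ((Fintype.piFinset fun _ : ι => range T).filter fun f : ι → ℕ =>
    (∀ i, ∑ p ∈ univ.filter (r · = i), f p = a i) ∧ ∀ j, ∑ p ∈ univ.filter (c · = j), f p = b j) fun f => ?_]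
  simp only [mem_filter, Fintype.mem_piFinset, mem_range, and_iff_right_iff_imp]
  intro h p
  exact lt_of_le_of_lt ((single_le_sum (s := univ.filter (r · = r p)) (f := f) (fun _ _ => Nat.zero_le _)
    (mem_filter.2 ⟨mem_univ p, rfl⟩)).trans (h.1 (r p)).le) (ha _)

theorem coeff_prod_all (T : ℕ) (a b : Fin n → ℕ) (ha : ∀ i, a i < T) :
    coeff (expo a b) (∏ p : Fin n × Fin n, geo T p.1 p.2) = (margN a b : ℤ) := by
  classical
  rw [coeff_prod_geo Prod.fst Prod.snd T a b ha, margN, Nat.cast_inj]
  have h1 : ∀ (f : Fin n × Fin n → ℕ) (i : Fin n), ∑ p ∈ univ.filter (fun p : Fin n × Fin n => p.1 = i), f p = ∑ j, f (i, j) := by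
    intro f i
    rw [sum_filter, Fintype.sum_prod_type, sum_comm]
    simp
  have h2 : ∀ (f : Fin n × Fin n → ℕ) (j : Fin n), ∑ p ∈ univ.filter (fun p : Fin n × Fin n => p.2 = j), f p = ∑ i, f (i, j) := by
    intro f j
    rw [sum_filter, Fintype.sum_prod_type]
    simp
  refine Nat.card_congr (Equiv.subtypeEquiv (Equiv.curry _ _ _) fun f => ?_)
  simp [h1, h2]

theorem coeff_prod_perm (T : ℕ) (a b : Fin n → ℕ) (ha : ∀ i, a i < T) (σ : Equiv.Perm (Fin n)) :
    coeff (expo a b) (∏ j, geo T (σ j) j) = if ∀ j, a (σ j) = b j then (1 : ℤ) else 0 := by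
  classical
  have hg := coeff_prod_geo (fun j => σ j) id T a b ha
  simp only [id] at hg
  rw [hg]
  have h2 : ∀ (f : Fin n → ℕ) (j : Fin n), ∑ p ∈ univ.filter (fun p => p = j), f p = f j := fun f j => by
    simp [sum_filter]
  have h1 : ∀ (f : Fin n → ℕ) (i : Fin n), ∑ p ∈ univ.filter (fun p => σ p = i), f p = f (σ.symm i) := fun f i => by
    simp [sum_filter, ← Equiv.eq_symm_apply]
  split_ifs with h
  · have : Unique {f : Fin n → ℕ // (∀ i, ∑ p ∈ univ.filter (fun p => σ p = i), f p = a i) ∧
        ∀ j, ∑ p ∈ univ.filter (fun p => p = j), f p = b j} :=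
      { default := ⟨b, fun i => by rw [h1, ← h (σ.symm i), Equiv.apply_symm_apply], h2 b⟩
        uniq := fun f => Subtype.ext (funext fun j => (h2 f.1 j).symm.trans (f.2.2 j)) }
    simp
  · have : IsEmpty {f : Fin n → ℕ // (∀ i, ∑ p ∈ univ.filter (fun p => σ p = i), f p = a i) ∧
        ∀ j, ∑ p ∈ univ.filter (fun p => p = j), f p = b j} :=
      ⟨fun f => h fun j => by rw [← f.2.1 (σ j), h1, Equiv.symm_apply_apply, ← f.2.2 j, h2]⟩
    simp

theorem det_vandermonde_expand (v : Fin n → Fin n ⊕ Fin n) :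
    (vandermonde fun i => (X (v i) : MvPolynomial (Fin n ⊕ Fin n) ℤ)).det =
      ∑ κ : Equiv.Perm (Fin n), monomial (∑ i, Finsupp.single (v i) (κ i).val) ((Equiv.Perm.sign κ : ℤ)) := by
  rw [← det_transpose, det_apply']
  refine sum_congr rfl fun κ _ => ?_
  simp only [transpose_apply, vandermonde_apply, X_pow_eq_monomial]
  rw [← monomial_sum_one, ← map_intCast (C : ℤ →+* MvPolynomial (Fin n ⊕ Fin n) ℤ), C_mul_monomial, mul_one]
  rfl

/-- The alternating sum of margin counts over two strictly increasing sequences. -/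
theorem alternant_sum (l l' : Fin n → ℕ) (hl : StrictMono l) (hl' : StrictMono l') :
    (∑ κ : Equiv.Perm (Fin n), ∑ κ' : Equiv.Perm (Fin n),
      if (∀ i, (κ i).val ≤ l i) ∧ ∀ i, (κ' i).val ≤ l' i then
        (Equiv.Perm.sign κ : ℤ) * (Equiv.Perm.sign κ' : ℤ) *
          (margN (fun i => l i - (κ i).val) (fun i => l' i - (κ' i).val) : ℤ)
      else 0) = if l = l' then 1 else 0 := by
  classical
  obtain ⟨T, hT, hT'⟩ : ∃ T, (∀ i, l i < T) ∧ ∀ i, l' i < T :=
    ⟨∑ i, l i + ∑ i, l' i + 1, fun i => by have := single_le_sum (f := l) (fun _ _ => Nat.zero_le _) (mem_univ i); omega,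
      fun i => by have := single_le_sum (f := l') (fun _ _ => Nat.zero_le _) (mem_univ i); omega⟩
  let I : Ideal (MvPolynomial (Fin n ⊕ Fin n) ℤ) :=
    Ideal.span ((fun s => monomial s (1 : ℤ)) '' Set.range fun v => Finsupp.single v T)
  let π := Ideal.Quotient.mk I
  let D := (vandermonde (vx n)).det * (vandermonde (vy n)).det
  have hI : ∀ q ∈ I, coeff (expo l l') q = 0 := by
    intro q hq
    by_contra hne
    obtain ⟨_, ⟨v, rfl⟩, hle⟩ := (mem_ideal_span_monomial_image.1 hq) _ (MvPolynomial.mem_support_iff.2 hne)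
    have := hle v
    rcases v with i | j
    · simp at this; have := hT i; omega
    · simp at this; have := hT' j; omega
  have hone : ∀ i j, π (geo T i j) * π (1 - vx n i * vy n j) = 1 := by
    intro i j
    rw [← map_mul, geo, geom_sum_mul_neg, map_sub, map_one]
    rw [show π ((vx n i * vy n j) ^ T) = 0 from Ideal.Quotient.eq_zero_iff_mem.2 ?_, sub_zero]
    rw [mul_pow, vx, X_pow_eq_monomial]
    exact Ideal.mul_mem_right _ _ (Ideal.subset_span ⟨_, ⟨_, rfl⟩, rfl⟩)
  have hy : Function.Injective (vy n) := fun i j h => Sum.inr_injective (X_injective h)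
  have hmod : π (Matrix.of (geo (n := n) T)).det = π (D * ∏ p : Fin n × Fin n, geo T p.1 p.2) := by
    have hP : π.mapMatrix (Matrix.of fun i j => ∏ k ∈ univ.erase j, (1 - vx n i * vy n k)) =
        Matrix.of fun i j => (∏ k, π (1 - vx n i * vy n k)) * π.mapMatrix (Matrix.of (geo (n := n) T)) i j := by
      ext i j
      simp only [RingHom.mapMatrix_apply, map_apply, of_apply, map_prod]
      rw [← prod_erase_mul _ _ (mem_univ j), mul_assoc, mul_comm (π (1 - _)), hone, mul_one]
    have h1 : π D = (∏ i, ∏ k, π (1 - vx n i * vy n k)) * π (Matrix.of (geo (n := n) T)).det := by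
      rw [show D = _ from (det_cauchy (vx n) hy).symm, RingHom.map_det, hP, det_mul_column, RingHom.map_det]
    rw [map_mul, h1, map_prod, Fintype.prod_prod_type, mul_right_comm, ← prod_mul_distrib,
      prod_eq_one fun i _ => ?_, one_mul]
    rw [← prod_mul_distrib]
    exact prod_eq_one fun k _ => by rw [mul_comm]; exact hone i k
  have hco := hI _ (Ideal.Quotient.eq.1 hmod)
  rw [coeff_sub, sub_eq_zero] at hco
  have hL : coeff (expo l l') (Matrix.of (geo (n := n) T)).det = if l = l' then 1 else 0 := by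
    rw [det_apply', coeff_sum]
    simp only [of_apply, ← map_intCast (C : ℤ →+* MvPolynomial (Fin n ⊕ Fin n) ℤ), coeff_C_mul,
      coeff_prod_perm T l l' hT]
    split_ifs with h
    · subst h
      rw [sum_eq_single (1 : Equiv.Perm (Fin n)) (fun σ _ hσ => ?_) (by simp)]
      · simp
      · rw [if_neg fun hh => hσ (Equiv.ext fun j => hl.injective (hh j)), mul_zero]
    · refine sum_eq_zero fun σ _ => ?_
      rw [if_neg fun hh => h ?_, mul_zero]
      have : Set.range l = Set.range l' := by
        rw [← σ.surjective.range_comp l]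
        exact congrArg Set.range (funext hh)
      exact (StrictMono.range_inj hl hl').1 this
  rw [← hL, hco, show D = (vandermonde fun i => (X (Sum.inl i) : MvPolynomial (Fin n ⊕ Fin n) ℤ)).det *
    (vandermonde fun i => (X (Sum.inr i) : MvPolynomial (Fin n ⊕ Fin n) ℤ)).det from rfl,
    det_vandermonde_expand, det_vandermonde_expand, sum_mul, sum_mul, coeff_sum]
  refine sum_congr rfl fun κ _ => ?_
  rw [mul_sum, sum_mul, coeff_sum]
  refine sum_congr rfl fun κ' _ => ?_
  rw [monomial_mul, coeff_monomial_mul']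
  have he : ∑ i, Finsupp.single (Sum.inl i : Fin n ⊕ Fin n) (κ i).val + ∑ i, Finsupp.single (Sum.inr i) (κ' i).val =
      expo (fun i => (κ i).val) (fun i => (κ' i).val) := by
    ext v
    rcases v with i | j <;> simp [Finsupp.single_apply]
  rw [he]
  refine if_congr ?_ ?_ rfl
  · exact ⟨fun h v => by rcases v with i | j <;> simp [h.1, h.2], fun h =>
      ⟨fun i => by simpa using h (Sum.inl i), fun i => by simpa using h (Sum.inr i)⟩⟩
  · rw [show expo l l' - expo (fun i => (κ i).val) (fun i => (κ' i).val) =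
      expo (fun i => l i - (κ i).val) (fun i => l' i - (κ' i).val) from by ext v; rcases v with i | j <;> simp,
      coeff_prod_all T _ _ fun i => lt_of_le_of_lt (Nat.sub_le _ _) (hT i)]

end CfsgLib.HallGen.Cauchy
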