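import Mathlib
import Cfsg.Prelude.Def_Solvable

/-!
A fixed-point-free action on a finite abelian group makes the acting group a Frobenius complement
of some group in `Type`, with a kernel of the order of the module.
-/

open scoped Pointwise

namespace CfsgLib.HallGen

section Transport

variable {L L' : Type*} [Group L] [Group L'] (e : L ≃* L')

theorem mem_map_conj_smul {H : Subgroup L} {g x : L} :
    e x ∈ MulAut.conj (e g) • H.map e.toMonoidHom ↔ x ∈ MulAut.conj g • H := by
  rw [Subgroup.mem_pointwise_smul_iff_inv_smul_mem, Subgroup.mem_pointwise_smul_iff_inv_smul_mem,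
    Subgroup.mem_map_equiv]
  simp

theorem isFrobeniusComplement_map {H : Subgroup L} (h : Cfsg.IsFrobeniusComplement H) :
    Cfsg.IsFrobeniusComplement (H.map e.toMonoidHom) := by
  obtain ⟨h1, h2, h3⟩ := h
  refine ⟨fun hb => h1 ((Subgroup.map_eq_bot_iff_of_injective _ e.injective).1 hb),
    fun ht => h2 (Subgroup.map_injective (f := e.toMonoidHom) e.injective
      (ht.trans (Subgroup.map_top_of_surjective _ e.surjective).symm)), fun g hg => ?_⟩
  obtain ⟨g, rfl⟩ := e.surjective g
  rw [Subgroup.eq_bot_iff_forall]
  intro x hx
  obtain ⟨x, rfl⟩ := e.surjective x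
  have hxH : x ∈ H := by
    obtain ⟨y, hy, hyx⟩ := hx.1
    rwa [← e.injective hyx]
  have hx0 : x ∈ H ⊓ MulAut.conj g • H := ⟨hxH, (mem_map_conj_smul e).1 hx.2⟩
  rw [h3 g fun hg' => hg ⟨g, hg', rfl⟩, Subgroup.mem_bot] at hx0
  simp [hx0]

theorem frobeniusKernel_map (H : Subgroup L) :
    Cfsg.frobeniusKernel (H.map e.toMonoidHom) = e '' Cfsg.frobeniusKernel H := by
  ext x
  obtain ⟨x, rfl⟩ := e.surjective x
  rw [e.injective.mem_set_image]
  refine or_congr (map_eq_one_iff _ e.injective) ⟨fun h g hg => h (e g) ((mem_map_conj_smul e).2 hg),
    fun h g hg => ?_⟩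
  obtain ⟨g, rfl⟩ := e.surjective g
  exact h g ((mem_map_conj_smul e).1 hg)

end Transport

variable (A V : Type*) [Group A] [Finite A] [Nontrivial A] [AddCommGroup V] [Finite V] [Nontrivial V]
  [DistribMulAction A V]

/-- A fixed-point-free action gives a Frobenius group in `Type`. -/
theorem exists_frobeniusComplement_of_fpf
    (hfpf : ∀ a : A, a ≠ 1 → ∀ v : V, a • v = v → v = 0) :
    ∃ (L : Type) (_ : Group L) (_ : Finite L) (H : Subgroup L),
      Cfsg.IsFrobeniusComplement H ∧ Nonempty (A ≃* H) ∧
        Nat.card (Cfsg.frobeniusKernel H) = Nat.card V := by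
  classical
  let φ : A →* MulAut (Multiplicative V) :=
    { toFun := fun a => AddEquiv.toMultiplicative (DistribMulAction.toAddEquiv V a)
      map_one' := by
        ext x
        change (1 : A) • x.toAdd = x.toAdd
        exact one_smul A _
      map_mul' := fun a b => by
        ext x
        change (a * b) • x.toAdd = a • b • x.toAdd
        exact mul_smul a b _ }
  have hφ : ∀ (a : A) (x : Multiplicative V), φ a x = Multiplicative.ofAdd (a • x.toAdd) :=
    fun a x => rfl
  let H0 : Subgroup (Multiplicative V ⋊[φ] A) := (SemidirectProduct.inr : A →* (Multiplicative V ⋊[φ] A)).range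
  have hmem : ∀ x : (Multiplicative V ⋊[φ] A), x ∈ H0 ↔ x.left = 1 := by
    intro x
    constructor
    · rintro ⟨a, rfl⟩; simp
    · intro h; exact ⟨x.right, SemidirectProduct.ext (by simp [h]) (by simp)⟩
  have hFC : Cfsg.IsFrobeniusComplement H0 := by
    refine ⟨?_, ?_, fun g hg => ?_⟩
    · obtain ⟨a, ha⟩ := exists_ne (1 : A)
      intro h
      have h1 : (SemidirectProduct.inr a : (Multiplicative V ⋊[φ] A)) ∈ H0 := ⟨a, rfl⟩
      rw [h, Subgroup.mem_bot] at h1
      exact ha (SemidirectProduct.inr_injective (by rw [h1, map_one]))
    · obtain ⟨v, hv⟩ := exists_ne (0 : V)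
      intro h
      have h1 : (SemidirectProduct.inl (Multiplicative.ofAdd v) : (Multiplicative V ⋊[φ] A)) ∈ H0 := h ▸ Subgroup.mem_top _
      rw [hmem] at h1
      exact hv (by simpa using h1)
    · rw [Subgroup.eq_bot_iff_forall]
      intro x hx
      obtain ⟨hx, y, hy, hyx⟩ := hx
      obtain ⟨a, rfl⟩ : ∃ a, SemidirectProduct.inr a = y := hy
      replace hx : x.left = 1 := (hmem x).1 hx
      rw [hmem] at hg
      change g * SemidirectProduct.inr a * g⁻¹ = x at hyx
      subst hyx
      have key : g.left.toAdd + -((g.right * a * g.right⁻¹) • g.left.toAdd) = 0 := by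
        have hh := congrArg Multiplicative.toAdd hx
        simp only [SemidirectProduct.mul_left, SemidirectProduct.mul_right,
          SemidirectProduct.inv_left, SemidirectProduct.left_inr, SemidirectProduct.right_inr,
          hφ, toAdd_mul, toAdd_ofAdd, toAdd_one, toAdd_inv, smul_zero, add_zero, smul_neg,
          ← mul_smul] at hh
        simpa using hh
      by_cases hb : g.right * a * g.right⁻¹ = 1
      · have ha : a = 1 := by simpa using hb
        simp [ha]
      · refine absurd ?_ hg
        have h0 := hfpf _ hb g.left.toAdd (by rw [add_neg_eq_zero] at key; exact key.symm)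
        exact Multiplicative.toAdd.injective (by simpa using h0)
  have hker : Nat.card (Cfsg.frobeniusKernel H0) = Nat.card V := by
    have heq : Cfsg.frobeniusKernel H0 = {x : (Multiplicative V ⋊[φ] A) | x.right = 1} := by
      ext x
      constructor
      · rintro (rfl | h)
        · rfl
        · by_contra hr
          change x.right ≠ 1 at hr
          let T : V → V := fun u => u - x.right • u
          have hT : Function.Injective T := by
            intro u w huw
            have h1 : x.right • (u - w) = u - w := by
              have h2 : u - x.right • u = w - x.right • w := huw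
              rw [smul_sub, ← sub_eq_zero]
              rw [← sub_eq_zero] at h2
              rw [← neg_eq_zero, ← h2]
              abel
            exact sub_eq_zero.1 (hfpf _ hr _ h1)
          obtain ⟨u, hu⟩ := hT.bijective_of_finite.2 x.left.toAdd
          refine h (SemidirectProduct.inl (Multiplicative.ofAdd u)) ?_
          refine ⟨SemidirectProduct.inr x.right, ⟨_, rfl⟩, ?_⟩
          change SemidirectProduct.inl (Multiplicative.ofAdd u) * SemidirectProduct.inr x.right *
            (SemidirectProduct.inl (Multiplicative.ofAdd u))⁻¹ = x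
          refine SemidirectProduct.ext ?_ (by simp)
          apply Multiplicative.toAdd.injective
          simp only [SemidirectProduct.mul_left, SemidirectProduct.mul_right,
            SemidirectProduct.inv_left, SemidirectProduct.left_inr, SemidirectProduct.right_inr,
            SemidirectProduct.left_inl, SemidirectProduct.right_inl,
            hφ, toAdd_mul, toAdd_ofAdd, toAdd_one, toAdd_inv, smul_zero, add_zero, inv_one, one_mul, mul_one, one_smul, smul_neg]
          rw [← hu]
          change u + -(x.right • u) = u - x.right • u
          rw [sub_eq_add_neg]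
      · intro hr
        by_cases hl : x = 1
        · exact Or.inl hl
        refine Or.inr fun g hg => ?_
        obtain ⟨y, hy, hyx⟩ := hg
        obtain ⟨a, rfl⟩ : ∃ a, SemidirectProduct.inr a = y := hy
        change g * SemidirectProduct.inr a * g⁻¹ = x at hyx
        have h1 : g.right * a * g.right⁻¹ = 1 := by
          have := congrArg SemidirectProduct.right hyx
          simp only [SemidirectProduct.mul_right, SemidirectProduct.inv_right,
            SemidirectProduct.right_inr] at this
          rw [this]; exact hr
        have ha : a = 1 := by simpa using h1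
        subst ha
        exact hl (by rw [← hyx]; simp)
    rw [heq]
    exact Nat.card_congr
      { toFun := fun x => x.1.left.toAdd
        invFun := fun v => ⟨SemidirectProduct.inl (Multiplicative.ofAdd v), rfl⟩
        left_inv := fun x => Subtype.ext (SemidirectProduct.ext rfl x.2.symm)
        right_inv := fun v => rfl }
  haveI : Finite (Multiplicative V ⋊[φ] A) := Finite.of_equiv _ SemidirectProduct.equivProd.symm
  obtain ⟨n, ⟨e0⟩⟩ := Finite.exists_equiv_fin (Multiplicative V ⋊[φ] A)
  -- a copy of the carrier in `Type` without an arithmetic of its own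
  let e := e0.trans (Equiv.subtypeUnivEquiv (p := fun _ : Fin n => True) fun _ => trivial).symm
  letI : Group {_i : Fin n // True} := e.symm.group
  let E : (Multiplicative V ⋊[φ] A) ≃* {_i : Fin n // True} := MulEquiv.mk' e (fun x y => by
    change e (x * y) = e (e.symm (e x) * e.symm (e y))
    simp)
  refine ⟨{_i : Fin n // True}, inferInstance, inferInstance, H0.map E.toMonoidHom,
    isFrobeniusComplement_map E hFC,
    ⟨(MonoidHom.ofInjective (f := (SemidirectProduct.inr : A →* (Multiplicative V ⋊[φ] A)))
      SemidirectProduct.inr_injective).trans (Subgroup.equivMapOfInjective H0 E.toMonoidHom E.injective : _ ≃* H0.map E.toMonoidHom)⟩, ?_⟩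
  rw [frobeniusKernel_map, ← hker]
  exact Nat.card_image_of_injective E.injective _

end CfsgLib.HallGen
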