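import Cfsg.Agent.Lib.HallGen.CauchyCount
import Cfsg.Agent.Lib.Char.Exceptional.GLFlags
import Cfsg.Agent.Lib.Char.Exceptional.GLParabolic
import Cfsg.Agent.Lib.Char.Perm
import Cfsg.Agent.Lib.Char.Virtual

/-!
# Orthonormality of the characters of `GL n` attached to partitions

Double cosets of two Young subgroups are counted by margin matrices; with the Cauchy determinant this gives the
orthonormality of the alternating sums of flag permutation characters.
-/

set_option autoImplicit false

namespace CfsgLib.HallGen.GLUnipotent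

open Finset CfsgLib.GLParabolic CfsgLib.HallGen.Cauchy
open scoped ComplexConjugate

variable {n : ℕ}

theorem mem_young_iff {μ : Fin n → ℕ} (hμ : ∑ i, μ i = n) (σ : Equiv.Perm (Fin n)) :
    σ ∈ Cfsg.youngSubgroup μ ↔ ∀ i, label hμ (σ i) = label hμ i :=
  ⟨fun h i => Fin.ext (h i), fun h i => congrArg Fin.val (h i)⟩

/-- Double cosets of two Young subgroups are counted by margin matrices. -/
theorem card_young_doubleCoset {a b : Fin n → ℕ} (ha : ∑ i, a i = n) (hb : ∑ i, b i = n) :
    Nat.card (DoubleCoset.Quotient (Cfsg.youngSubgroup a : Set (Equiv.Perm (Fin n))) (Cfsg.youngSubgroup b : Set _)) =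
      margN a b := by
  classical
  let la := label ha
  let lb := label hb
  have hfib : ∀ {c : Fin n → ℕ} (hc : ∑ i, c i = n) (i : Fin n),
      (univ.filter fun x => label hc x = i).card = c i := fun {c} hc i => by
    rw [← Fintype.card_subtype]
    exact card_label (hμ := hc) i
  let m : Equiv.Perm (Fin n) → Fin n → Fin n → ℕ := fun σ i j =>
    (univ.filter fun x => la (σ x) = i ∧ lb x = j).card
  have hrow : ∀ σ i, ∑ j, m σ i j = a i := by
    intro σ i
    rw [← hfib ha i, ← card_map σ.symm.toEmbedding, ← Finset.card_biUnion]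
    · congr 1
      ext x
      simp [la]
    · intro j _ j' _ hjj
      rw [Function.onFun, Finset.disjoint_left]
      intro x hx hx'
      simp only [mem_filter] at hx hx'
      exact hjj (hx.2.2.symm.trans hx'.2.2)
  have hcol : ∀ σ j, ∑ i, m σ i j = b j := by
    intro σ j
    rw [← hfib hb j, ← Finset.card_biUnion]
    · congr 1
      ext x
      simp [lb]
    · intro i _ i' _ hii
      rw [Function.onFun, Finset.disjoint_left]
      intro x hx hx'
      simp only [mem_filter] at hx hx'
      exact hii (hx.2.1.symm.trans hx'.2.1)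
  have hinv : ∀ σ τ, (DoubleCoset.setoid (Cfsg.youngSubgroup a : Set (Equiv.Perm (Fin n)))
      (Cfsg.youngSubgroup b : Set _)).r σ τ → m σ = m τ := by
    intro σ τ h
    obtain ⟨h₁, hh₁, k, hk, rfl⟩ := DoubleCoset.rel_iff.1 h
    funext i j
    refine (Finset.card_equiv k fun x => ?_).symm
    have e1 : la (h₁ (σ (k x))) = la (σ (k x)) := (mem_young_iff ha h₁).1 hh₁ (σ (k x))
    have e2 : lb (k x) = lb x := (mem_young_iff hb k).1 hk x
    refine ⟨fun hx => mem_filter.2 ⟨mem_univ _, ?_⟩, fun hx => mem_filter.2 ⟨mem_univ _, ?_⟩⟩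
    · obtain ⟨h1, h2⟩ := (mem_filter.1 hx).2
      exact ⟨e1.symm.trans h1, e2.trans h2⟩
    · obtain ⟨h1, h2⟩ := (mem_filter.1 hx).2
      exact ⟨e1.trans h1, e2.symm.trans h2⟩
  let Φ : DoubleCoset.Quotient (Cfsg.youngSubgroup a : Set (Equiv.Perm (Fin n))) (Cfsg.youngSubgroup b : Set _) →
      {M : Fin n → Fin n → ℕ // (∀ i, ∑ j, M i j = a i) ∧ ∀ j, ∑ i, M i j = b j} :=
    Quotient.lift (fun σ => ⟨m σ, hrow σ, hcol σ⟩) fun σ τ h => Subtype.ext (hinv σ τ h)
  refine Nat.card_eq_of_bijective Φ ⟨?_, ?_⟩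
  · intro X Y
    induction X using Quotient.inductionOn' with | h σ => ?_
    induction Y using Quotient.inductionOn' with | h τ => ?_
    intro h
    have hm : m σ = m τ := congrArg Subtype.val h
    have hcard : ∀ p : Fin n × Fin n, Fintype.card {x // (la (σ x), lb x) = p} =
        Fintype.card {x // (la (τ x), lb x) = p} := fun p => by
      have := congrFun (congrFun hm p.1) p.2
      simpa [m, Fintype.card_subtype, Prod.ext_iff] using this
    let π := Equiv.ofFiberEquiv (f := fun x => (la (σ x), lb x)) (g := fun x => (la (τ x), lb x))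
      fun p => Fintype.equivOfCardEq (hcard p)
    have hπ : ∀ x, (la (τ (π x)), lb (π x)) = (la (σ x), lb x) := fun x =>
      Equiv.ofFiberEquiv_map (f := fun x => (la (σ x), lb x)) (g := fun x => (la (τ x), lb x)) _ x
    refine Quotient.sound' (DoubleCoset.rel_iff.2 ⟨τ * π * σ⁻¹, (mem_young_iff ha _).2 fun i => ?_, π⁻¹, ?_, ?_⟩)
    · have := congrArg Prod.fst (hπ (σ⁻¹ i))
      simpa [la] using this
    · exact Subgroup.inv_mem _ ((mem_young_iff hb _).2 fun j => congrArg Prod.snd (hπ j))
    · group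
  · rintro ⟨M, hM1, hM2⟩
    let α := Σ p : Fin n × Fin n, Fin (M p.1 p.2)
    have hpair : ∀ (g : Fin n × Fin n → Prop) [DecidablePred g], Fintype.card {z : α // g z.1} =
        ∑ p ∈ univ.filter g, M p.1 p.2 := fun g _ => by
      rw [Fintype.card_subtype, show (univ.filter fun z : α => g z.1) =
        (univ.filter g).sigma fun _ => univ from Finset.ext fun z => ⟨fun h => Finset.mem_sigma.2
          ⟨mem_filter.2 ⟨mem_univ _, (mem_filter.1 h).2⟩, mem_univ _⟩, fun h => mem_filter.2
            ⟨mem_univ _, (mem_filter.1 (Finset.mem_sigma.1 h).1).2⟩⟩, card_sigma]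
      simp
    have ea : ∀ i, Fintype.card {z : α // z.1.1 = i} = Fintype.card {x : Fin n // la x = i} := fun i => by
      rw [hpair (fun p => p.1 = i), Fintype.card_subtype, hfib ha i, ← hM1 i, sum_filter, Fintype.sum_prod_type,
        sum_comm]
      simp
    have eb : ∀ j, Fintype.card {z : α // z.1.2 = j} = Fintype.card {x : Fin n // lb x = j} := fun j => by
      rw [hpair (fun p => p.2 = j), Fintype.card_subtype, hfib hb j, ← hM2 j, sum_filter, Fintype.sum_prod_type]
      simp
    let A : α ≃ Fin n := Equiv.ofFiberEquiv fun i => Fintype.equivOfCardEq (ea i)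
    let B : α ≃ Fin n := Equiv.ofFiberEquiv fun j => Fintype.equivOfCardEq (eb j)
    have hA : ∀ z, la (A z) = z.1.1 := fun z => Equiv.ofFiberEquiv_map _ z
    have hB : ∀ z, lb (B z) = z.1.2 := fun z => Equiv.ofFiberEquiv_map _ z
    refine ⟨Quotient.mk'' (B.symm.trans A), Subtype.ext (funext fun i => funext fun j => ?_)⟩
    show (univ.filter fun x => la ((B.symm.trans A) x) = i ∧ lb x = j).card = M i j
    rw [← Finset.card_equiv B (s := univ.filter fun z : α => z.1 = (i, j))
      (t := univ.filter fun x => la ((B.symm.trans A) x) = i ∧ lb x = j) fun z => by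
        simp [hA, hB, Prod.ext_iff], ← Fintype.card_subtype, hpair (fun p => p = (i, j))]
    simp [sum_filter]

theorem sum_sub_perm {ν : Fin n → ℕ} (hsum : ∑ i, ν i = n) (κ : Equiv.Perm (Fin n))
    (hκ : ∀ i : Fin n, (κ i).val ≤ ν i + i.val) : ∑ i : Fin n, (ν i + i.val - (κ i).val) = n := by
  have : ∑ i : Fin n, (ν i + i.val - (κ i).val) + ∑ i : Fin n, (κ i).val = ∑ i : Fin n, (ν i + i.val) := by
    rw [← sum_add_distrib]
    exact sum_congr rfl fun i _ => Nat.sub_add_cancel (hκ i)
  rw [Equiv.sum_comp κ (fun i => i.val), sum_add_distrib, hsum] at this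
  omega

variable {F : Type*} [Field F] [Fintype F]

theorem classInner_flags [DecidableEq F] {a b : Fin n → ℕ} (ha : ∑ i, a i = n) (hb : ∑ i, b i = n) :
    Cfsg.classInner (Cfsg.fixedPointCharacter (Cfsg.parabolicGL n F a))
      (Cfsg.fixedPointCharacter (Cfsg.parabolicGL n F b)) = (margN a b : ℂ) := by
  rw [← card_young_doubleCoset ha hb, card_doubleCoset_eq (F := F) a b, ← sum_fixed_mul_fixed, Cfsg.classInner]
  simp [Cfsg.fixedPointCharacter]

theorem isGen_unipotent (ν : Fin n → ℕ) :
    Cfsg.IsGeneralizedCharacter (GL (Fin n) F) (Cfsg.unipotentCharacterGL n F ν) := by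
  classical
  have h : Cfsg.unipotentCharacterGL n F ν = ∑ κ : Equiv.Perm (Fin n),
      (if ∀ i : Fin n, (κ i).val ≤ ν i + i.val then (Equiv.Perm.sign κ : ℤ) else 0) •
        Cfsg.fixedPointCharacter (Cfsg.parabolicGL n F fun i => ν i + i.val - (κ i).val) := by
    funext g
    simp only [Cfsg.unipotentCharacterGL, Finset.sum_apply, Pi.smul_apply, zsmul_eq_mul]
    refine sum_congr rfl fun κ _ => ?_
    split_ifs <;> simp
  rw [h]
  refine CfsgLib.Char.IsGen.sum _ _ fun κ _ => ?_
  have hh : ∀ (m : ℤ) (f : GL (Fin n) F → ℂ), Cfsg.IsGeneralizedCharacter (GL (Fin n) F) f →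
      Cfsg.IsGeneralizedCharacter (GL (Fin n) F) (m • f) := fun m f hf => by
    convert CfsgLib.Char.IsGen.intCast_smul m hf using 1
    funext g
    simp
  exact hh _ _ (CfsgLib.Char.IsGen.of_isCharacter (CfsgLib.Char.isCharacter_permChar (G := GL (Fin n) F)))

/-- The alternating flag sums attached to partitions are orthonormal. -/
theorem classInner_unipotent [DecidableEq F] {ν ν' : Fin n → ℕ} (hmono : Monotone ν) (hsum : ∑ i, ν i = n)
    (hmono' : Monotone ν') (hsum' : ∑ i, ν' i = n) :
    Cfsg.classInner (Cfsg.unipotentCharacterGL n F ν) (Cfsg.unipotentCharacterGL n F ν') =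
      if ν = ν' then 1 else 0 := by
  classical
  have hl : StrictMono fun i : Fin n => ν i + i.val := fun i j h =>
    Nat.add_lt_add_of_le_of_lt (hmono h.le) h
  have hl' : StrictMono fun i : Fin n => ν' i + i.val := fun i j h =>
    Nat.add_lt_add_of_le_of_lt (hmono' h.le) h
  have halt := congrArg (Int.cast : ℤ → ℂ) (alternant_sum _ _ hl hl')
  have hiff : (fun i : Fin n => ν i + i.val) = (fun i : Fin n => ν' i + i.val) ↔ ν = ν' :=
    ⟨fun h => funext fun i => by simpa using congrFun h i, fun h => h ▸ rfl⟩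
  rw [if_congr hiff rfl rfl, Int.cast_ite, Int.cast_one, Int.cast_zero, Int.cast_sum] at halt
  rw [← halt, Cfsg.classInner]
  simp only [Cfsg.unipotentCharacterGL, map_sum, sum_mul_sum, Int.cast_sum]
  rw [sum_comm, mul_sum]
  refine sum_congr rfl fun κ _ => ?_
  rw [sum_comm, mul_sum]
  refine sum_congr rfl fun κ' _ => ?_
  by_cases h : (∀ i : Fin n, (κ i).val ≤ ν i + i.val) ∧ ∀ i : Fin n, (κ' i).val ≤ ν' i + i.val
  · rw [if_pos h]
    push_cast
    rw [← classInner_flags (F := F) (sum_sub_perm hsum κ h.1) (sum_sub_perm hsum' κ' h.2), Cfsg.classInner,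
      ← mul_assoc, mul_comm ((Equiv.Perm.sign κ : ℤ) : ℂ) _, mul_assoc, mul_sum, mul_sum, mul_sum]
    refine sum_congr rfl fun g _ => ?_
    rw [if_pos h.1, if_pos h.2, map_mul, map_intCast]
    ring
  · rw [if_neg h, Int.cast_zero, sum_eq_zero fun g _ => ?_, mul_zero]
    rcases not_and_or.1 h with h | h <;> simp [if_neg h]

end CfsgLib.HallGen.GLUnipotent
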