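import Cfsg.Agent.Lib.Perm.FewSylowSmall
import Cfsg.Agent.Lib.Core.Coprime
import Cfsg.Agent.Lib.Classical.SmallIso
import Cfsg.Agent.Lib.LocalEven.PClosed

/-!
# The least order of a group that is not `p`-closed
-/

set_option autoImplicit false

namespace CfsgLib.HallGen.NonClosedLeast

open Subgroup
open scoped Pointwise

universe u

variable {p : ℕ} [hp : Fact p.Prime]

theorem psl_card_ge (hp3 : 3 < p) {G : Type*} [Group G] (h : CfsgLib.Perm.FewSylow.IsSmallPSL G p) :
    p * (p ^ 2 - 1) / 2 ≤ Nat.card G := by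
  rcases h with ⟨F, _, _, hF, -, ⟨e⟩⟩ | ⟨m, F, _, _, hF, hm, -, ⟨e⟩⟩
  · rw [Nat.card_congr e.toEquiv]
    have h1 := CfsgLib.Classical.Two.card_PSL_two (F := F)
    rw [hF] at h1
    have h2 : Nat.gcd 2 (p - 1) ≤ 2 := Nat.le_of_dvd two_pos (Nat.gcd_dvd_left _ _)
    rw [← h1]
    exact Nat.div_le_of_le_mul (Nat.mul_le_mul_right _ h2)
  · rw [Nat.card_congr e.toEquiv]
    have h1 := CfsgLib.Classical.Two.card_PSL_two (F := F)
    rw [hF] at h1
    have hm1 : 1 ≤ m := by
      by_contra h0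
      have : m = 0 := by omega
      subst this
      omega
    have hg : Nat.gcd 2 (2 ^ m - 1) = 1 := by
      refine (Nat.coprime_two_left.2 (Nat.Even.sub_odd Nat.one_le_two_pow ?_ odd_one))
      exact (Nat.even_pow' (by omega)).2 even_two
    rw [hg, one_mul] at h1
    rw [h1]
    refine Nat.div_le_of_le_mul ?_
    have hm2 : 2 ≤ m := by
      by_contra h0
      have : m = 1 := by omega
      subst this
      omega
    have h4 : 4 ≤ 2 ^ m := le_trans (by norm_num : 4 ≤ 2 ^ 2) (Nat.pow_le_pow_right two_pos hm2)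
    set a := 2 ^ m with ha
    rw [hm]
    obtain ⟨c, hc⟩ : ∃ c, a ^ 2 = c + 1 := ⟨a ^ 2 - 1, by have : 1 ≤ a ^ 2 := Nat.one_le_pow _ _ (by omega); omega⟩
    obtain ⟨d, hd⟩ : ∃ d, (a + 1) ^ 2 = d + 1 := ⟨(a + 1) ^ 2 - 1, by have : 1 ≤ (a + 1) ^ 2 := Nat.one_le_pow _ _ (by omega); omega⟩
    rw [hc, hd, Nat.add_sub_cancel, Nat.add_sub_cancel]
    nlinarith [Nat.mul_le_mul_left (a * (a + 1)) h4]

theorem lower (hp2 : p ≠ 2) {m : ℕ} (hleast : ∀ k : ℕ, IsPrimePow k → k % p = 1 → m ≤ k) :
    ∀ (n : ℕ) (G : Type u) [Group G] [Finite G], Nat.card G = n → ¬ Cfsg.IsPClosed p G →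
      min (p * m) (p * (p ^ 2 - 1) / 2) ≤ n := by
  intro n
  induction n using Nat.strong_induction_on with
  | _ n ih =>
  intro G _ _ hn hG
  by_contra hlt
  push Not at hlt
  obtain ⟨P, hP⟩ : ∃ P : Sylow p G, ¬ (P : Subgroup G).Normal := by
    simpa [Cfsg.IsPClosed] using hG
  have hsub : ∀ K : Subgroup G, K ≠ ⊤ → Cfsg.IsPClosed p K := by
    intro K hK
    by_contra hc
    have h1 : Nat.card K < n := hn ▸ lt_of_le_of_ne (Subgroup.card_le_card_group K)
      (fun h => hK (eq_top_of_card_eq K h))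
    exact absurd (ih _ h1 K rfl hc) (not_le.2 (h1.trans hlt))
  have hquot : ∀ (N : Subgroup G) [N.Normal], N ≠ ⊥ → Cfsg.IsPClosed p (G ⧸ N) := by
    intro N _ hN
    by_contra hc
    have h1 : Nat.card (G ⧸ N) < n := hn ▸ CfsgLib.Components.card_quotient_lt hN
    exact absurd (ih _ h1 (G ⧸ N) rfl hc) (not_le.2 (h1.trans hlt))
  -- normal `p`-subgroups are trivial
  have hnop : ∀ (N : Subgroup G) [N.Normal], IsPGroup p N → N = ⊥ := by
    intro N _ hN
    by_contra hne
    have hle : N ≤ (P : Subgroup G) := (CfsgLib.Core.le_pCore hN).trans (CfsgLib.Core.pCore_le_sylow P)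
    have h1 := hquot N hne (P.mapSurjective (QuotientGroup.mk'_surjective N))
    rw [Sylow.coe_mapSurjective] at h1
    refine hP ?_
    rw [← comap_map_eq_self (f := QuotientGroup.mk' N) (H := (P : Subgroup G)) (by rwa [QuotientGroup.ker_mk'])]
    exact h1.comap _
  have hPchar : ∀ (K : Subgroup G) [K.Normal], K ≠ ⊤ → ¬ (P : Subgroup G) ≤ K := by
    intro K _ hK hle
    have h1 : (P.subtype hle : Subgroup K).Normal := hsub K hK _
    haveI := Sylow.characteristic_of_normal _ h1
    have h2 : ((P.subtype hle : Subgroup K).map K.subtype).Normal := ConjAct.normal_of_characteristic_of_normal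
    rw [Sylow.coe_subtype, subgroupOf_map_subtype, inf_eq_left.2 hle] at h2
    exact hP h2
  have hpG : p ∣ Nat.card G := by
    by_contra hc
    have hbot : (P : Subgroup G) = ⊥ := eq_bot_of_card_eq _ (by
      rw [P.card_eq_multiplicity, Nat.factorization_eq_zero_of_not_dvd hc, pow_zero])
    exact hP (hbot ▸ inferInstance)
  by_cases hperf : _root_.commutator G = ⊤
  · rcases lt_or_ge 3 p with hp3 | hp3
    · have hbig : Nat.card G < p ^ 3 := by
        rw [hn]
        refine lt_of_lt_of_le hlt ((min_le_right _ _).trans ((Nat.div_le_self _ _).trans ?_))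
        calc p * (p ^ 2 - 1) ≤ p * p ^ 2 := Nat.mul_le_mul_left _ (Nat.sub_le _ _)
          _ = p ^ 3 := by ring
      obtain ⟨H, hHn, -, -, hH⟩ := CfsgLib.Perm.FewSylow.exists_quotient hpG hbig hperf P hP
      have h1 : Nat.card (G ⧸ H) ≤ n := hn ▸ Nat.le_of_dvd Nat.card_pos (card_quotient_dvd_card H)
      exact absurd ((min_le_right _ _).trans ((psl_card_ge hp3 hH).trans h1)) (not_le.2 hlt)
    · have hp3' : p = 3 := by have := hp.out.two_le; omega
      subst hp3'
      have hn12 : n < 12 := lt_of_lt_of_le hlt (min_le_right _ _)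
      have hbig : Nat.card G < 3 ^ 3 := by omega
      obtain ⟨H, hHn, -, -, hH⟩ := CfsgLib.Perm.FewSylow.exists_quotient hpG hbig hperf P hP
      rcases hH with ⟨_, _, _, -, h3, -⟩ | ⟨_, _, _, _, -, -, h3, -⟩ <;> omega
  set M := _root_.commutator G with hM
  have hMp : ¬ p ∣ Nat.card M := by
    intro hd
    obtain ⟨Q⟩ : Nonempty (Sylow p M) := inferInstance
    have hQn : (Q : Subgroup M).Normal := hsub M hperf Q
    haveI := Sylow.characteristic_of_normal _ hQn
    haveI : ((Q : Subgroup M).map M.subtype).Normal := ConjAct.normal_of_characteristic_of_normal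
    have h1 := hnop _ (Q.2.map M.subtype)
    rw [map_eq_bot_iff_of_injective _ M.subtype_injective] at h1
    exact Q.ne_bot_of_dvd_card hd h1
  have htop : M ⊔ (P : Subgroup G) = ⊤ := by
    by_contra hne
    haveI : (M ⊔ (P : Subgroup G)).Normal := Subgroup.Normal.of_commutator_le G (le_sup_left : M ≤ _)
    exact hPchar _ hne le_sup_right
  have hPM : (P : Subgroup G) ≤ normalizer (M : Set G) := CfsgLib.Core.le_normalizer_of_normal _ _
  have hcop : (Nat.card (P : Subgroup G)).Coprime (Nat.card M) := by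
    rw [P.card_eq_multiplicity]
    exact (hp.out.coprime_iff_not_dvd.2 hMp).pow_left _
  have hsolv : Group.IsSolvable (P : Subgroup G) := by
    haveI := P.2.isNilpotent
    infer_instance
  obtain ⟨q, hq, Q, hQP, hQn, hQC⟩ : ∃ (q : ℕ) (_ : q.Prime) (Q : Subgroup G),
      IsPGroup q Q ∧ (P : Subgroup G) ≤ normalizer (Q : Set G) ∧ Q ⊔ (P : Subgroup G) = ⊤ := by
    by_contra hc
    push Not at hc
    refine hP ?_
    rw [← normalizer_eq_top_iff]
    refine top_le_iff.1 (htop ▸ sup_le ?_ le_normalizer)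
    have hall : (⊤ : Subgroup M) ≤ (normalizer ((P : Subgroup G) : Set G)).subgroupOf M := by
      refine le_of_eq (CfsgLib.Core.eq_top_of_forall_exists_sylow_le _ fun q hq _ => ?_).symm
      haveI := Fact.mk hq
      obtain ⟨Q, hQ⟩ := CfsgLib.Core.exists_invariant_sylow hPM hcop (Or.inl hsolv) q
      refine ⟨Q, ?_⟩
      set R := (Q : Subgroup M).map M.subtype
      have h1 : Cfsg.IsPClosed p ↥(R ⊔ (P : Subgroup G)) :=
        hsub _ (hc q hq R (Q.2.map _) hQ)
      have h2 := h1 (P.subtype le_sup_right)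
      rw [Sylow.coe_subtype] at h2
      have h3 : R ⊔ (P : Subgroup G) ≤ normalizer ((P : Subgroup G) : Set G) :=
        (normal_subgroupOf_iff_le_normalizer le_sup_right).1 h2
      exact fun y hy => h3 (mem_sup_left ⟨y, hy, rfl⟩)
    exact fun y hy => hall (mem_top (⟨y, hy⟩ : M))
  haveI := Fact.mk hq
  have hNidx : (normalizer ((P : Subgroup G) : Set G)).index = Nat.card (Sylow p G) :=
    (Sylow.card_eq_index_normalizer P).symm
  -- the number of Sylow subgroups is a power of `q`
  obtain ⟨b, hb⟩ := IsPGroup.iff_card.1 hQP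
  have hidx : Nat.card (Sylow p G) ∣ q ^ b := by
    rw [← hNidx]
    refine dvd_trans ?_ (hb ▸ relIndex_dvd_card (normalizer ((P : Subgroup G) : Set G)) Q)
    set N := normalizer ((P : Subgroup G) : Set G) with hN
    have h1 : ((↑Q : Set G) * (↑(P : Subgroup G) : Set G)) = Set.univ := by
      rw [← coe_mul_of_right_le_normalizer_left Q (P : Subgroup G) hQn, hQC, coe_top]
    refine dvd_of_eq (Nat.card_congr (Equiv.ofBijective
      (fun y : ↥Q ⧸ N.subgroupOf Q => (Quotient.map' (fun z : Q => (z : G)) (fun z w h => by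
        rw [QuotientGroup.leftRel_apply] at h ⊢
        exact h) y : G ⧸ N)) ⟨?_, ?_⟩)).symm
    · rintro ⟨z⟩ ⟨w⟩ h
      have h' : (QuotientGroup.mk (z : G) : G ⧸ N) = QuotientGroup.mk (w : G) := h
      exact QuotientGroup.eq.2 (mem_subgroupOf.2 (QuotientGroup.eq.1 h'))
    · rintro ⟨g⟩
      obtain ⟨z, hz, w, hw, rfl⟩ : g ∈ ((↑Q : Set G) * (↑(P : Subgroup G) : Set G)) := h1 ▸ trivial
      refine ⟨QuotientGroup.mk ⟨z, hz⟩, ?_⟩
      show (QuotientGroup.mk z : G ⧸ N) = QuotientGroup.mk (z * w)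
      rw [QuotientGroup.eq, inv_mul_cancel_left]
      exact le_normalizer hw
  obtain ⟨i, -, hi⟩ := (Nat.dvd_prime_pow hq).1 hidx
  have hne : Nat.card (Sylow p G) ≠ 1 := by
    intro h
    refine hP (normalizer_eq_top_iff.1 ?_)
    exact index_eq_one.1 (by rw [hNidx, h])
  have hm : m ≤ Nat.card (Sylow p G) := by
    refine hleast _ ?_ ?_
    · rw [hi] at hne ⊢
      exact hq.prime.isPrimePow.pow (fun h => hne (by rw [h, pow_zero]))
    · have := card_sylow_modEq_one p G
      rwa [Nat.ModEq, Nat.one_mod_eq_one.2 hp.out.ne_one] at this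
  have h2 : p * m ≤ Nat.card G := by
    rw [← card_mul_index (normalizer ((P : Subgroup G) : Set G)), hNidx]
    refine Nat.mul_le_mul (Nat.le_of_dvd Nat.card_pos (dvd_trans ?_ (card_dvd_of_le le_normalizer))) hm
    rw [P.card_eq_multiplicity]
    exact dvd_pow_self p (hp.out.factorization_pos_of_dvd Nat.card_pos.ne' hpG).ne'
  exact absurd ((min_le_left _ _).trans (hn ▸ h2)) (not_le.2 hlt)

end CfsgLib.HallGen.NonClosedLeast
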