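import Cfsg.Agent.S4354
import Cfsg.Agent.Lib.Core.Basic

/-!
# Odd class sizes of 2-elements force abelian Sylow 2-subgroups

An elementary proof.  No 2-element of order at least 4 is real, so in every Sylow 2-subgroup `S`
the involutions commute and `E = Ω₁(S)` is elementary abelian; the normaliser of `E` inherits the
hypothesis, and induction on `N(E)/E` finishes the proof.
-/

set_option autoImplicit false

namespace CfsgLib.HallGen.OddClassTwo

open Subgroup CfsgLib.Core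
open scoped Pointwise

variable {G : Type*} [Group G] [Finite G]

/-- The hypothesis. -/
def Hyp (G : Type*) [Group G] : Prop :=
  ∀ x : G, (∃ k : ℕ, orderOf x = 2 ^ k) → ¬ 2 ∣ (centralizer ({x} : Set G)).index

theorem exists_pow_of_mem_sylow (P : Sylow 2 G) {x : G} (hx : x ∈ P) : ∃ k : ℕ, orderOf x = 2 ^ k := by
  obtain ⟨k, hk⟩ := (IsPGroup.iff_orderOf.1 P.2) ⟨x, hx⟩
  exact ⟨k, (Subgroup.orderOf_coe (⟨x, hx⟩ : (P : Subgroup G))).trans hk⟩

/-- A Sylow subgroup inside the centraliser of a 2-element, containing it. -/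
theorem exists_sylow_centralizer (h : Hyp G) {x : G} (hx : ∃ k : ℕ, orderOf x = 2 ^ k) :
    ∃ R : Sylow 2 G, (R : Subgroup G) ≤ centralizer ({x} : Set G) ∧ x ∈ R := by
  set C := centralizer ({x} : Set G)
  obtain ⟨R₀⟩ : Nonempty (Sylow 2 C) := inferInstance
  have hp : IsPGroup 2 ((R₀ : Subgroup C).map C.subtype) := R₀.2.map _
  have hi : ¬ 2 ∣ ((R₀ : Subgroup C).map C.subtype).index := by
    rw [index_map_subtype]
    exact fun hd => (Nat.prime_two.dvd_mul.1 hd).elim R₀.not_dvd_index (h x hx)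
  refine ⟨hp.toSylow hi, ?_, ?_⟩
  · rw [IsPGroup.toSylow_coe]
    exact map_subtype_le _
  · obtain ⟨k, hk⟩ := hx
    have hz : IsPGroup 2 (zpowers x) := IsPGroup.of_card ((Nat.card_zpowers x).trans hk)
    have h1 : x ∈ zpowers x ⊓ normalizer (((hp.toSylow hi : Sylow 2 G) : Subgroup G) : Set G) := by
      refine ⟨mem_zpowers x, ?_⟩
      refine centralizer_le_normalizer _ (mem_centralizer_iff.2 fun y hy => ?_)
      have hy' : y ∈ (R₀ : Subgroup C).map C.subtype := hy
      exact mem_centralizer_singleton_iff.1 (map_subtype_le _ hy')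
    exact ((hz.inf_normalizer_sylow _).le h1).2

/-- No 2-element of order at least 4 is conjugate to its inverse. -/
theorem sq_eq_one_of_real (h : Hyp G) {x g : G} (hx : ∃ k : ℕ, orderOf x = 2 ^ k) (hg : g * x * g⁻¹ = x⁻¹) :
    x ^ 2 = 1 := by
  obtain ⟨R, hR, hxR⟩ := exists_sylow_centralizer h hx
  set C := centralizer ({x} : Set G) with hC
  have hconj : ((g • R : Sylow 2 G) : Subgroup G) ≤ C := by
    intro y hy
    rw [Sylow.coe_subgroup_smul, mem_conj_smul_iff] at hy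
    have h1 := mem_centralizer_singleton_iff.1 (hR hy)
    have h2 : Commute y (g * x * g⁻¹) := by
      show y * (g * x * g⁻¹) = g * x * g⁻¹ * y
      calc y * (g * x * g⁻¹) = g * (g⁻¹ * y * g * x) * g⁻¹ := by group
        _ = g * (x * (g⁻¹ * y * g)) * g⁻¹ := by rw [h1]
        _ = g * x * g⁻¹ * y := by group
    rw [hg] at h2
    exact mem_centralizer_singleton_iff.2 (by simpa using h2.inv_right.eq)
  obtain ⟨⟨c, hc⟩, hcg⟩ := MulAction.exists_smul_eq C ((g • R).subtype hconj) (R.subtype hR)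
  rw [Sylow.smul_subtype hconj] at hcg
  have hn' : c • g • R = R := Sylow.subtype_injective hcg
  rw [smul_smul, Sylow.smul_eq_iff_mem_normalizer] at hn'
  set n := c * g with hn
  have hnx : n * x * n⁻¹ = x⁻¹ := by
    have hcx : c * x⁻¹ = x⁻¹ * c := (Commute.inv_right (mem_centralizer_singleton_iff.1 hc)).eq
    calc n * x * n⁻¹ = c * (g * x * g⁻¹) * c⁻¹ := by rw [hn]; group
      _ = x⁻¹ := by rw [hg, hcx, mul_inv_cancel_right]
  obtain ⟨a, t, hodd, hord⟩ := Nat.exists_eq_two_pow_mul_odd (n := orderOf n) (orderOf_pos n).ne'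
  have hpow : ∀ j : ℕ, n ^ j * x * (n ^ j)⁻¹ = if Even j then x else x⁻¹ := by
    intro j
    induction j with
    | zero => simp
    | succ j ih =>
      have : n ^ (j + 1) * x * (n ^ (j + 1))⁻¹ = n * (n ^ j * x * (n ^ j)⁻¹) * n⁻¹ := by
        rw [pow_succ']; group
      rw [this, ih]
      by_cases hj : Even j
      · rw [if_pos hj, if_neg (by rw [Nat.even_add_one]; exact not_not.2 hj), hnx]
      · rw [if_neg hj, if_pos (Nat.even_add_one.2 hj), show n * x⁻¹ * n⁻¹ = (n * x * n⁻¹)⁻¹ by group, hnx, inv_inv]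
  have hm : n ^ t ∈ R := by
    have hz : IsPGroup 2 (zpowers (n ^ t)) := by
      refine IsPGroup.of_card (n := a) ?_
      rw [Nat.card_zpowers, orderOf_pow_of_dvd hodd.pos.ne' (hord ▸ dvd_mul_left t _), hord, Nat.mul_div_cancel _ hodd.pos]
    exact ((hz.inf_normalizer_sylow R).le ⟨mem_zpowers _, pow_mem hn' t⟩).2
  have h1 := mem_centralizer_singleton_iff.1 (hR hm)
  have h2 := hpow t
  rw [if_neg (Nat.not_even_iff_odd.2 hodd), h1, mul_inv_cancel_right] at h2
  rw [pow_two]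
  nth_rw 1 [h2]
  exact inv_mul_cancel x

theorem commute_of_sq_eq_one (h : Hyp G) (P : Sylow 2 G) {u v : G} (hu : u ∈ P) (hv : v ∈ P)
    (hu2 : u ^ 2 = 1) (hv2 : v ^ 2 = 1) : Commute u v := by
  rw [pow_two] at hu2 hv2
  have hui : u⁻¹ = u := inv_eq_of_mul_eq_one_left hu2
  have hvi : v⁻¹ = v := inv_eq_of_mul_eq_one_left hv2
  have h1 : u * (u * v) * u⁻¹ = (u * v)⁻¹ := by
    rw [mul_inv_rev, hui, hvi, ← mul_assoc u u v, hu2, one_mul]
  have h2 := sq_eq_one_of_real h (exists_pow_of_mem_sylow P (mul_mem hu hv)) h1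
  rw [pow_two] at h2
  calc u * v = (u * v)⁻¹ := (inv_eq_of_mul_eq_one_left h2).symm
    _ = v * u := by rw [mul_inv_rev, hui, hvi]

/-- `Ω₁` of a Sylow 2-subgroup. -/
def omega (P : Sylow 2 G) : Subgroup G := closure {y | y ∈ P ∧ y ^ 2 = 1}

theorem mem_omega (h : Hyp G) {P : Sylow 2 G} {y : G} : y ∈ omega P ↔ y ∈ P ∧ y ^ 2 = 1 := by
  refine ⟨fun hy => ?_, fun hy => subset_closure hy⟩
  induction hy using closure_induction with
  | mem z hz => exact hz
  | one => exact ⟨one_mem _, one_pow 2⟩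
  | mul a b _ _ ha hb =>
    exact ⟨mul_mem ha.1 hb.1, by rw [(commute_of_sq_eq_one h P ha.1 hb.1 ha.2 hb.2).mul_pow, ha.2, hb.2, one_mul]⟩
  | inv a _ ha => exact ⟨inv_mem ha.1, by rw [inv_pow, ha.2, inv_one]⟩

theorem omega_le (h : Hyp G) (P : Sylow 2 G) : omega P ≤ P := fun _ hy => ((mem_omega h).1 hy).1

theorem omega_smul (h : Hyp G) (g : G) (P : Sylow 2 G) : omega (g • P) = MulAut.conj g • omega P := by
  ext y
  rw [mem_conj_smul_iff, mem_omega h, mem_omega h]
  refine and_congr ?_ ?_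
  · change y ∈ ((g • P : Sylow 2 G) : Subgroup G) ↔ _
    rw [Sylow.coe_subgroup_smul, mem_conj_smul_iff]
    rfl
  · rw [show g⁻¹ * y * g = g⁻¹ * y * (g⁻¹)⁻¹ by rw [inv_inv], conj_pow, mul_inv_eq_one, mul_eq_left]

theorem omega_eq_of_le (h : Hyp G) {P R : Sylow 2 G} (hle : omega P ≤ R) : omega P = omega R := by
  obtain ⟨g, rfl⟩ := MulAction.exists_smul_eq G P R
  refine eq_of_le_of_card_ge (fun y hy => (mem_omega h).2 ⟨hle hy, ((mem_omega h).1 hy).2⟩) ?_
  rw [omega_smul h, card_conj_smul]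

/-- Two `Ω₁`s are conjugate by an element centralising the intersection of the Sylow subgroups. -/
theorem exists_conj_omega (h : Hyp G) : ∀ D : Subgroup G, ∀ P R : Sylow 2 G, (P : Subgroup G) ⊓ R = D →
    ∃ c ∈ centralizer (D : Set G), omega P = MulAut.conj c • omega R := by
  intro D
  induction D using (wellFounded_gt (α := Subgroup G)).induction with
  | _ D ih =>
  intro P R hD
  by_cases hPD : omega P ≤ D
  · refine ⟨1, one_mem _, ?_⟩
    rw [conj_one_smul]
    exact omega_eq_of_le h (hPD.trans (hD.ge.trans inf_le_right))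
  have hDP : D ≤ P := hD.ge.trans inf_le_left
  have hDR : D ≤ R := hD.ge.trans inf_le_right
  have hDR' : D < R := lt_of_le_of_ne hDR fun heq => by
    have : (R : Subgroup G) ≤ P := heq ▸ hDP
    have heP : (P : Subgroup G) = R := (R.is_maximal' P.2 this).trans rfl
    exact hPD ((omega_le h P).trans (le_of_eq (heP.trans heq.symm)))
  -- an element of `Ω₁(P)` normalising `D`
  have hPn : (P : Subgroup G) ≤ normalizer (omega P : Set G) := by
    intro z hz
    rw [mem_normalizer_iff_conj_smul_eq, ← omega_smul h]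
    exact congrArg omega (Sylow.smul_eq_iff_mem_normalizer.2 (le_normalizer hz))
  have hgrow : ∀ S : Sylow 2 G, ∀ X : Subgroup G, X ≤ S → D < X → D < X ⊓ normalizer (D : Set G) := by
    intro S X hXS hlt
    refine lt_of_le_of_ne (le_inf hlt.le le_normalizer) fun heq => ?_
    haveI := (S.2.to_le hXS).isNilpotent
    have h1 := Group.normalizerCondition_of_isNilpotent (G := X) (D.subgroupOf X)
      (lt_top_iff_ne_top.2 fun htop => hlt.not_ge (subgroupOf_eq_top.1 htop))
    obtain ⟨y, hy, hy'⟩ := SetLike.exists_of_lt h1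
    refine hy' ((heq.ge : X ⊓ normalizer (D : Set G) ≤ D) ⟨y.2, mem_normalizer_iff.2 fun c => ⟨fun hc => ?_, fun hc => ?_⟩⟩)
    · exact (mem_normalizer_iff.1 hy ⟨c, hlt.le hc⟩).1 hc
    · have hcX : c ∈ X := by
        have := X.mul_mem (X.mul_mem (X.inv_mem y.2) (hlt.le hc)) y.2
        simpa [mul_assoc] using this
      exact (mem_normalizer_iff.1 hy ⟨c, hcX⟩).2 hc
  set X := D ⊔ omega P with hX
  have hDX : D < X := lt_of_le_of_ne le_sup_left fun heq => hPD (le_sup_right.trans heq.ge)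
  obtain ⟨z, hz, hzD⟩ := SetLike.exists_of_lt (hgrow P X (sup_le hDP (omega_le h P)) hDX)
  obtain ⟨d, hd, e, heO, rfl⟩ : ∃ d ∈ D, ∃ e ∈ omega P, d * e = z := by
    have h1 : z ∈ (↑(D ⊔ omega P) : Set G) := hz.1
    rw [coe_mul_of_left_le_normalizer_right _ _ (hDP.trans hPn)] at h1
    exact Set.mem_mul.1 h1
  have heD : e ∉ D := fun h' => hzD (mul_mem hd h')
  have heN : e ∈ normalizer (D : Set G) := by
    have h1 := mul_mem (inv_mem (le_normalizer hd)) hz.2
    rwa [inv_mul_cancel_left] at h1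
  -- Sylow subgroups of `N = N(D)`
  set N := normalizer (D : Set G) with hN
  obtain ⟨T₀, hT₀⟩ := ((P.2.to_le (inf_le_left : (P : Subgroup G) ⊓ N ≤ P)).comap_of_injective N.subtype
    N.subtype_injective).exists_le_sylow
  obtain ⟨T₁, hT₁⟩ := ((R.2.to_le (inf_le_left : (R : Subgroup G) ⊓ N ≤ R)).comap_of_injective N.subtype
    N.subtype_injective).exists_le_sylow
  obtain ⟨n, hn⟩ := MulAction.exists_smul_eq N T₀ T₁
  obtain ⟨T, hT⟩ := (T₀.2.map N.subtype).exists_le_sylow
  have hPT : (P : Subgroup G) ⊓ N ≤ T := fun y hy => hT ⟨⟨y, hy.2⟩, hT₀ hy, rfl⟩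
  have hRT : (R : Subgroup G) ⊓ N ≤ ((n : G) • T : Sylow 2 G) := by
    intro y hy
    have h1 : (⟨y, hy.2⟩ : N) ∈ T₁ := hT₁ hy
    rw [← hn] at h1
    change (⟨y, hy.2⟩ : N) ∈ ((n • T₀ : Sylow 2 N) : Subgroup N) at h1
    rw [Sylow.coe_subgroup_smul, mem_conj_smul_iff] at h1
    rw [Sylow.coe_subgroup_smul, mem_conj_smul_iff]
    exact hT ⟨_, h1, by simp⟩
  obtain ⟨c₁, hc₁, ec₁⟩ : ∃ c ∈ centralizer (D : Set G), omega P = MulAut.conj c • omega T := by
    have hlt : D < (P : Subgroup G) ⊓ T := lt_of_lt_of_le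
      (hgrow P P le_rfl (lt_of_le_of_ne hDP fun heq => hPD ((omega_le h P).trans heq.ge)))
      (le_inf inf_le_left hPT)
    obtain ⟨c, hc, hce⟩ := ih _ hlt P T rfl
    exact ⟨c, centralizer_le hlt.le hc, hce⟩
  obtain ⟨c₃, hc₃, ec₃⟩ : ∃ c ∈ centralizer (D : Set G),
      omega ((n : G) • T) = MulAut.conj c • omega R := by
    have hlt : D < (((n : G) • T : Sylow 2 G) : Subgroup G) ⊓ R := lt_of_lt_of_le
      (hgrow R R le_rfl hDR') (le_inf hRT inf_le_left)
    obtain ⟨c, hc, hce⟩ := ih _ hlt _ R rfl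
    exact ⟨c, centralizer_le hlt.le hc, hce⟩
  -- the stabiliser of the series `1 ≤ Ω₁(D) ≤ D`
  let π : N →* MulAut D := D.normalizerMonoidHom
  have hπ : ∀ (w : N) (y : D), ((π w y : D) : G) = (w : G) * y * (w : G)⁻¹ := fun w y => rfl
  let Wst : Subgroup (MulAut D) :=
    { carrier := {φ | (∀ y : D, (y : G) ^ 2 = 1 → φ y = y) ∧ ∀ y : D, ((y⁻¹ * φ y : D) : G) ^ 2 = 1}
      one_mem' := by simp
      mul_mem' := by
        rintro φ ψ ⟨h1, h2⟩ ⟨h3, h4⟩
        refine ⟨fun y hy => by rw [MulAut.mul_apply, h3 y hy, h1 y hy], fun y => ?_⟩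
        have e1 : φ (ψ y) = φ y * (y⁻¹ * ψ y) := by
          rw [← h1 _ (h4 y), ← map_mul, mul_inv_cancel_left]
        rw [MulAut.mul_apply, e1, ← mul_assoc, Subgroup.coe_mul]
        rw [(commute_of_sq_eq_one h P (hDP (Subtype.coe_prop _)) (hDP (Subtype.coe_prop _)) (h2 y) (h4 y)).mul_pow,
          h2 y, h4 y, one_mul]
      inv_mem' := by
        rintro φ ⟨h1, h2⟩
        refine ⟨fun y hy => φ.symm_apply_eq.2 (h1 y hy).symm, fun y => ?_⟩
        have e0 : φ (φ.symm y) = y := φ.apply_symm_apply y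
        have e2 := h2 (φ.symm y)
        rw [e0] at e2
        have e3 : (φ⁻¹ y : D) = φ.symm y := rfl
        rw [e3, show y⁻¹ * φ.symm y = ((φ.symm y)⁻¹ * y)⁻¹ by group, Subgroup.coe_inv, inv_pow, e2, inv_one] }
  have hWsq : ∀ φ ∈ Wst, φ ^ 2 = 1 := by
    rintro φ ⟨h1, h2⟩
    refine MulEquiv.ext fun y => ?_
    rw [pow_two, MulAut.mul_apply, MulAut.one_apply]
    have e1 : φ y = y * (y⁻¹ * φ y) := (mul_inv_cancel_left y _).symm
    have e2 : (y⁻¹ * φ y) * (y⁻¹ * φ y) = 1 := Subtype.ext (by simpa [pow_two] using h2 y)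
    calc φ (φ y) = φ y * φ (y⁻¹ * φ y) := by rw [← map_mul]; exact congrArg φ e1
      _ = y * ((y⁻¹ * φ y) * (y⁻¹ * φ y)) := by rw [h1 _ (h2 y)]; group
      _ = y := by rw [e2, mul_one]
  haveI hWn : (Wst.comap π).Normal := by
    refine ⟨fun w hw g => ?_⟩
    have hsq : ∀ (g : N) (y : D), (y : G) ^ 2 = 1 → ((π g y : D) : G) ^ 2 = 1 := fun g y hy => by
      rw [hπ, conj_pow, hy, mul_one, mul_inv_cancel]
    have hsq' : ∀ (g : N) (y : D), (y : G) ^ 2 = 1 → (((π g)⁻¹ y : D) : G) ^ 2 = 1 := fun g y hy => by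
      rw [← map_inv]; exact hsq g⁻¹ y hy
    rw [mem_comap, map_mul, map_mul, map_inv]
    refine ⟨fun y hy => ?_, fun y => ?_⟩
    · rw [MulAut.mul_apply, MulAut.mul_apply, hw.1 _ (hsq' g y hy), MulAut.apply_inv_self]
    · have e : y⁻¹ * π g (π w ((π g)⁻¹ y)) = π g (((π g)⁻¹ y)⁻¹ * π w ((π g)⁻¹ y)) := by
        rw [map_mul, map_inv, MulAut.apply_inv_self]
      rw [MulAut.mul_apply, MulAut.mul_apply, e]
      exact hsq g _ (hw.2 _)
  set W := Wst.comap π with hW
  haveI hDn : (D.subgroupOf N).Normal := normal_subgroupOf_of_le_normalizer le_rfl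
  set M := W ⊔ D.subgroupOf N with hM
  set U := (T₀ : Subgroup N) ⊓ M with hU
  have hKW : π.ker ≤ W := fun w hw => by
    rw [hW, mem_comap, MonoidHom.mem_ker.1 hw]
    exact Wst.one_mem
  have hUidx : ¬ 2 ∣ U.relIndex M := by
    rw [hU, inf_relIndex_right]
    intro hd
    exact T₀.not_dvd_index (hd.trans (CfsgLib.ClassSizes.relIndex_dvd_index_of_normal_right M (T₀ : Subgroup N)))
  have hUp : IsPGroup 2 (U.subgroupOf M) :=
    (T₀.2.to_le (inf_le_left : U ≤ T₀)).comap_of_injective M.subtype M.subtype_injective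
  let UM : Sylow 2 M := hUp.toSylow hUidx
  have hfr := Sylow.normalizer_sup_eq_top UM
  rw [show ((UM : Sylow 2 M) : Subgroup M).map M.subtype = U by
    show (hUp.toSylow hUidx : Subgroup M).map M.subtype = U
    show (U.subgroupOf M).map M.subtype = U
    rw [subgroupOf_map_subtype, inf_eq_left.2 inf_le_right]] at hfr
  have hMC : M ≤ π.ker ⊔ U := by
    refine relIndex_eq_one.1 ?_
    have h1 : (π.ker ⊔ U).relIndex M ∣ U.relIndex M := relIndex_dvd_of_le_left _ le_sup_right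
    have h2 : ∃ k, (π.ker).relIndex M = 2 ^ k := by
      obtain ⟨k₁, hk₁⟩ : ∃ k, (π.ker).relIndex W = 2 ^ k := by
        rw [relIndex_ker]
        refine IsPGroup.iff_card.1 fun φ => ⟨1, ?_⟩
        obtain ⟨_, w, hw, rfl⟩ := φ
        exact Subtype.ext (by simpa using hWsq _ hw)
      obtain ⟨k₂, hk₂⟩ : ∃ k, W.relIndex M = 2 ^ k := by
        rw [hM, sup_comm, relIndex_sup_right]
        obtain ⟨k, hk⟩ := IsPGroup.iff_card.1 ((P.2.to_le hDP).comap_of_injective N.subtype N.subtype_injective)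
        have hd : W.relIndex (D.subgroupOf N) ∣ 2 ^ k := hk ▸ relIndex_dvd_card _ _
        obtain ⟨i, -, hi⟩ := (Nat.dvd_prime_pow Nat.prime_two).1 hd
        exact ⟨i, hi⟩
      exact ⟨k₁ + k₂, by rw [← relIndex_mul_relIndex _ _ _ hKW le_sup_left, hk₁, hk₂, pow_add]⟩
    obtain ⟨k, hk⟩ := h2
    have h3 : (π.ker ⊔ U).relIndex M ∣ 2 ^ k := hk ▸ relIndex_dvd_of_le_left _ le_sup_left
    obtain ⟨i, -, hi⟩ := (Nat.dvd_prime_pow Nat.prime_two).1 h3
    rcases i.eq_zero_or_pos with rfl | hi0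
    · exact hi
    · exact absurd (((hi ▸ dvd_pow_self 2 hi0.ne') : 2 ∣ (π.ker ⊔ U).relIndex M).trans h1) hUidx
  haveI : M.Normal := sup_normal W (D.subgroupOf N)
  obtain ⟨v, hv, m, hm, hvm⟩ : ∃ v ∈ normalizer (U : Set N), ∃ m ∈ M, v * m = n := by
    have h1 : n ∈ (↑(normalizer (U : Set N) ⊔ M) : Set N) := by rw [hfr]; trivial
    rw [mul_normal] at h1
    exact Set.mem_mul.1 h1
  obtain ⟨c, hc, u, hu, hcu⟩ : ∃ c ∈ π.ker, ∃ u ∈ U, c * u = m := by
    have h1 : m ∈ (↑(π.ker ⊔ U) : Set N) := hMC hm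
    rw [normal_mul] at h1
    exact Set.mem_mul.1 h1
  set v' := v * u with hv'
  have hv'U : v' ∈ normalizer (U : Set N) := mul_mem hv (le_normalizer hu)
  set c' := v * c * v⁻¹ with hc'
  have hnc : c' * v' = n := by rw [hc', hv', ← hvm, ← hcu]; group
  have hkerC : ∀ z : N, z ∈ π.ker → (z : G) ∈ centralizer (D : Set G) := by
    intro z hz
    rw [mem_centralizer_iff]
    intro y hy
    have e : π z ⟨y, hy⟩ = ⟨y, hy⟩ := by rw [MonoidHom.mem_ker.1 hz]; rfl
    have e' := congrArg Subtype.val e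
    rw [hπ, mul_inv_eq_iff_eq_mul] at e'
    exact e'.symm
  have hUT : U.map N.subtype ≤ T := (map_mono inf_le_left).trans hT
  have hUT' : U.map N.subtype ≤ (((v' : G) • T : Sylow 2 G) : Subgroup G) := by
    rintro _ ⟨z, hz, rfl⟩
    rw [Sylow.coe_subgroup_smul, mem_conj_smul_iff]
    refine hUT ⟨v'⁻¹ * z * v', ?_, by simp⟩
    exact (Iff.mp mem_normalizer_iff'' hv'U z).1 hz
  have heU : (⟨e, heN⟩ : N) ∈ U := by
    have heP : e ∈ P := omega_le h P heO
    refine ⟨hT₀ ⟨heP, heN⟩, mem_sup_left ⟨fun y hy => Subtype.ext ?_, fun y => ?_⟩⟩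
    · rw [hπ]
      have := commute_of_sq_eq_one h P heP (hDP y.2) ((mem_omega h).1 heO).2 hy
      rw [this.eq, mul_inv_cancel_right]
    · have h1 : (y : G)⁻¹ * e * y ∈ omega P := by
        have := (Iff.mp mem_normalizer_iff'' (hPn (hDP y.2)) e).1 heO
        exact this
      have h2 := (mem_omega h).1 (mul_mem h1 (inv_mem heO))
      have e3 : ((y⁻¹ * π ⟨e, heN⟩ y : D) : G) = (y : G)⁻¹ * e * y * e⁻¹ := by
        rw [Subgroup.coe_mul, Subgroup.coe_inv, hπ]
        simp [mul_assoc]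
      rw [e3]
      exact h2.2
  have hDU : D < U.map N.subtype := by
    refine SetLike.lt_iff_le_and_exists.2 ⟨fun y hy => ?_, e, mem_map.2 ⟨⟨e, heN⟩, heU, rfl⟩, heD⟩
    exact ⟨⟨y, le_normalizer hy⟩, ⟨hT₀ ⟨hDP hy, le_normalizer hy⟩, mem_sup_right hy⟩, rfl⟩
  obtain ⟨c₂, hc₂, ec₂⟩ : ∃ c ∈ centralizer (D : Set G), omega T = MulAut.conj c • omega ((v' : G) • T) := by
    have hlt : D < (T : Subgroup G) ⊓ (((v' : G) • T : Sylow 2 G) : Subgroup G) :=
      hDU.trans_le (le_inf hUT hUT')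
    obtain ⟨c, hc, hce⟩ := ih _ hlt _ _ rfl
    exact ⟨c, centralizer_le hlt.le hc, hce⟩
  have hker' : c' ∈ π.ker := (MonoidHom.normal_ker π).conj_mem c hc v
  refine ⟨c₁ * (c₂ * (c' : G)⁻¹ * c₃), mul_mem hc₁ (mul_mem (mul_mem hc₂ (inv_mem (hkerC c' hker'))) hc₃), ?_⟩
  have e1 : omega ((n : G) • T) = MulAut.conj (c' : G) • omega ((v' : G) • T) := by
    rw [← omega_smul h, smul_smul, ← Subgroup.coe_mul, hnc]
  have e2 : omega ((v' : G) • T) = MulAut.conj (c' : G)⁻¹ • MulAut.conj c₃ • omega R := by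
    rw [← ec₃, e1, map_inv, inv_smul_smul]
  rw [ec₁, ec₂, e2, conj_smul_conj_smul, conj_smul_conj_smul, conj_smul_conj_smul]
  congr 2
  group

end CfsgLib.HallGen.OddClassTwo

namespace CfsgLib.HallGen.OddClassTwo

open Subgroup CfsgLib.Core
open scoped Pointwise

universe u

theorem hyp_quotient {G : Type*} [Group G] [Finite G] (h : Hyp G) (N : Subgroup G) [N.Normal] : Hyp (G ⧸ N) := by
  intro y ⟨k, hk⟩ hd
  have hsurj : Function.Surjective (QuotientGroup.mk' N) := QuotientGroup.mk'_surjective N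
  obtain ⟨Q₁, hQ₁⟩ := (IsPGroup.of_card (p := 2) (n := k)
    ((Nat.card_zpowers y).trans hk) : IsPGroup 2 (zpowers y)).exists_le_sylow
  obtain ⟨P⟩ : Nonempty (Sylow 2 G) := inferInstance
  obtain ⟨c, hc'⟩ := MulAction.exists_smul_eq (G ⧸ N) (P.mapSurjective hsurj) Q₁
  obtain ⟨g, rfl⟩ := hsurj c
  have hy := hQ₁ (mem_zpowers y)
  rw [← hc', Sylow.coe_subgroup_smul, mem_pointwise_smul_iff_inv_smul_mem, Sylow.coe_mapSurjective] at hy
  obtain ⟨x, hxP, hxy⟩ := hy
  obtain ⟨j, hj⟩ := exists_pow_of_mem_sylow P hxP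
  have hy' : QuotientGroup.mk' N (g * x * g⁻¹) = y := by
    rw [map_mul, map_mul, map_inv, hxy]
    simp [MulAut.smul_def, mul_assoc]
  refine h (g * x * g⁻¹) ⟨j, ?_⟩ (hd.trans ?_)
  · rw [← hj]
    exact MulEquiv.orderOf_eq (MulAut.conj g) x
  · refine dvd_trans (index_dvd_of_le ?_) (index_map_dvd _ hsurj)
    rintro _ ⟨z, hz, rfl⟩
    rw [mem_centralizer_singleton_iff, ← hy', ← map_mul, ← map_mul, mem_centralizer_singleton_iff.1 hz]

theorem isMulCommutative_aux : ∀ (m : ℕ) (G : Type u) [Group G] [Finite G], Nat.card G = m → Hyp G →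
    ∀ P : Sylow 2 G, IsMulCommutative (P : Subgroup G) := by
  intro m
  induction m using Nat.strong_induction_on with
  | _ m ih =>
  intro G _ _ hm h P
  by_cases hP : (P : Subgroup G) = ⊥
  · rw [hP]
    infer_instance
  set E := omega P with hE
  set H := normalizer (E : Set G) with hH
  have hPH : (P : Subgroup G) ≤ H := by
    intro z hz
    rw [hH, hE, mem_normalizer_iff_conj_smul_eq, ← omega_smul h]
    exact congrArg omega (Sylow.smul_eq_iff_mem_normalizer.2 (le_normalizer hz))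
  have hEH : E ≤ H := le_normalizer
  -- the hypothesis passes to `H`
  have hH' : Hyp H := by
    intro y ⟨k, hk⟩ hd
    have hk' : orderOf (y : G) = 2 ^ k := (Subgroup.orderOf_coe y).trans hk
    obtain ⟨R, hRC, hyR⟩ := exists_sylow_centralizer h ⟨k, hk'⟩
    obtain ⟨R₀, hR₀⟩ := (IsPGroup.of_card (p := 2) (n := k)
      ((Nat.card_zpowers y).trans hk) : IsPGroup 2 (zpowers y)).exists_le_sylow
    obtain ⟨g, hg⟩ := MulAction.exists_smul_eq H (P.subtype hPH) R₀
    rw [Sylow.smul_subtype hPH] at hg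
    have hyP' : (y : G) ∈ ((g : G) • P : Sylow 2 G) := by
      have := hR₀ (mem_zpowers y)
      rw [← hg] at this
      exact this
    have hΩ : omega ((g : G) • P) = E := by
      rw [omega_smul h]
      exact mem_normalizer_iff_conj_smul_eq.1 g.2
    obtain ⟨c, hc, hce⟩ := exists_conj_omega h _ ((g : G) • P) R rfl
    rw [hΩ] at hce
    have hcy : Commute c (y : G) := (mem_centralizer_iff.1 hc _ ⟨hyP', hyR⟩).symm
    have hRn : ((c • R : Sylow 2 G) : Subgroup G) ≤ (centralizer ({(y : G)} : Set G)) ⊓ H := by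
      intro z hz
      rw [Sylow.coe_subgroup_smul, mem_conj_smul_iff] at hz
      refine ⟨mem_centralizer_singleton_iff.2 ?_, ?_⟩
      · have h1 : Commute (c⁻¹ * z * c) (y : G) := mem_centralizer_singleton_iff.1 (hRC hz)
        calc z * (y : G) = c * ((c⁻¹ * z * c) * (c⁻¹ * y * c)) * c⁻¹ := by group
          _ = c * ((c⁻¹ * z * c) * y) * c⁻¹ := by rw [show c⁻¹ * (y : G) * c = y by rw [mul_assoc, ← hcy.eq, inv_mul_cancel_left]]
          _ = c * (y * (c⁻¹ * z * c)) * c⁻¹ := by rw [h1.eq]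
          _ = (c * y * c⁻¹) * z := by group
          _ = y * z := by rw [hcy.eq, mul_inv_cancel_right]
      · show z ∈ H
        rw [hH, hce, mem_normalizer_iff_conj_smul_eq, ← omega_smul h, ← omega_smul h]
        refine congrArg omega (Sylow.smul_eq_iff_mem_normalizer.2 (le_normalizer ?_))
        show z ∈ ((c • R : Sylow 2 G) : Subgroup G)
        rw [Sylow.coe_subgroup_smul, mem_conj_smul_iff]
        exact hz
    have hd' : 2 ∣ (centralizer ({(y : G)} : Set G) ⊓ H).index := by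
      refine dvd_trans hd ?_
      rw [show centralizer ({y} : Set H) = (centralizer ({(y : G)} : Set G)).subgroupOf H by
        ext z
        simp only [mem_subgroupOf, mem_centralizer_singleton_iff, Subtype.ext_iff, Subgroup.coe_mul]]
      rw [← relIndex_mul_index (inf_le_right : centralizer ({(y : G)} : Set G) ⊓ H ≤ H), inf_relIndex_right]
      exact dvd_mul_right _ _
    exact (c • R).not_dvd_index (hd'.trans (index_dvd_of_le hRn))
  set E' := E.subgroupOf H with hE'
  haveI : E'.Normal := normal_subgroupOf_of_le_normalizer le_rfl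
  have hne : E ≠ ⊥ := by
    intro he
    obtain ⟨z, hz⟩ : ∃ z : (P : Subgroup G), orderOf z = 2 := by
      obtain ⟨k, hk⟩ := IsPGroup.iff_card.1 P.2
      refine exists_prime_orderOf_dvd_card' 2 (hk ▸ dvd_pow_self 2 fun h0 => hP ?_)
      exact eq_bot_of_card_eq _ (by rw [hk, h0, pow_zero])
    have h2 : (z : G) ∈ E := (mem_omega h).2 ⟨z.2, by
      exact congrArg Subtype.val (orderOf_dvd_iff_pow_eq_one.1 hz.dvd)⟩
    rw [he, mem_bot] at h2
    rw [show z = 1 from Subtype.ext h2, orderOf_one] at hz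
    omega
  have hlt : Nat.card (H ⧸ E') < m := by
    rw [← hm]
    calc Nat.card (H ⧸ E') < Nat.card H := by
          have h1 := E'.card_eq_card_quotient_mul_card_subgroup
          have h2 : 1 < Nat.card E' := by
            rw [hE', Nat.card_congr (subgroupOfEquivOfLe hEH).toEquiv]
            exact (one_lt_card_iff_ne_bot E).2 hne
          rw [h1]
          exact lt_mul_right Nat.card_pos h2
      _ ≤ Nat.card G := card_le_card_group H
  have hab := Cfsg.Agent.S4354.abelian_of_ext (p := 2) hH' E' (fun Q => IsMulCommutative.of_comm fun a b => ?_)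
    (fun Q => ih _ hlt (H ⧸ E') rfl (hyp_quotient hH' E') Q) (P.subtype hPH)
  · refine IsMulCommutative.of_comm fun a b => Subtype.ext ?_
    haveI := hab
    have e := mul_comm' (⟨⟨a, hPH a.2⟩, a.2⟩ : (P.subtype hPH : Subgroup H)) ⟨⟨b, hPH b.2⟩, b.2⟩
    exact congrArg (fun t : (P.subtype hPH : Subgroup H) => ((t : H) : G)) e
  · refine Subtype.ext (Subtype.ext (Subtype.ext ?_))
    have ha := (mem_omega h).1 (a : E').2
    have hb := (mem_omega h).1 (b : E').2
    exact (commute_of_sq_eq_one h P ha.1 hb.1 ha.2 hb.2).eq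

/-- Sylow 2-subgroups are abelian. -/
theorem isMulCommutative {G : Type u} [Group G] [Finite G] (h : Hyp G) (P : Sylow 2 G) :
    IsMulCommutative (P : Subgroup G) :=
  isMulCommutative_aux _ G rfl h P

end CfsgLib.HallGen.OddClassTwo
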