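import Mathlib

/-!
Counting the solutions of `x ^ n = 1` in direct products and in semidirect products,
and recovering the numbers of elements of each order from these counts.
-/

open scoped BigOperators

set_option linter.style.haveILetI false

namespace CfsgLib.HallGen.OrderType

/-- The number of solutions of `x ^ n = 1`. -/
noncomputable def cnt (G : Type*) [Monoid G] (n : ℕ) : ℕ := Nat.card {x : G // x ^ n = 1}

theorem cnt_congr {G H : Type*} [Monoid G] [Monoid H] (e : G ≃* H) (n : ℕ) : cnt G n = cnt H n :=
  Nat.card_congr (e.toEquiv.subtypeEquiv fun x => by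
    change _ ↔ (e x) ^ n = 1
    rw [← map_pow, EmbeddingLike.map_eq_one_iff])

theorem cnt_prod (G H : Type*) [Monoid G] [Monoid H] (n : ℕ) :
    cnt (G × H) n = cnt G n * cnt H n := by
  rw [cnt, cnt, cnt, ← Nat.card_prod]
  exact Nat.card_congr
    { toFun := fun x => (⟨x.1.1, congrArg Prod.fst x.2⟩, ⟨x.1.2, congrArg Prod.snd x.2⟩)
      invFun := fun x => ⟨(x.1.1, x.2.1), Prod.ext x.1.2 x.2.2⟩
      left_inv := fun x => rfl
      right_inv := fun x => rfl }

theorem cnt_pi (G : Type*) [Monoid G] (k n : ℕ) : cnt (Fin k → G) n = cnt G n ^ k := by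
  rw [cnt, cnt]
  conv_rhs => rw [← Nat.card_fin k, ← Nat.card_fun]
  exact Nat.card_congr
    { toFun := fun x i => ⟨x.1 i, congrFun x.2 i⟩
      invFun := fun x => ⟨fun i => (x i).1, funext fun i => (x i).2⟩
      left_inv := fun x => rfl
      right_inv := fun x => rfl }

theorem cnt_eq_card_filter (G : Type*) [Monoid G] [Fintype G] [DecidableEq G] (n : ℕ) :
    cnt G n = (Finset.univ.filter fun x : G => x ^ n = 1).card := by
  rw [cnt, Nat.card_eq_fintype_card, Fintype.card_subtype]

theorem orderOf_dvd_of_cnt {G : Type*} [Monoid G] [Finite G] {L : ℕ}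
    (h : cnt G L = Nat.card G) (x : G) : orderOf x ∣ L := by
  have hs : {y : G | y ^ L = 1} = Set.univ := by
    refine Set.eq_of_subset_of_ncard_le (Set.subset_univ _) ?_ (Set.toFinite _)
    rw [Set.ncard_univ, ← h]
    exact (Nat.card_coe_set_eq _).le
  exact orderOf_dvd_of_pow_eq_one (show x ∈ {y : G | y ^ L = 1} from hs ▸ Set.mem_univ x)

theorem cnt_eq_sum {G : Type*} [Monoid G] [Finite G] {n : ℕ} (hn : n ≠ 0) :
    cnt G n = ∑ d ∈ n.divisors, Nat.card {x : G // orderOf x = d} := by
  classical
  haveI := Fintype.ofFinite G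
  rw [cnt_eq_card_filter]
  simp only [Nat.card_eq_fintype_card, Fintype.card_subtype]
  rw [Finset.card_eq_sum_card_fiberwise (f := orderOf) (t := n.divisors)]
  · refine Finset.sum_congr rfl fun d hd => ?_
    congr 1
    ext x
    simp only [Finset.mem_filter, Finset.mem_univ, true_and, and_iff_right_iff_imp]
    intro hx
    rw [← orderOf_dvd_iff_pow_eq_one, hx]
    exact (Nat.mem_divisors.1 hd).1
  · intro x hx
    simp only [Finset.coe_filter, Finset.mem_univ, true_and, Set.mem_setOf_eq] at hx
    exact Nat.mem_divisors.2 ⟨orderOf_dvd_of_pow_eq_one hx, hn⟩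

/-- Equal solution counts for every divisor of the exponent give equal order types. -/
theorem card_orderOf_eq {G H : Type*} [Monoid G] [Monoid H] [Finite G] [Finite H] {L : ℕ}
    (hL : L ≠ 0) (hG : cnt G L = Nat.card G) (hH : cnt H L = Nat.card H)
    (h : ∀ n ∈ L.divisors, cnt G n = cnt H n) (n : ℕ) :
    Nat.card {x : G // orderOf x = n} = Nat.card {x : H // orderOf x = n} := by
  induction n using Nat.strong_induction_on with
  | _ n ih =>
    by_cases hn : n ∣ L
    · have hn0 : n ≠ 0 := fun h0 => hL (Nat.eq_zero_of_zero_dvd (h0 ▸ hn))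
      have e := h n (Nat.mem_divisors.2 ⟨hn, hL⟩)
      rw [cnt_eq_sum hn0, cnt_eq_sum hn0,
        ← Finset.sum_erase_add _ _ (Nat.mem_divisors_self n hn0),
        ← Finset.sum_erase_add _ _ (Nat.mem_divisors_self n hn0)] at e
      rw [Finset.sum_congr rfl fun d hd => ih d ?_] at e
      · omega
      · obtain ⟨h1, h2⟩ := Finset.mem_erase.1 hd
        exact lt_of_le_of_ne (Nat.le_of_dvd (Nat.pos_of_ne_zero hn0) (Nat.mem_divisors.1 h2).1) h1
    · haveI : IsEmpty {x : G // orderOf x = n} :=
        ⟨fun x => hn (x.2 ▸ orderOf_dvd_of_cnt hG x.1)⟩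
      haveI : IsEmpty {x : H // orderOf x = n} :=
        ⟨fun x => hn (x.2 ▸ orderOf_dvd_of_cnt hH x.1)⟩
      simp

section Layer

variable {A W : Type*} [Group A] [AddCommGroup W]

/-- An automorphism action given by a function with checkable laws. -/
def mkAct [Finite W] (f : A → W → W) (h1 : ∀ v, f 1 v = v)
    (hm : ∀ a b v, f (a * b) v = f a (f b v)) (ha : ∀ a v w, f a (v + w) = f a v + f a w) :
    A →* MulAut (Multiplicative W) :=
  MonoidHom.mk'
    (fun a =>
      { toFun := fun v => Multiplicative.ofAdd (f a v.toAdd)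
        invFun := fun v => Multiplicative.ofAdd (f a⁻¹ v.toAdd)
        left_inv := fun v => by simp [← hm, h1]
        right_inv := fun v => by simp [← hm, h1]
        map_mul' := fun v w => by simp [ha] })
    (fun a b => MulEquiv.ext fun v => congrArg Multiplicative.ofAdd (hm a b v.toAdd))

theorem mkAct_apply [Finite W] (f : A → W → W) (h1) (hm) (ha) (a : A) (v : Multiplicative W) :
    mkAct f h1 hm ha a v = Multiplicative.ofAdd (f a v.toAdd) := rfl

/-- The left part of a power in a semidirect product. -/
def twist (σ : W → W) : ℕ → W → W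
  | 0, _ => 0
  | n + 1, v => v + σ (twist σ n v)

/-- The number of zeros of the twisted power map. -/
def kcount [Fintype W] [DecidableEq W] (σ : W → W) (n : ℕ) : ℕ :=
  (Finset.univ.filter fun v : W => twist σ n v = 0).card

variable {G : Type*} [Group G] (π : G →* A)

theorem pow_eq_mk [Finite W] (f : A → W → W) (h1) (hm) (ha)
    (x : Multiplicative W ⋊[(mkAct f h1 hm ha).comp π] G) (n : ℕ) :
    x ^ n = ⟨Multiplicative.ofAdd (twist (f (π x.right)) n x.left.toAdd), x.right ^ n⟩ := by
  induction n with
  | zero =>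
    rw [pow_zero, pow_zero]
    exact SemidirectProduct.ext rfl rfl
  | succ n ih =>
    rw [pow_succ', ih]
    refine SemidirectProduct.ext ?_ ?_
    · rw [SemidirectProduct.mul_left]
      rfl
    · rw [SemidirectProduct.mul_right, ← pow_succ']

/-- The profile of a group over a quotient `A`. -/
noncomputable def prof (n : ℕ) (a : A) : ℕ := Nat.card {x : G // π x = a ∧ x ^ n = 1}

theorem prof_id [DecidableEq A] (n : ℕ) (a : A) :
    prof (MonoidHom.id A) n a = if a ^ n = 1 then 1 else 0 := by
  split_ifs with h
  · haveI : Unique {x : A // (MonoidHom.id A) x = a ∧ x ^ n = 1} :=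
      ⟨⟨⟨a, rfl, h⟩⟩, fun x => Subtype.ext x.2.1⟩
    exact Nat.card_unique
  · haveI : IsEmpty {x : A // (MonoidHom.id A) x = a ∧ x ^ n = 1} :=
      ⟨fun x => h (by
        have e : x.1 = a := x.2.1
        rw [← e]; exact x.2.2)⟩
    exact Nat.card_of_isEmpty

theorem prof_layer [Fintype W] [DecidableEq W] (f : A → W → W) (h1) (hm) (ha) (n : ℕ) (a : A) :
    prof (G := Multiplicative W ⋊[(mkAct f h1 hm ha).comp π] G)
        (π.comp SemidirectProduct.rightHom) n a =
      prof π n a * kcount (f a) n := by
  rw [prof, prof, kcount, ← Fintype.card_subtype, ← Nat.card_eq_fintype_card, ← Nat.card_prod]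
  exact Nat.card_congr
    { toFun := fun x => (⟨x.1.right, x.2.1, by
          have := congrArg SemidirectProduct.right x.2.2
          rwa [pow_eq_mk] at this⟩, ⟨x.1.left.toAdd, by
          have := congrArg SemidirectProduct.left x.2.2
          rw [pow_eq_mk] at this
          have e : π x.1.right = a := x.2.1
          exact (congrArg (fun b => twist (f b) n x.1.left.toAdd) e).symm.trans this⟩)
      invFun := fun y => ⟨⟨Multiplicative.ofAdd y.2.1, y.1.1⟩, y.1.2.1, by
          rw [pow_eq_mk]
          refine SemidirectProduct.ext ?_ y.1.2.2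
          change Multiplicative.ofAdd (twist (f (π y.1.1)) n y.2.1) = _
          rw [y.1.2.1, y.2.2]
          rfl⟩
      left_inv := fun x => rfl
      right_inv := fun y => rfl }

theorem cnt_eq_sum_prof [Finite G] [Fintype A] (n : ℕ) : cnt G n = ∑ a, prof π n a := by
  classical
  haveI := Fintype.ofFinite G
  simp only [prof]
  rw [← Nat.card_sigma]
  exact Nat.card_congr
    { toFun := fun x => ⟨π x.1, x.1, rfl, x.2⟩
      invFun := fun x => ⟨x.2.1, x.2.2.2⟩
      left_inv := fun x => rfl
      right_inv := fun ⟨a, x, e, h⟩ => by subst e; rfl }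

end Layer

instance finite_semidirect {N G : Type*} [Group N] [Group G] [Finite N] [Finite G] (φ : G →* MulAut N) :
    Finite (N ⋊[φ] G) := Finite.of_equiv _ SemidirectProduct.equivProd.symm

theorem card_semidirect {N G : Type*} [Group N] [Group G] (φ : G →* MulAut N) :
    Nat.card (N ⋊[φ] G) = Nat.card N * Nat.card G := by
  rw [Nat.card_congr SemidirectProduct.equivProd, Nat.card_prod]

theorem isSolvable_semidirect {N G : Type*} [CommGroup N] [Group G] (φ : G →* MulAut N)
    [Group.IsSolvable G] : Group.IsSolvable (N ⋊[φ] G) :=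
  Group.isSolvable_of_ker_le_range (SemidirectProduct.inl : N →* N ⋊[φ] G)
    SemidirectProduct.rightHom (le_of_eq SemidirectProduct.range_inl_eq_ker_rightHom.symm)

theorem isSolvable_pi_fin {G : Type*} [Group G] [Group.IsSolvable G] :
    ∀ k, Group.IsSolvable (Fin k → G) := by
  intro k
  induction k with
  | zero => exact Group.isSolvable_of_comm fun a b => funext fun i => i.elim0
  | succ k ih =>
    haveI := ih
    refine Group.isSolvable_of_isSolvable_injective
      (f := (Pi.evalMonoidHom (fun _ => G) 0).prod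
        (MonoidHom.mk' (fun (x : Fin (k + 1) → G) (i : Fin k) => x i.succ) fun _ _ => rfl)) ?_
    intro a b h
    funext i
    refine Fin.cases (congrArg Prod.fst h) (fun j => congrFun (congrArg Prod.snd h) j) i

end CfsgLib.HallGen.OrderType
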