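import Cfsg.Agent.Lib.HallGen.SLThreeTable
import Mathlib.LinearAlgebra.Matrix.SpecialLinearGroup
import Mathlib.LinearAlgebra.Matrix.NonsingularInverse
import Mathlib.FieldTheory.Finite.GaloisField
import Mathlib.LinearAlgebra.Matrix.ProjectiveSpecialLinearGroup

/-!
# Products of two conjugates of a semisimple element in `SL₃`

Over a field with at least four elements every nonscalar element of `SL₃` is a product of two conjugates of a
diagonal element with distinct eigenvalues (Sourour's factorisation); over three elements an element of order four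
serves.
-/

set_option autoImplicit false

namespace CfsgLib.HallGen.PSLThree

open Matrix

variable {F : Type*} [Field F]

/-- Off-diagonal vanishing and equal diagonal entries make a matrix scalar, so a nonscalar one moves some vector
off its line. -/
theorem exists_moved (M : Matrix (Fin 3) (Fin 3) F) (h : ∀ c : F, M ≠ c • (1 : Matrix (Fin 3) (Fin 3) F)) :
    ∃ v : Fin 3 → F, ∀ c : F, M *ᵥ v ≠ c • v := by
  by_contra hcon
  push Not at hcon
  obtain ⟨c0, h0⟩ := hcon ![1, 0, 0]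
  obtain ⟨c1, h1⟩ := hcon ![0, 1, 0]
  obtain ⟨c2, h2⟩ := hcon ![0, 0, 1]
  obtain ⟨c3, h3⟩ := hcon ![1, 1, 1]
  refine h c3 ?_
  have a0 := congrFun h0; have a1 := congrFun h1; have a2 := congrFun h2; have a3 := congrFun h3
  simp [Fin.forall_fin_succ, Matrix.mulVec, dotProduct, Fin.sum_univ_three] at a0 a1 a2 a3
  ext i j
  fin_cases i <;> fin_cases j <;> simp <;> grind

theorem exists_third {v w : Fin 3 → F} (hv : v ≠ 0) (hw : ∀ c : F, w ≠ c • v) :
    ∃ z : Fin 3 → F, (Matrix.of ![v, w, z])ᵀ.det ≠ 0 := by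
  by_contra hcon
  push Not at hcon
  have e0 := hcon ![1, 0, 0]; have e1 := hcon ![0, 1, 0]; have e2 := hcon ![0, 0, 1]
  simp [det_transpose, det_fin_three] at e0 e1 e2
  obtain ⟨i, hi⟩ := Function.ne_iff.1 hv
  refine hw (w i / v i) (funext fun j => ?_)
  simp only [Pi.smul_apply, smul_eq_mul, Pi.zero_apply] at hi ⊢
  fin_cases i <;> fin_cases j <;> simp at hi ⊢ <;> field_simp <;> grind

/-- A basis in which the first column is the second coordinate vector. -/
theorem exists_first_column (M : Matrix (Fin 3) (Fin 3) F) (h : ∀ c : F, M ≠ c • (1 : Matrix (Fin 3) (Fin 3) F)) :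
    ∃ Q M' : Matrix (Fin 3) (Fin 3) F, Q.det ≠ 0 ∧ M * Q = Q * M' ∧ M' 0 0 = 0 ∧ M' 1 0 = 1 ∧ M' 2 0 = 0 := by
  obtain ⟨v, hv⟩ := exists_moved M h
  have hv0 : v ≠ 0 := fun e => hv 0 (by simp [e])
  obtain ⟨z, hz⟩ := exists_third hv0 hv
  let Q : Matrix (Fin 3) (Fin 3) F := (Matrix.of ![v, M *ᵥ v, z])ᵀ
  have hu : IsUnit Q.det := isUnit_iff_ne_zero.2 hz
  refine ⟨Q, Q⁻¹ * (M * Q), hz, (mul_nonsing_inv_cancel_left _ _ hu).symm, ?_⟩
  have he : (Q⁻¹ * (M * Q)) *ᵥ Pi.single 0 1 = Pi.single 1 1 := by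
    have h0 : Q *ᵥ Pi.single 0 1 = v := by
      funext i; simp [Q, Matrix.mulVec_single]
    have h1 : Q *ᵥ Pi.single 1 1 = M *ᵥ v := by
      funext i; simp [Q, Matrix.mulVec_single]
    rw [← mulVec_mulVec, ← mulVec_mulVec, h0, ← h1, mulVec_mulVec, nonsing_inv_mul _ hu, one_mulVec]
  have e0 := congrFun he 0; have e1 := congrFun he 1; have e2 := congrFun he 2
  simp [Matrix.mulVec_single] at e0 e1 e2
  exact ⟨e0, e1, e2⟩

/-- Prescribed leading principal minors after a change of basis. -/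
theorem exists_minors (M : Matrix (Fin 3) (Fin 3) F) (hd : M.det ≠ 0)
    (h : ∀ c : F, M ≠ c • (1 : Matrix (Fin 3) (Fin 3) F)) (c1 c2 : F) :
    ∃ Q M' : Matrix (Fin 3) (Fin 3) F, Q.det ≠ 0 ∧ M * Q = Q * M' ∧ M' 0 0 = c1 ∧
      M' 0 0 * M' 1 1 - M' 0 1 * M' 1 0 = c2 ∧ M'.det = M.det := by
  obtain ⟨Q, M', hQ, hM, h00, h10, h20⟩ := exists_first_column M h
  have hd' : M'.det = M.det := by
    have := congrArg det hM
    rw [det_mul, det_mul] at this
    exact (mul_left_cancel₀ hQ ((mul_comm _ _).trans this)).symm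
  -- make the cofactor `adjugate M' 1 0` nonzero by a shear
  obtain ⟨t, ht⟩ : ∃ t : F, M'.adjugate 1 0 + t * M'.adjugate 2 0 ≠ 0 := by
    by_contra hcon
    push Not at hcon
    have e0 := hcon 0; have e1 := hcon 1
    rw [← hd', det_fin_three, h00, h10, h20] at hd
    simp [adjugate_fin_three, h00, h10, h20] at e0 e1
    apply hd
    grind
  let T : Matrix (Fin 3) (Fin 3) F := !![1, 0, 0; 0, 1, -t; 0, 0, 1]
  let T' : Matrix (Fin 3) (Fin 3) F := !![1, 0, 0; 0, 1, t; 0, 0, 1]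
  have hTT : T * T' = 1 := by ext i j; fin_cases i <;> fin_cases j <;> simp [T, T', Matrix.mul_apply, Fin.sum_univ_three]
  let N := T' * M' * T
  have hNe : N = !![M' 0 0, M' 0 1, M' 0 2 - M' 0 1 * t;
      M' 1 0 + t * M' 2 0, M' 1 1 + t * M' 2 1, M' 1 2 + t * M' 2 2 - (M' 1 1 + t * M' 2 1) * t;
      M' 2 0, M' 2 1, M' 2 2 - M' 2 1 * t] := by
    ext i j
    fin_cases i <;> fin_cases j <;>
      simp only [N, T, T', Matrix.mul_apply, Fin.sum_univ_three] <;> simp <;> ring
  have n00 : N 0 0 = 0 := by simp [hNe, h00]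
  have n10 : N 1 0 = 1 := by simp [hNe, h10, h20]
  have n20 : N 2 0 = 0 := by simp [hNe, h20]
  have hN : N.det = M.det := by
    have t1 : T.det = 1 := by simp [T, det_fin_three]
    have t2 : T'.det = 1 := by simp [T', det_fin_three]
    rw [show N = T' * M' * T from rfl, det_mul, det_mul, t1, t2, one_mul, mul_one, hd']
  have na : N.adjugate 1 0 ≠ 0 := by
    convert ht using 1
    simp [hNe, adjugate_fin_three, h00, h10, h20]
    ring
  let x : F := (c2 - N.adjugate 1 2) / N.adjugate 1 0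
  have hx : N.adjugate 1 0 * x = c2 - N.adjugate 1 2 := by simp only [x]; field_simp
  let S : Matrix (Fin 3) (Fin 3) F := !![1, x + c1, x; 0, 0, 1; 0, 1, 1]
  let S' : Matrix (Fin 3) (Fin 3) F := !![1, c1, -x - c1; 0, -1, 1; 0, 1, 0]
  have hSS : S * S' = 1 := by
    ext i j; fin_cases i <;> fin_cases j <;> simp [S, S', Matrix.mul_apply, Fin.sum_univ_three]
  refine ⟨Q * T * S, S' * N * S, ?_, ?_, ?_, ?_, ?_⟩
  · have t1 : T.det = 1 := by simp [T, det_fin_three]
    have t2 : S.det = -1 := by simp [S, det_fin_three]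
    rw [det_mul, det_mul, t1, t2]
    simp [hQ]
  · calc M * (Q * T * S) = (M * Q) * T * S := by simp only [mul_assoc]
      _ = Q * M' * T * S := by rw [hM]
      _ = Q * ((T * T') * M' * T) * ((S * S')⁻¹ * S) := by rw [hTT, hSS]; simp [mul_assoc]
      _ = Q * T * S * (S' * N * S) := by
        rw [hSS, inv_one, one_mul]
        calc Q * (T * T' * M' * T) * S = Q * T * (1 * N) * S := by simp only [N, one_mul, mul_assoc]
          _ = Q * T * S * (S' * N * S) := by rw [← hSS]; simp only [mul_assoc]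
  · simp only [Matrix.mul_apply, Fin.sum_univ_three]
    simp [S, S', n00, n10, n20]
  · simp [adjugate_fin_three, n00, n10, n20] at hx
    simp only [Matrix.mul_apply, Fin.sum_univ_three]
    simp [S, S', n00, n10, n20]
    linear_combination hx
  · have t1 : S'.det = -1 := by simp [S', det_fin_three]
    have t2 : S.det = -1 := by simp [S, det_fin_three]
    rw [det_mul, det_mul, t1, t2, hN]
    ring

/-- The LU factorisation with prescribed diagonals. -/
theorem exists_lu (M : Matrix (Fin 3) (Fin 3) F) (b0 b1 b2 : F) (hb0 : b0 ≠ 0) (hb1 : b1 ≠ 0) (hb2 : b2 ≠ 0)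
    (h1 : M 0 0 = b0 * b0) (h2 : M 0 0 * M 1 1 - M 0 1 * M 1 0 = (b0 * b1) * (b0 * b1))
    (h3 : M.det = (b0 * b1 * b2) * (b0 * b1 * b2)) :
    ∃ l10 l20 l21 u01 u02 u12 : F,
      M = !![b0, 0, 0; l10, b1, 0; l20, l21, b2] * !![b0, u01, u02; 0, b1, u12; 0, 0, b2] := by
  let l10 := M 1 0 / b0
  let l20 := M 2 0 / b0
  let u01 := M 0 1 / b0
  let u02 := M 0 2 / b0
  let u12 := (M 1 2 - l10 * u02) / b1
  let l21 := (M 2 1 - l20 * u01) / b1
  refine ⟨l10, l20, l21, u01, u02, u12, ?_⟩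
  rw [det_fin_three] at h3
  have e11 : M 1 1 = l10 * u01 + b1 * b1 := by
    simp only [l10, u01]; field_simp; grind
  have e22 : M 2 2 = l20 * u02 + l21 * u12 + b2 * b2 := by
    simp only [l10, l20, l21, u01, u02, u12] at e11 ⊢; field_simp at e11 ⊢; grind
  ext i j
  fin_cases i <;> fin_cases j <;> simp [Matrix.mul_apply, Fin.sum_univ_three]
  · exact h1
  · simp only [u01]; field_simp
  · simp only [u02]; field_simp
  · simp only [l10]; field_simp
  · exact e11
  · simp only [u12]; field_simp; ring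
  · simp only [l20]; field_simp
  · simp only [l21]; field_simp; ring
  · exact e22

/-- A product of two conjugates of `x`. -/
def Prod2 {G : Type*} [Group G] (x g : G) : Prop := ∃ u v : G, g = u * x * u⁻¹ * (v * x * v⁻¹)

theorem conj_eq_of_mul_eq (x : SpecialLinearGroup (Fin 3) F) (B K E : Matrix (Fin 3) (Fin 3) F) (hK : K.det ≠ 0)
    (hE : E.det = K.det⁻¹) (hEx : E * (x : Matrix (Fin 3) (Fin 3) F) = (x : Matrix (Fin 3) (Fin 3) F) * E)
    (hB : B * K = K * (x : Matrix (Fin 3) (Fin 3) F)) :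
    ∃ u : SpecialLinearGroup (Fin 3) F, ((u * x * u⁻¹ : SpecialLinearGroup (Fin 3) F) : Matrix (Fin 3) (Fin 3) F) = B := by
  refine ⟨⟨K * E, by rw [det_mul, hE, mul_inv_cancel₀ hK]⟩, ?_⟩
  set u : SpecialLinearGroup (Fin 3) F := ⟨K * E, _⟩ with hu
  have h : ((u * x * u⁻¹ : SpecialLinearGroup (Fin 3) F) : Matrix (Fin 3) (Fin 3) F) * (K * E) = B * (K * E) := by
    rw [← mul_assoc B, hB, mul_assoc K _ E, ← hEx, ← mul_assoc K E]
    show ((u * x * u⁻¹ * u : SpecialLinearGroup (Fin 3) F) : Matrix (Fin 3) (Fin 3) F) = _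
    rw [inv_mul_cancel_right]
    rfl
  refine ((Matrix.isUnit_iff_isUnit_det (K * E)).2 ?_).mul_right_cancel h
  rw [det_mul, hE, mul_inv_cancel₀ hK]
  exact isUnit_one

theorem exists_diag_element {a b c : F} (habc : a * b * c = 1) :
    ∃ x : SpecialLinearGroup (Fin 3) F, (x : Matrix (Fin 3) (Fin 3) F) = !![a, 0, 0; 0, b, 0; 0, 0, c] :=
  ⟨⟨!![a, 0, 0; 0, b, 0; 0, 0, c], by simp [det_fin_three, habc]⟩, rfl⟩

theorem prod2_diag {a b c : F} (habc : a * b * c = 1) (hab : a ≠ b) (hac : a ≠ c) (hbc : b ≠ c)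
    (x : SpecialLinearGroup (Fin 3) F) (hx : (x : Matrix (Fin 3) (Fin 3) F) = !![a, 0, 0; 0, b, 0; 0, 0, c])
    (g : SpecialLinearGroup (Fin 3) F) (hg : ∀ r : F, (g : Matrix (Fin 3) (Fin 3) F) ≠ r • 1) : Prod2 x g := by
  have ha : a ≠ 0 := fun e => by simp [e] at habc
  have hb : b ≠ 0 := fun e => by simp [e] at habc
  have hc : c ≠ 0 := fun e => by simp [e] at habc
  obtain ⟨Q, M, hQ, hM, h1, h2, h3⟩ := exists_minors (g : Matrix (Fin 3) (Fin 3) F) (by rw [g.2]; exact one_ne_zero)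
    hg (a * a) ((a * b) * (a * b))
  obtain ⟨l10, l20, l21, u01, u02, u12, hLU⟩ := exists_lu M a b c ha hb hc h1 h2 (by rw [h3, g.2, habc, one_mul])
  set L : Matrix (Fin 3) (Fin 3) F := !![a, 0, 0; l10, b, 0; l20, l21, c] with hL
  set U : Matrix (Fin 3) (Fin 3) F := !![a, u01, u02; 0, b, u12; 0, 0, c] with hU
  set D : Matrix (Fin 3) (Fin 3) F := !![a, 0, 0; 0, b, 0; 0, 0, c] with hD
  have hab' := sub_ne_zero.2 hab
  have hac' := sub_ne_zero.2 hac
  have hbc' := sub_ne_zero.2 hbc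
  let P : Matrix (Fin 3) (Fin 3) F :=
    !![1, 0, 0; l10 / (a - b), 1, 0; (l20 + l21 * (l10 / (a - b))) / (a - c), l21 / (b - c), 1]
  have hP : L * P = P * D := by
    ext i j
    fin_cases i <;> fin_cases j <;> simp [L, P, D, Matrix.mul_apply, Fin.sum_univ_three] <;> field_simp <;> ring
  let R : Matrix (Fin 3) (Fin 3) F :=
    !![1, u01 / (b - a), (u02 + u01 * (u12 / (c - b))) / (c - a); 0, 1, u12 / (c - b); 0, 0, 1]
  have hba' := sub_ne_zero.2 hab.symm
  have hca' := sub_ne_zero.2 hac.symm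
  have hcb' := sub_ne_zero.2 hbc.symm
  have hR : U * R = R * D := by
    ext i j
    fin_cases i <;> fin_cases j <;> simp [U, R, D, Matrix.mul_apply, Fin.sum_univ_three] <;> field_simp <;> ring
  have hQu : IsUnit Q.det := isUnit_iff_ne_zero.2 hQ
  have hPd : (Q * P).det = Q.det := by simp [det_mul, P, det_fin_three]
  have hRd : (Q * R).det = Q.det := by simp [det_mul, R, det_fin_three]
  let E : Matrix (Fin 3) (Fin 3) F := !![Q.det⁻¹, 0, 0; 0, 1, 0; 0, 0, 1]
  have hEx : E * D = D * E := by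
    ext i j
    fin_cases i <;> fin_cases j <;> simp [E, D, Matrix.mul_apply, Fin.sum_univ_three, mul_comm]
  have hEd : E.det = Q.det⁻¹ := by simp [E, det_fin_three]
  obtain ⟨u, hu⟩ := conj_eq_of_mul_eq x (Q * L * Q⁻¹) (Q * P) E (hPd ▸ hQ) (by rw [hPd, hEd]) (by rw [hx, hEx])
    (by rw [mul_assoc, ← mul_assoc Q⁻¹, nonsing_inv_mul _ hQu, one_mul, mul_assoc, hP, hx, mul_assoc])
  obtain ⟨v, hv⟩ := conj_eq_of_mul_eq x (Q * U * Q⁻¹) (Q * R) E (hRd ▸ hQ) (by rw [hRd, hEd]) (by rw [hx, hEx])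
    (by rw [mul_assoc, ← mul_assoc Q⁻¹, nonsing_inv_mul _ hQu, one_mul, mul_assoc, hR, hx, mul_assoc])
  refine ⟨u, v, Subtype.ext ?_⟩
  rw [SpecialLinearGroup.coe_mul, hu, hv]
  calc (g : Matrix (Fin 3) (Fin 3) F) = (g : Matrix (Fin 3) (Fin 3) F) * Q * Q⁻¹ := by
        rw [mul_assoc, mul_nonsing_inv _ hQu, mul_one]
    _ = Q * (L * U) * Q⁻¹ := by rw [hM, hLU]
    _ = Q * L * (Q⁻¹ * Q) * U * Q⁻¹ := by rw [nonsing_inv_mul _ hQu, mul_one]; simp only [mul_assoc]
    _ = Q * L * Q⁻¹ * (Q * U * Q⁻¹) := by simp only [mul_assoc]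

theorem zmod3_aux : ∀ r k : ZMod 3, -(r * k) = 1 → r ≠ 0 ∧ k = -r := by decide

theorem zmod3_pow : ∀ d : ZMod 3, d ≠ 0 → d ^ 3 * d = 1 := by decide

/-- Over three elements. -/
theorem prod2_three (g : SpecialLinearGroup (Fin 3) (ZMod 3)) (hg : ∀ r : ZMod 3, (g : Matrix (Fin 3) (Fin 3) (ZMod 3)) ≠ r • 1)
    (x : SpecialLinearGroup (Fin 3) (ZMod 3)) (hx : (x : Matrix (Fin 3) (Fin 3) (ZMod 3)) = SLThreeTable.x0) :
    Prod2 x g := by
  haveI : Fact (Nat.Prime 3) := ⟨Nat.prime_three⟩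
  have hgd : (g : Matrix (Fin 3) (Fin 3) (ZMod 3)).det = 1 := g.2
  obtain ⟨Q, M, hQ, hM, h00, h10, h20⟩ := exists_first_column (g : Matrix (Fin 3) (Fin 3) (ZMod 3)) hg
  have hMd : M.det = 1 := by
    have := congrArg det hM
    rw [det_mul, det_mul, hgd, one_mul] at this
    exact mul_left_cancel₀ hQ ((mul_one _).trans this).symm
  -- a normal form
  obtain ⟨K, M', hK, hKM, hnf⟩ : ∃ K M' : Matrix (Fin 3) (Fin 3) (ZMod 3), K.det ≠ 0 ∧
      (g : Matrix (Fin 3) (Fin 3) (ZMod 3)) * K = K * M' ∧ SLThreeTable.IsTwo M' := by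
    by_cases h21 : M 2 1 = 0
    · refine ⟨Q, M, hQ, hM, ?_⟩
      have hr : M 0 1 ≠ 0 ∧ M 2 2 = -M 0 1 := by
        rw [det_fin_three, h00, h10, h20, h21] at hMd
        generalize M 0 1 = r at hMd ⊢
        generalize M 2 2 = k at hMd ⊢
        simp at hMd
        exact zmod3_aux r k hMd
      have := SLThreeTable.block_two (M 0 1) (M 0 2) (M 1 1) (M 1 2) hr.1
      convert this using 1
      ext i j
      fin_cases i <;> fin_cases j <;> simp [h00, h10, h20, h21, hr.2]
    · let K₁ : Matrix (Fin 3) (Fin 3) (ZMod 3) := !![1, 0, M 0 1; 0, 1, M 1 1; 0, 0, M 2 1]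
      have hK₁ : IsUnit K₁.det := isUnit_iff_ne_zero.2 (by simpa [K₁, det_fin_three] using h21)
      let M₁ := K₁⁻¹ * (M * K₁)
      have hM₁ : M * K₁ = K₁ * M₁ := (mul_nonsing_inv_cancel_left _ _ hK₁).symm
      have hd₁ : M₁.det = 1 := by
        have := congrArg det hM₁
        rw [det_mul, det_mul, hMd, one_mul] at this
        exact mul_left_cancel₀ hK₁.ne_zero ((mul_one _).trans this).symm
      have e00 := congrFun (congrFun hM₁ 0) 0; have e10 := congrFun (congrFun hM₁ 1) 0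
      have e20 := congrFun (congrFun hM₁ 2) 0; have e01 := congrFun (congrFun hM₁ 0) 1
      have e11 := congrFun (congrFun hM₁ 1) 1; have e21 := congrFun (congrFun hM₁ 2) 1
      simp [K₁, Matrix.mul_apply, Fin.sum_univ_three, h00, h10, h20, h21] at e00 e10 e20 e01 e11 e21
      have a20 : M₁ 2 0 = 0 := e20
      rw [a20] at e00 e10
      simp at e00 e10
      have a21 : M₁ 2 1 = 1 := e21
      rw [a21] at e01 e11
      simp at e01 e11
      refine ⟨Q * K₁, M₁, by rw [det_mul]; exact mul_ne_zero hQ hK₁.ne_zero, ?_, ?_⟩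
      · rw [← mul_assoc, hM, mul_assoc, hM₁, mul_assoc]
      · have h02 : M₁ 0 2 = 1 := by
          rw [det_fin_three, ← e00, ← e10, a20, e01, e11, a21] at hd₁
          simpa using hd₁
        have := SLThreeTable.companion_two (M₁ 1 2) (M₁ 2 2)
        convert this using 1
        ext i j
        fin_cases i <;> fin_cases j <;> simp [← e00, ← e10, a20, a21, e01, e11, h02]
  -- undo the change of basis
  obtain ⟨P, P', R, R', hP, hR, hPP, hRR, hprod⟩ := hnf
  have hE : ∀ d : ZMod 3, d ≠ 0 → (d • (1 : Matrix (Fin 3) (Fin 3) (ZMod 3))).det = d⁻¹ := by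
    intro d hd
    rw [det_smul, det_one, mul_one, Fintype.card_fin]
    exact eq_inv_of_mul_eq_one_left (zmod3_pow d hd)
  have hKu : IsUnit K.det := isUnit_iff_ne_zero.2 hK
  have hP' : P' * P = 1 := mul_eq_one_comm.1 hPP
  have hR' : R' * R = 1 := mul_eq_one_comm.1 hRR
  obtain ⟨u, hu⟩ := conj_eq_of_mul_eq x (K * (P * SLThreeTable.x0 * P') * K⁻¹) (K * P) (K.det • 1)
    (by rw [det_mul, hP, mul_one]; exact hK) (by rw [det_mul, hP, mul_one, hE _ hK]) (by simp)
    (by rw [mul_assoc, ← mul_assoc K⁻¹, nonsing_inv_mul _ hKu, one_mul, mul_assoc, mul_assoc _ P' P, hP', mul_one,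
      hx, mul_assoc])
  obtain ⟨v, hv⟩ := conj_eq_of_mul_eq x (K * (R * SLThreeTable.x0 * R') * K⁻¹) (K * R) (K.det • 1)
    (by rw [det_mul, hR, mul_one]; exact hK) (by rw [det_mul, hR, mul_one, hE _ hK]) (by simp)
    (by rw [mul_assoc, ← mul_assoc K⁻¹, nonsing_inv_mul _ hKu, one_mul, mul_assoc, mul_assoc _ R' R, hR', mul_one,
      hx, mul_assoc])
  refine ⟨u, v, Subtype.ext ?_⟩
  rw [SpecialLinearGroup.coe_mul, hu, hv]
  calc (g : Matrix (Fin 3) (Fin 3) (ZMod 3)) = (g : Matrix (Fin 3) (Fin 3) (ZMod 3)) * K * K⁻¹ := by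
        rw [mul_assoc, mul_nonsing_inv _ hKu, mul_one]
    _ = K * M' * K⁻¹ := by rw [hKM]
    _ = K * (P * SLThreeTable.x0 * P') * (K⁻¹ * K) * (R * SLThreeTable.x0 * R') * K⁻¹ := by
      rw [nonsing_inv_mul _ hKu, mul_one, ← hprod]; simp only [mul_assoc]
    _ = K * (P * SLThreeTable.x0 * P') * K⁻¹ * (K * (R * SLThreeTable.x0 * R') * K⁻¹) := by simp only [mul_assoc]

/-- In `PSL₃` every nonidentity element is a product of two conjugates of a semisimple element. -/
theorem main [Fintype F] (p : ℕ) [hp : Fact p.Prime] [CharP F p] (h3 : 3 ≤ Fintype.card F) :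
    ∃ x : ProjectiveSpecialLinearGroup (Fin 3) F, ¬ p ∣ orderOf x ∧
      ∀ g : ProjectiveSpecialLinearGroup (Fin 3) F, g ≠ 1 → Prod2 x g := by
  classical
  suffices h : ∃ x : SpecialLinearGroup (Fin 3) F, (∃ m, 0 < m ∧ ¬ p ∣ m ∧ x ^ m = 1) ∧
      ∀ g : SpecialLinearGroup (Fin 3) F, (∀ r : F, (g : Matrix (Fin 3) (Fin 3) F) ≠ r • 1) → Prod2 x g by
    obtain ⟨x, ⟨m, hm, hpm, hxm⟩, hx⟩ := h
    refine ⟨QuotientGroup.mk x, fun hd => hpm (hd.trans (orderOf_dvd_of_pow_eq_one ?_)), fun g hg => ?_⟩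
    · rw [← QuotientGroup.mk_pow, hxm]; rfl
    · obtain ⟨G, rfl⟩ := QuotientGroup.mk_surjective g
      have hns : ∀ r : F, (G : Matrix (Fin 3) (Fin 3) F) ≠ r • 1 := by
        intro r hr
        refine hg ((QuotientGroup.eq_one_iff G).2 (SpecialLinearGroup.mem_center_iff.2 ⟨r, ?_, ?_⟩))
        · have := G.2
          rw [hr, det_smul, det_one, mul_one] at this
          exact this
        · rw [hr, ← Algebra.algebraMap_eq_smul_one]
          rfl
      obtain ⟨u, v, huv⟩ := hx G hns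
      exact ⟨QuotientGroup.mk u, QuotientGroup.mk v, by rw [huv]; rfl⟩
  rcases h3.eq_or_lt with h3 | h4
  · haveI : Fact (Nat.Prime 3) := ⟨Nat.prime_three⟩
    let e : ZMod 3 ≃+* F := FiniteField.ringEquivOfCardEq (by rw [ZMod.card]; exact h3)
    have hp3 : p = 3 := by
      have hc : CharP F 3 := charP_of_injective_ringHom (f := e.toRingHom) e.injective 3
      exact CharP.eq F ‹CharP F p› hc
    let f : SpecialLinearGroup (Fin 3) (ZMod 3) →* SpecialLinearGroup (Fin 3) F := SpecialLinearGroup.map e.toRingHom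
    let x₀ : SpecialLinearGroup (Fin 3) (ZMod 3) := ⟨SLThreeTable.x0, by decide +kernel⟩
    refine ⟨f x₀, ⟨4, by norm_num, by subst hp3; norm_num, ?_⟩, fun g hg => ?_⟩
    · rw [← map_pow, show x₀ ^ 4 = 1 from Subtype.ext (by simp only [SpecialLinearGroup.coe_pow]; decide +kernel),
        map_one]
    · let g₀ : SpecialLinearGroup (Fin 3) (ZMod 3) := SpecialLinearGroup.map e.symm.toRingHom g
      have hfg : f g₀ = g := Subtype.ext (Matrix.ext fun i j => by simp [f, g₀])
      have hns : ∀ r : ZMod 3, (g₀ : Matrix (Fin 3) (Fin 3) (ZMod 3)) ≠ r • 1 := by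
        intro r hr
        refine hg (e r) ?_
        rw [← hfg]
        ext i j
        have := congrFun (congrFun hr i) j
        simp only [f, SpecialLinearGroup.map_apply_coe, RingHom.mapMatrix_apply, Matrix.map_apply, this]
        by_cases hij : i = j <;> simp [hij]
      obtain ⟨u, v, huv⟩ := prod2_three g₀ hns x₀ rfl
      exact ⟨f u, f v, by rw [← hfg, huv]; simp⟩
  · obtain ⟨b, hb⟩ : ∃ b : Fˣ, b * b ≠ 1 := by
      by_contra hcon
      push Not at hcon
      have hsub : (Finset.univ : Finset Fˣ) ⊆ {1, -1} := fun u _ => by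
        rcases Units.inv_eq_self_iff u |>.1 (inv_eq_of_mul_eq_one_right (hcon u)) with h | h <;> simp [h]
      have := (Finset.card_le_card hsub).trans Finset.card_le_two
      rw [Finset.card_univ, Fintype.card_units] at this
      omega
    have hb1 : (b : F) ≠ 1 := fun e => hb (by ext; simp [e])
    obtain ⟨x, hx⟩ := exists_diag_element (F := F) (a := 1) (b := b) (c := (b⁻¹ : Fˣ)) (by simp)
    refine ⟨x, ⟨Fintype.card F - 1, by omega, ?_, ?_⟩, fun g hg => prod2_diag (by simp) hb1.symm ?_ ?_ x hx g hg⟩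
    · intro hd
      obtain ⟨k, -, hk⟩ := FiniteField.card F p
      have h1 : p ∣ Fintype.card F := hk ▸ dvd_pow_self p k.pos.ne'
      have h2 := Nat.dvd_sub h1 hd
      rw [Nat.sub_sub_self (by omega)] at h2
      exact hp.out.not_dvd_one h2
    · refine Subtype.ext ?_
      rw [SpecialLinearGroup.coe_pow, hx, show (!![1, 0, 0; 0, (b : F), 0; 0, 0, ((b⁻¹ : Fˣ) : F)]) =
        diagonal ![1, (b : F), ((b⁻¹ : Fˣ) : F)] from by ext i j; fin_cases i <;> fin_cases j <;> simp, diagonal_pow]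
      refine (congrArg diagonal ?_).trans diagonal_one
      funext i
      fin_cases i <;> simp [FiniteField.pow_card_sub_one_eq_one]
    · intro e
      exact hb1 (inv_eq_one.1 (by simpa using e.symm) |>.trans rfl)
    · intro e
      refine hb (Units.ext ?_)
      rw [Units.val_mul, Units.val_one]
      nth_rewrite 2 [e]
      simp

end CfsgLib.HallGen.PSLThree
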