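import Cfsg.Agent.Lib.HallGen.TwoDerangementClasses

/-!
# Primitive groups whose derangements have prime power order

If the derangements of a primitive group all have order a power of one prime then the socle is abelian or the group
is almost simple.
-/

set_option autoImplicit false
set_option linter.all false

namespace CfsgLib.HallGen.PrimePowerDerangements

open MulAction

theorem pi_false {T : Type*} [Group T] [Finite T] {m : ℕ} (hm : 2 ≤ m) (hT : IsSimpleGroup T)
    (hnc : ¬ IsMulCommutative T) (M : Subgroup (Fin m → T)) (hM : M ≠ ⊤) (p : ℕ) (hp : p.Prime)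
    (hone : ∀ x : Fin m → T, (∀ n, n⁻¹ * x * n ∉ M) → ∃ k : ℕ, orderOf x = p ^ k) : False := by
  classical
  haveI := hT
  haveI := Fact.mk hp
  suffices hP : IsPGroup p T by
    haveI : Group.IsNilpotent T := hP.isNilpotent
    exact hnc ⟨⟨fun a b => IsSimpleGroup.comm_iff_isSolvable.2 inferInstance a b⟩⟩
  have hpk : ∀ s : T, (∃ k, orderOf s ∣ p ^ k) → ∃ k : ℕ, s ^ p ^ k = 1 := by
    rintro s ⟨k, hk⟩
    exact ⟨k, orderOf_dvd_iff_pow_eq_one.1 hk⟩
  have hconj : ∀ (i : Fin m) (s t : T) (f : Fin m → T), f i = s →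
      f * Pi.mulSingle i t * f⁻¹ = Pi.mulSingle i (s * t * s⁻¹) := by
    intro i s t f hf
    funext k
    rcases eq_or_ne k i with rfl | hk
    · simp [hf]
    · simp [hk]
  intro s
  refine hpk s ?_
  by_cases hproj : ∃ i : Fin m, M.map (Pi.evalMonoidHom (fun _ => T) i) ≠ ⊤
  · obtain ⟨i, hne⟩ := hproj
    obtain ⟨t, ht⟩ := CfsgLib.HallGen.exists_not_mem_conj _ hne
    obtain ⟨j, hj⟩ : ∃ j, j ≠ i :=
      haveI : Nontrivial (Fin m) := Fin.nontrivial_iff_two_le.2 hm
      exists_ne i
    obtain ⟨k, hk⟩ := hone (Function.update (Pi.mulSingle i t) j s) fun n hn => by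
      refine ht (n i) ?_
      rw [Subgroup.mem_pointwise_smul_iff_inv_smul_mem]
      refine ⟨_, hn, ?_⟩
      show ((n⁻¹ * Function.update (Pi.mulSingle i t : Fin m → T) j s * n : Fin m → T)) i = _
      simp [hj.symm, MulAut.smul_def]
    refine ⟨k, hk ▸ ?_⟩
    have := orderOf_map_dvd (Pi.evalMonoidHom (fun _ : Fin m => T) j) (Function.update (Pi.mulSingle i t) j s)
    simpa using this
  · push Not at hproj
    let F : Fin m → Subgroup T := fun i => M.comap (MonoidHom.mulSingle (fun _ : Fin m => T) i)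
    have hF : ∀ i, F i = ⊥ ∨ F i = ⊤ := by
      intro i
      refine Subgroup.Normal.eq_bot_or_eq_top ⟨fun t ht s => ?_⟩
      obtain ⟨f, hf, hfi⟩ : s ∈ M.map (Pi.evalMonoidHom (fun _ => T) i) := by
        rw [hproj]; exact Subgroup.mem_top s
      show Pi.mulSingle i (s * t * s⁻¹) ∈ M
      rw [← hconj i s t f hfi]
      exact M.mul_mem (M.mul_mem hf ht) (M.inv_mem hf)
    obtain ⟨j, hj⟩ : ∃ j, F j = ⊥ := by
      by_contra h
      push Not at h
      refine hM (eq_top_iff.2 fun f _ => ?_)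
      refine Subgroup.pi_mem_of_mulSingle_mem (H := M) f fun i => ?_
      exact (show f i ∈ F i from ((hF i).resolve_left (h i)).symm ▸ Subgroup.mem_top _)
    have hout : ∀ t : T, t ≠ 1 → ∀ n, n⁻¹ * Pi.mulSingle j t * n ∉ M := by
      intro t ht n hn
      have h1 := hconj j ((n j)⁻¹) t n⁻¹ rfl
      rw [inv_inv, inv_inv] at h1
      rw [h1] at hn
      have h2 : (n j)⁻¹ * t * n j ∈ F j := hn
      rw [hj, Subgroup.mem_bot] at h2
      refine ht ?_
      calc t = n j * ((n j)⁻¹ * t * n j) * (n j)⁻¹ := by group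
        _ = 1 := by rw [h2, mul_one, mul_inv_cancel]
    rcases eq_or_ne s 1 with rfl | hs
    · exact ⟨0, by simp⟩
    obtain ⟨k, hk⟩ := hone _ (hout s hs)
    refine ⟨k, hk ▸ ?_⟩
    have := orderOf_map_dvd (Pi.evalMonoidHom (fun _ : Fin m => T) j) (Pi.mulSingle j s)
    simpa using this

variable {G : Type*} [Group G] [Finite G] {Ω : Type*} [Fintype Ω] [MulAction G Ω] [FaithfulSMul G Ω]

/-- The socle is abelian. -/
theorem isMulCommutative_minimal (hprim : IsPreprimitive G Ω) (hΩ : 2 ≤ Fintype.card Ω)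
    (hnas : ¬ ∃ T : Subgroup G, T.Normal ∧ IsSimpleGroup T ∧ ¬ IsMulCommutative T ∧
      Subgroup.centralizer (T : Set G) = ⊥)
    (p : ℕ) (hp : p.Prime) (hpow : ∀ g : G, (∀ ω : Ω, g • ω ≠ ω) → ∃ k : ℕ, orderOf g = p ^ k)
    (N : Subgroup G) [hNn : N.Normal] (hN : N ≠ ⊥)
    (hmin : ∀ M : Subgroup G, M.Normal → M ≤ N → M = ⊥ ∨ M = N) : IsMulCommutative N := by
  classical
  by_contra hnc
  haveI htr := CfsgLib.Perm.OneDerangementClass.isPretransitive_of_normal hprim N hN
  haveI : Nontrivial Ω := Fintype.one_lt_card_iff_nontrivial.1 (by omega)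
  obtain ⟨a⟩ : Nonempty Ω := inferInstance
  by_cases hc : Subgroup.centralizer (N : Set G) = ⊥
  · obtain ⟨T, iT, m, hT, hm, ⟨e⟩⟩ := CfsgLib.Perm.CharSimple.exists_iso_pi_of_minimal_normal N hN hmin
    letI := iT
    have hTnc : ¬ IsMulCommutative T := by
      intro h
      refine hnc ⟨⟨fun u v => e.injective ?_⟩⟩
      rw [map_mul, map_mul]
      funext i
      exact h.is_comm.comm _ _
    have hm2 : 2 ≤ m := by
      by_contra h
      obtain rfl : m = 1 := by omega
      refine hnas ⟨N, hNn, ?_, hnc, hc⟩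
      let e1 : N ≃* T := e.trans (MulEquiv.piUnique fun _ : Fin 1 => T)
      haveI : Nontrivial N := N.nontrivial_iff_ne_bot.mpr hN
      exact IsSimpleGroup.isSimpleGroup_of_surjective e1.symm.toMonoidHom e1.symm.surjective
    haveI : Nonempty (Fin m) := ⟨⟨0, by omega⟩⟩
    haveI : Finite (Fin m → T) := Finite.of_equiv N e.toEquiv
    haveI : Finite T := Finite.of_injective _ (Pi.mulSingle_injective (M := fun _ : Fin m => T)
      (Classical.arbitrary (Fin m)))
    let M : Subgroup (Fin m → T) := (stabilizer N a).map e.toMonoidHom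
    have hmem : ∀ n : N, e n ∈ M ↔ n • a = a := by
      intro n
      constructor
      · rintro ⟨k, hk, hkn⟩
        rw [← e.injective hkn]
        exact hk
      · exact fun h => ⟨n, h, rfl⟩
    refine pi_false hm2 hT hTnc M (fun h => ?_) p hp fun x hx => ?_
    · obtain ⟨b, hb⟩ := exists_ne a
      obtain ⟨n, hn⟩ := exists_smul_eq N a b
      exact hb (hn.symm.trans ((hmem n).1 (h.symm ▸ Subgroup.mem_top _)))
    · have hder : ∀ x : Fin m → T, (∀ n, n⁻¹ * x * n ∉ M) → ∀ w : Ω, (e.symm x : G) • w ≠ w := by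
        intro x hx w hw
        obtain ⟨k, rfl⟩ := exists_smul_eq N a w
        refine hx (e k) ?_
        rw [show (e k)⁻¹ * x * e k = e (k⁻¹ * e.symm x * k) by simp, hmem, mul_smul, mul_smul,
          inv_smul_eq_iff]
        exact hw
      obtain ⟨k, hk⟩ := hpow _ (hder x hx)
      exact ⟨k, by rw [← hk, Subgroup.orderOf_coe, MulEquiv.orderOf_eq]⟩
  · -- a second normal subgroup makes `N` regular
    haveI htrC := CfsgLib.Perm.OneDerangementClass.isPretransitive_of_normal hprim _ hc
    have hfree : ∀ n : N, n ≠ 1 → ∀ ω : Ω, (n : G) • ω ≠ ω := by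
      intro n hn ω hω
      refine hn (Subtype.ext (eq_of_smul_eq_smul (α := Ω) fun z => ?_))
      obtain ⟨k, rfl⟩ := exists_smul_eq (Subgroup.centralizer (N : Set G)) ω z
      have h : (n : G) * k = k * n := Subgroup.mem_centralizer_iff.1 k.2 n n.2
      rw [OneMemClass.coe_one, one_smul, Subgroup.smul_def, ← mul_smul, h, mul_smul, hω]
    haveI := Fact.mk hp
    have hP : IsPGroup p N := by
      intro n
      rcases eq_or_ne n 1 with rfl | hn
      · exact ⟨0, by simp⟩
      obtain ⟨k, hk⟩ := hpow _ (hfree n hn)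
      refine ⟨k, ?_⟩
      rw [← hk, Subgroup.orderOf_coe, pow_orderOf_eq_one]
    haveI : Group.IsNilpotent N := hP.isNilpotent
    exact hnc (CfsgLib.Core.commutative_of_minimal_normal N inferInstance hN hmin)

end CfsgLib.HallGen.PrimePowerDerangements
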