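import Mathlib
import Cfsg.Agent.Lib.HallGen.FrobeniusComplement
import Cfsg.Agent.Lib.Core.FPF
import Cfsg.Agent.Lib.Core.UniqueOrderP
import Cfsg.Agent.Lib.Core.FrobeniusConj

/-!
Frobenius complements with a noncyclic Sylow subgroup have kernels of odd square order.
-/

open scoped Pointwise
open Subgroup

set_option linter.style.haveILetI false

namespace CfsgLib.HallGen

/-- anticommuting injective endomorphisms of a finite vector space over an odd prime field. -/
theorem exists_card_eq_of_anticommute {q : ℕ} [Fact q.Prime] (hq : q ≠ 2) {W : Type*} [AddCommGroup W]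
    [Module (ZMod q) W] [Finite W] (f g : W →ₗ[ZMod q] W) (hf : Function.Injective f)
    (hg : Function.Injective g) (hfg : ∀ x, f (g x) = -g (f x)) :
    ∃ d, Nat.card W = q ^ (d + d) := by
  haveI : Module.Finite (ZMod q) W := Module.Finite.of_finite
  suffices he : Even (Module.finrank (ZMod q) W) by
    obtain ⟨d, hd⟩ := he
    exact ⟨d, by rw [Module.natCard_eq_pow_finrank (K := ZMod q) (V := W), Nat.card_zmod, hd]⟩
  have h1 : LinearMap.det (f ∘ₗ g) = LinearMap.det ((-1 : ZMod q) • (g ∘ₗ f)) := by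
    congr 1
    ext x
    simp [hfg]
  rw [LinearMap.det_smul, LinearMap.det_comp, LinearMap.det_comp, mul_comm (LinearMap.det f)] at h1
  have hne : LinearMap.det g * LinearMap.det f ≠ 0 := by
    refine mul_ne_zero ?_ ?_ <;>
      exact ((LinearMap.isUnit_iff_isUnit_det _).1
        ((LinearMap.isUnit_iff_ker_eq_bot _).2 (LinearMap.ker_eq_bot.2 (by assumption)))).ne_zero
  have h2 : ((-1 : ZMod q)) ^ Module.finrank (ZMod q) W = 1 := by
    have h3 : (1 : ZMod q) * (LinearMap.det g * LinearMap.det f) =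
        (-1) ^ Module.finrank (ZMod q) W * (LinearMap.det g * LinearMap.det f) := by
      rw [one_mul]; exact h1
    exact (mul_right_cancel₀ hne h3).symm
  by_contra hodd
  rw [Nat.not_even_iff_odd] at hodd
  rw [hodd.neg_one_pow] at h2
  haveI : Fact (2 < q) := ⟨lt_of_le_of_ne (Fact.out : q.Prime).two_le (Ne.symm hq)⟩
  exact ZMod.neg_one_ne_one h2

theorem isSquare_card_of_anticommute : ∀ (n : ℕ) (M : Type*) [AddCommGroup M] [Finite M],
    Nat.card M = n → Odd n → ∀ f g : M →+ M, Function.Injective f → Function.Injective g →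
    (∀ x, f (g x) = -g (f x)) → IsSquare n := by
  intro n
  induction n using Nat.strong_induction_on with
  | _ n ih =>
    intro M _ _ hn hodd f g hf hg hfg
    by_cases h1 : n = 1
    · exact h1 ▸ ⟨1, rfl⟩
    obtain ⟨q, hq, hqn⟩ := Nat.exists_prime_and_dvd h1
    haveI := Fact.mk hq
    have hq2 : q ≠ 2 := fun h => (Nat.not_even_iff_odd.2 hodd) (even_iff_two_dvd.2 (h ▸ hqn))
    let m : M →+ M := nsmulAddMonoidHom q
    let W : AddSubgroup M := m.ker
    let R : AddSubgroup M := m.range
    have hW : ∀ x : W, q • x = 0 := fun x => Subtype.ext x.2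
    letI : Module (ZMod q) W := AddCommGroup.zmodModule hW
    have hWi : ∀ e : M →+ M, ∀ x ∈ W, e x ∈ W := fun e x hx => by
      change q • e x = 0
      rw [← map_nsmul, show q • x = 0 from hx, map_zero]
    have hRi : ∀ e : M →+ M, ∀ x ∈ R, e x ∈ R := by
      rintro e _ ⟨y, rfl⟩
      exact ⟨e y, (map_nsmul e q y).symm⟩
    let fW : W →+ W := (f.comp W.subtype).codRestrict W fun x => hWi f _ x.2
    let gW : W →+ W := (g.comp W.subtype).codRestrict W fun x => hWi g _ x.2
    obtain ⟨d, hWc⟩ := exists_card_eq_of_anticommute hq2 (fW.toZModLinearMap q) (gW.toZModLinearMap q)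
      (fun a b h => Subtype.ext (hf (congrArg Subtype.val h)))
      (fun a b h => Subtype.ext (hg (congrArg Subtype.val h))) (fun x => Subtype.ext (hfg x.1))
    have hprod : Nat.card W * Nat.card R = n := by
      rw [← hn, AddSubgroup.card_eq_card_quotient_mul_card_addSubgroup W, mul_comm,
        ← Nat.card_congr (QuotientAddGroup.quotientKerEquivRange m).toEquiv]
    have hd0 : d ≠ 0 := by
      rintro rfl
      obtain ⟨x, hx⟩ := exists_prime_addOrderOf_dvd_card' (G := M) q (hn ▸ hqn)
      have hx' : x ∈ W := by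
        change q • x = 0
        rw [← hx]; exact addOrderOf_nsmul_eq_zero x
      have hb : W = ⊥ := AddSubgroup.card_eq_one.1 (by simpa using hWc)
      rw [hb, AddSubgroup.mem_bot] at hx'
      rw [hx', addOrderOf_zero] at hx
      exact hq.ne_one hx.symm
    have hRlt : Nat.card R < n := by
      rw [← hprod, hWc]
      exact lt_mul_of_one_lt_left Nat.card_pos (Nat.one_lt_pow (by omega) hq.one_lt)
    have hRodd : Odd (Nat.card R) := hodd.of_dvd_nat ⟨_, (mul_comm _ _).trans hprod |>.symm⟩
    obtain ⟨s, hs⟩ := ih _ hRlt R rfl hRodd ((f.comp R.subtype).codRestrict R fun x => hRi f _ x.2)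
      ((g.comp R.subtype).codRestrict R fun x => hRi g _ x.2)
      (fun a b h => Subtype.ext (hf (congrArg Subtype.val h)))
      (fun a b h => Subtype.ext (hg (congrArg Subtype.val h))) (fun x => Subtype.ext (hfg x.1))
    exact ⟨q ^ d * s, by rw [← hprod, hWc, hs, pow_add]; ring⟩

/-- A Frobenius complement with a noncyclic Sylow subgroup: the kernel has odd square order. -/
theorem odd_isSquare_card_kernel {L : Type*} [Group L] [Finite L] (H : Subgroup L)
    (hF : Cfsg.IsFrobeniusComplement H) (p : ℕ) [Fact p.Prime] (P : Sylow p H)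
    (hP : ¬ IsCyclic P) :
    Odd (Nat.card (Cfsg.frobeniusKernel H)) ∧ IsSquare (Nat.card (Cfsg.frobeniusKernel H)) := by
  have hpp : p.Prime := Fact.out
  obtain ⟨N, hNk, hNn, -, hN, hfpf⟩ := CfsgLib.Core.FrobeniusConj.exists_kernel hF
  haveI := hNn
  have hHN : H ≤ normalizer (N : Set L) := le_top.trans (normalizer_eq_top_iff.2 hNn).ge
  let P' := (P : Subgroup H).map H.subtype
  have hP'le : P' ≤ H := map_subtype_le _
  have huniq : ∀ X Y : Subgroup P, Nat.card X = p → Nat.card Y = p → X = Y := by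
    intro X Y hX hY
    let e : P →* L := H.subtype.comp (P : Subgroup H).subtype
    have he : Function.Injective e := H.subtype_injective.comp (P : Subgroup H).subtype_injective
    refine map_injective he (CfsgLib.Core.FPF.subgroup_order_prime_unique hHN hfpf hN hP'le hpp
      (P.isPGroup'.map _) ?_ ?_ ?_ ?_)
    · rintro _ ⟨x, -, rfl⟩; exact ⟨x.1, x.2, rfl⟩
    · rintro _ ⟨x, -, rfl⟩; exact ⟨x.1, x.2, rfl⟩
    · rw [card_map_of_injective he, hX]
    · rw [card_map_of_injective he, hY]
  obtain hcyc | ⟨rfl, n, ⟨E⟩⟩ :=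
    CfsgLib.Core.UniqueOrderP.isCyclic_or_quaternion_of_unique P.isPGroup' huniq
  · exact absurd hcyc hP
  have hn0 : n ≠ 0 := by
    rintro rfl
    refine hP ?_
    haveI : IsCyclic (QuaternionGroup (2 ^ 0)) := QuaternionGroup.quaternionGroup_one_isCyclic
    exact E.isCyclic.2 inferInstance
  obtain ⟨k, rfl⟩ := Nat.exists_eq_succ_of_ne_zero hn0
  let i : L := ((E.symm (.a ((2 ^ k : ℕ) : ZMod (2 * 2 ^ (k + 1)))) : P) : H)
  let j : L := ((E.symm (.xa 0) : P) : H)
  let z : L := ((E.symm (.a ((2 ^ (k + 1) : ℕ) : ZMod (2 * 2 ^ (k + 1)))) : P) : H)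
  have hemb : ∀ x y : QuaternionGroup (2 ^ (k + 1)), (((E.symm (x * y) : P) : H) : L) =
      (((E.symm x : P) : H) : L) * (((E.symm y : P) : H) : L) := fun x y => by simp
  have hzz : ((2 ^ (k + 1) : ℕ) : ZMod (2 * 2 ^ (k + 1))) + ((2 ^ (k + 1) : ℕ) : ZMod (2 * 2 ^ (k + 1))) = 0 := by
    rw [← Nat.cast_add, ← two_mul, ZMod.natCast_self]
  have hz1 : z ≠ 1 := by
    intro h
    have h' : (QuaternionGroup.a ((2 ^ (k + 1) : ℕ) : ZMod (2 * 2 ^ (k + 1))) :
        QuaternionGroup (2 ^ (k + 1))) = 1 := by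
      apply E.symm.injective
      rw [map_one]
      exact Subtype.ext (Subtype.ext h)
    rw [QuaternionGroup.one_def] at h'
    have := QuaternionGroup.a.inj h'
    rw [ZMod.natCast_eq_zero_iff] at this
    have := Nat.le_of_dvd (by positivity) this
    have : 0 < 2 ^ (k + 1) := by positivity
    omega
  have hz2 : z * z = 1 := by
    show (((E.symm _ : P) : H) : L) * _ = 1
    rw [← hemb, QuaternionGroup.a_mul_a, hzz, ← QuaternionGroup.one_def, map_one]
    rfl
  have hij : i * j = z * (j * i) := by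
    show (((E.symm _ : P) : H) : L) * _ = (((E.symm _ : P) : H) : L) * ((((E.symm _ : P) : H) : L) * _)
    rw [← hemb, ← hemb, ← hemb, QuaternionGroup.a_mul_xa, QuaternionGroup.xa_mul_a,
      QuaternionGroup.a_mul_xa]
    have e : (0 : ZMod (2 * 2 ^ (k + 1))) - ((2 ^ k : ℕ) : ZMod (2 * 2 ^ (k + 1))) =
        0 + ((2 ^ k : ℕ) : ZMod (2 * 2 ^ (k + 1))) - ((2 ^ (k + 1) : ℕ) : ZMod (2 * 2 ^ (k + 1))) := by
      rw [pow_succ]; push_cast; ring
    rw [e]
  have hiH : i ∈ H := SetLike.coe_mem _
  have hjH : j ∈ H := SetLike.coe_mem _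
  have hzH : z ∈ H := SetLike.coe_mem _
  have hoz : orderOf z = 2 := orderOf_eq_prime (by rw [pow_two, hz2]) hz1
  have heven : 2 ∣ Nat.card H := hoz ▸ orderOf_dvd_natCard H hzH
  obtain ⟨⟨s, hs, hso, hsu, hsinv⟩, hNab⟩ :=
    CfsgLib.Core.FPF.exists_unique_involution hHN hfpf hN heven
  obtain rfl := hsu z hzH hoz
  haveI := hNab
  have hcop := CfsgLib.Core.FPF.coprime_card hHN hfpf
  have hkc : Nat.card (Cfsg.frobeniusKernel H) = Nat.card N := by rw [← hNk]; rfl
  have hodd : Odd (Nat.card N) := by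
    rw [← Nat.not_even_iff_odd, even_iff_two_dvd]
    exact fun h2 => absurd (Nat.eq_one_of_dvd_coprimes hcop heven h2) (by norm_num)
  rw [hkc]
  refine ⟨hodd, ?_⟩
  letI : CommGroup N := { (inferInstance : Group N) with mul_comm := fun a b => mul_comm' a b }
  let cj : L → (Additive N →+ Additive N) := fun g =>
    MonoidHom.toAdditive ((MulAut.conjNormal g : MulAut N).toMonoidHom)
  have hinj : ∀ g, Function.Injective (cj g) := fun g a b h =>
    (MulAut.conjNormal g : MulAut N).injective h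
  refine isSquare_card_of_anticommute _ (Additive N) rfl hodd (cj i) (cj j) (hinj i) (hinj j) ?_
  intro x
  refine Subtype.ext (α := L) ?_
  change i * (j * (Additive.toMul x : N) * j⁻¹) * i⁻¹ =
    (j * (i * (Additive.toMul x : N) * i⁻¹) * j⁻¹)⁻¹
  have hy : j * (i * (Additive.toMul x : N) * i⁻¹) * j⁻¹ ∈ N :=
    hNn.conj_mem _ (hNn.conj_mem _ (SetLike.coe_mem _) i) j
  rw [← hsinv _ hy]
  calc i * (j * ((Additive.toMul x : N) : L) * j⁻¹) * i⁻¹
      = (i * j) * ((Additive.toMul x : N) : L) * (i * j)⁻¹ := by group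
    _ = _ := by rw [hij]; group

end CfsgLib.HallGen
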