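import Cfsg.Agent.Lib.Classical.SylowGL
import Cfsg.Agent.Lib.Classical.HomocyclicSylow
import Mathlib.LinearAlgebra.Matrix.Transvection
import Mathlib.LinearAlgebra.Vandermonde

/-!
# A redundant Sylow subgroup of `GL(p, q)` for `p ∥ q - 1`

The monomial Sylow subgroup is covered by the others: every element of it is conjugated into it by
a matrix having two non-zero entries in one row, and such a matrix does not normalise it.
-/

set_option autoImplicit false

namespace CfsgLib.HallGen.RedundantGL

open Matrix Finset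
open scoped Pointwise

variable {F : Type*} [Field F] {p : ℕ} [NeZero p]

local notation "Mat" => Matrix (Fin p) (Fin p) F

/-- The monomial matrix with entries `d` on the `k`-th broken diagonal. -/
def mono (d : Fin p → F) (k : Fin p) : Mat :=
  Matrix.of fun i j => if j = i + k then d i else 0

theorem mono_apply (d : Fin p → F) (k i j : Fin p) :
    mono d k i j = if j = i + k then d i else 0 := rfl

theorem mono_mul_apply (d : Fin p → F) (k : Fin p) (A : Mat) (i j : Fin p) :
    (mono d k * A) i j = d i * A (i + k) j := by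
  rw [Matrix.mul_apply, Finset.sum_eq_single (i + k)]
  · simp [mono_apply]
  · intro b _ hb
    simp [mono_apply, hb]
  · simp

theorem mono_mul (d e : Fin p → F) (k l : Fin p) :
    mono d k * mono e l = mono (fun i => d i * e (i + k)) (k + l) := by
  ext i j
  rw [mono_mul_apply, mono_apply, mono_apply, add_assoc]
  split_ifs <;> simp

theorem mono_one : mono (1 : Fin p → F) 0 = 1 := by
  ext i j
  simp [mono_apply, Matrix.one_apply, eq_comm]

theorem diagonal_eq_mono (d : Fin p → F) : Matrix.diagonal d = mono d 0 := by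
  ext i j
  by_cases h : i = j
  · subst h; simp [mono_apply]
  · simp [mono_apply, h, Ne.symm h]

variable (F p) in
/-- The monoid of monomial matrices with cyclic pattern and entries `p`-th roots of unity. -/
def monoid : Submonoid (GeneralLinearGroup (Fin p) F) where
  carrier := {g | ∃ d : Fin p → F, ∃ k, (∀ i, d i ^ p = 1) ∧ (g : Mat) = mono d k}
  one_mem' := ⟨1, 0, fun _ => one_pow _, by rw [mono_one, Units.val_one]⟩
  mul_mem' := by
    rintro g h ⟨d, k, hd, hg⟩ ⟨e, l, he, hh⟩
    refine ⟨fun i => d i * e (i + k), k + l, fun i => ?_, by rw [Units.val_mul, hg, hh, mono_mul]⟩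
    rw [mul_pow, hd, he, one_mul]

variable (F p) in
/-- The monomial Sylow subgroup. -/
def monSub [Fintype F] : Subgroup (GeneralLinearGroup (Fin p) F) where
  toSubmonoid := monoid F p
  inv_mem' := by
    intro g hg
    rw [← _root_.zpow_neg_one, zpow_eq_zpow_emod' (n := Nat.card (GeneralLinearGroup (Fin p) F))]
    · obtain ⟨m, hm⟩ := Int.eq_ofNat_of_zero_le (Int.emod_nonneg (-1 : ℤ)
        (Int.natCast_ne_zero.2 (Nat.card_pos (α := GeneralLinearGroup (Fin p) F)).ne'))
      rw [hm, zpow_natCast]
      have hg0 : g ∈ monoid F p := hg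
      exact pow_mem hg0 m
    · exact pow_card_eq_one'

variable [Fintype F]

theorem mem_monSub {g : GeneralLinearGroup (Fin p) F} :
    g ∈ monSub F p ↔ ∃ d : Fin p → F, ∃ k, (∀ i, d i ^ p = 1) ∧ (g : Mat) = mono d k := Iff.rfl

theorem natCard_roots {w : F} (hw : IsPrimitiveRoot w p) : Nat.card {a : F // a ^ p = 1} = p := by
  classical
  rw [Nat.card_eq_fintype_card, Fintype.card_subtype]
  refine Eq.trans ?_ hw.card_nthRootsFinset
  congr 1
  ext a
  simp [Polynomial.mem_nthRootsFinset (NeZero.pos p)]

theorem card_monSub {w : F} (hw : IsPrimitiveRoot w p) : Nat.card (monSub F p) = p ^ p * p := by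
  have hne : ∀ {d : Fin p → F}, (∀ i, d i ^ p = 1) → ∀ i, d i ≠ 0 := fun hd i h => by
    have := hd i
    rw [h, zero_pow (NeZero.ne p)] at this
    exact zero_ne_one this
  have hex : ∀ x : (Fin p → {a : F // a ^ p = 1}) × Fin p, ∃ g : monSub F p,
      ((g : GeneralLinearGroup (Fin p) F) : Mat) = mono (fun i => (x.1 i : F)) x.2 := by
    rintro ⟨d, k⟩
    have hd : ∀ i, (d i : F) ≠ 0 := hne fun i => (d i).2
    have hu : IsUnit (mono (fun i => (d i : F)) k) :=
      isUnit_iff_exists.2 ⟨mono (fun i => ((d (i - k) : F))⁻¹) (-k), by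
        rw [mono_mul]
        simp [hd, ← mono_one]
        rfl, by
        rw [mono_mul]
        simp [hd, ← mono_one, sub_eq_add_neg]
        rfl⟩
    exact ⟨⟨hu.unit, _, k, fun i => (d i).2, hu.unit_spec⟩, hu.unit_spec⟩
  choose φ hφ using hex
  have hb : Function.Bijective φ := by
    refine ⟨?_, ?_⟩
    · rintro ⟨d, k⟩ ⟨e, l⟩ h
      have heq := hφ (d, k)
      rw [h, hφ (e, l)] at heq
      replace heq := heq.symm
      have hrow : ∀ i, k = l ∧ (d i : F) = e i := fun i => by
        have h1 := congrFun (congrFun heq i) (i + k)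
        rw [mono_apply, mono_apply, if_pos rfl] at h1
        by_cases hkl : i + k = i + l
        · rw [if_pos hkl] at h1
          exact ⟨add_left_cancel hkl, h1⟩
        · rw [if_neg hkl] at h1
          exact absurd h1 (hne (d := fun j => (d j : F)) (fun j => (d j).2) i)
      exact Prod.ext (funext fun i => Subtype.ext (hrow i).2) (hrow 0).1
    · rintro ⟨g, d, k, hd, hg⟩
      refine ⟨(fun i => ⟨d i, hd i⟩, k), Subtype.ext (Units.ext ?_)⟩
      exact (hφ (fun i => ⟨d i, hd i⟩, k)).trans hg.symm
  rw [← Nat.card_congr (Equiv.ofBijective φ hb), Nat.card_prod, Nat.card_fun, Nat.card_fin,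
    natCard_roots hw]

theorem trace_mono {d : Fin p → F} {k : Fin p} (hk : k ≠ 0) : Matrix.trace (mono d k) = 0 := by
  refine Finset.sum_eq_zero fun i _ => ?_
  simp [mono_apply, hk]

/-- A matrix with two non-zero entries in a row does not normalise `monSub`. -/
theorem exists_not_conj_mem (hp3 : 3 ≤ p) {w : F} (hw : IsPrimitiveRoot w p)
    (g : GeneralLinearGroup (Fin p) F) (i j j' : Fin p) (hjj : j ≠ j')
    (hj : (g : Mat) i j ≠ 0) (hj' : (g : Mat) i j' ≠ 0) :
    ∃ y ∈ monSub F p, g * y * g⁻¹ ∉ monSub F p := by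
  classical
  have hw1 : w ^ p = 1 := hw.pow_eq_one
  obtain ⟨u, hu, hu1, htr⟩ : ∃ u : F, u ^ p = 1 ∧ u ≠ 1 ∧ u + ((p - 1 : ℕ) : F) ≠ 0 := by
    by_cases h : w + ((p - 1 : ℕ) : F) = 0
    · refine ⟨w ^ 2, by rw [← pow_mul, mul_comm, pow_mul, hw1, one_pow],
        hw.pow_ne_one_of_pos_of_lt (by omega) (by omega), fun h2 => ?_⟩
      have h3 : w ^ 2 = w := by linear_combination h2 - h
      have h4 : w * (w - 1) = 0 := by linear_combination h3
      rcases mul_eq_zero.1 h4 with h5 | h5
      · exact hw.ne_zero (by omega) h5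
      · exact hw.ne_one (by omega) (sub_eq_zero.1 h5)
    · exact ⟨w, hw1, hw.ne_one (by omega), h⟩
  have hu0 : u ≠ 0 := fun h => by rw [h, zero_pow (NeZero.ne p)] at hu; exact zero_ne_one hu
  set d : Fin p → F := Function.update 1 j u with hd
  have hdu : ∀ a, d a ^ p = 1 := fun a => by
    rw [hd]
    by_cases ha : a = j <;> simp [Function.update, ha, hu]
  have hd0 : ∀ a, d a ≠ 0 := fun a h => by
    have := hdu a
    rw [h, zero_pow (NeZero.ne p)] at this
    exact zero_ne_one this
  let y : GeneralLinearGroup (Fin p) F :=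
    GeneralLinearGroup.mkOfDetNeZero (Matrix.diagonal d)
      (by rw [Matrix.det_diagonal]; exact Finset.prod_ne_zero_iff.2 fun a _ => hd0 a)
  have hy : (y : Mat) = Matrix.diagonal d := rfl
  refine ⟨y, ⟨d, 0, hdu, by rw [hy, diagonal_eq_mono]⟩, ?_⟩
  rintro ⟨e, l, -, hz⟩
  have htrace : Matrix.trace (mono e l) = u + ((p - 1 : ℕ) : F) := by
    rw [← hz, Units.val_mul, Units.val_mul, Matrix.trace_units_conj, hy, Matrix.trace_diagonal, hd,
      Finset.sum_update_of_mem (Finset.mem_univ j)]
    simp [Finset.card_univ_sdiff]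
  have hl : l = 0 := by
    by_contra hl
    exact htr (htrace ▸ trace_mono hl)
  subst hl
  have hmul : (g : Mat) * Matrix.diagonal d = mono e 0 * (g : Mat) := by
    rw [← hz, ← hy, ← Units.val_mul, ← Units.val_mul, inv_mul_cancel_right]
  have h1 := congrFun (congrFun hmul i) j
  have h2 := congrFun (congrFun hmul i) j'
  rw [Matrix.mul_diagonal, mono_mul_apply, add_zero, mul_comm] at h1 h2
  have e1 := mul_right_cancel₀ hj h1
  have e2 := mul_right_cancel₀ hj' h2
  simp [hd, Function.update, hjj.symm] at e1 e2
  exact hu1 (e1.trans e2.symm)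

/-- An element of the monomial subgroup is conjugated into it by a non-normalising element. -/
theorem exists_conj (hp : p.Prime) (hp2 : p ≠ 2) {w : F} (hw : IsPrimitiveRoot w p)
    {x : GeneralLinearGroup (Fin p) F} (hx : x ∈ monSub F p) :
    ∃ g : GeneralLinearGroup (Fin p) F, g * x * g⁻¹ ∈ monSub F p ∧
      ∃ i j j', j ≠ j' ∧ (g : Mat) i j ≠ 0 ∧ (g : Mat) i j' ≠ 0 := by
  classical
  obtain ⟨d, k, hd, hxm⟩ := hx
  have hp3 : 3 ≤ p := by have := hp.two_le; omega
  have hd0 : ∀ a, d a ≠ 0 := fun a h => by
    have := hd a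
    rw [h, zero_pow (NeZero.ne p)] at this
    exact zero_ne_one this
  by_cases hk : k = 0
  · subst hk
    rw [← diagonal_eq_mono] at hxm
    by_cases hinj : Function.Injective d
    · -- diagonalisable form of a cyclic permutation
      set W : Mat := (Matrix.vandermonde d)ᵀ with hWdef
      have hW : W.det ≠ 0 := by
        rw [hWdef, Matrix.det_transpose]
        exact Matrix.det_vandermonde_ne_zero_iff.2 hinj
      let g : GeneralLinearGroup (Fin p) F := GeneralLinearGroup.mkOfDetNeZero W hW
      have hg : (g : Mat) = W := rfl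
      have hW' : ∀ a b, W a b = d b ^ (a : ℕ) := fun a b => rfl
      let sOne : Fin p := ⟨1, by omega⟩
      refine ⟨g, ⟨1, sOne, fun _ => one_pow _, ?_⟩, 0, 0, sOne, ?_, ?_, ?_⟩
      · have he : (g : Mat) * (x : Mat) = mono 1 sOne * (g : Mat) := by
          ext a b
          rw [hxm, Matrix.mul_diagonal, mono_mul_apply, hg, hW', hW', Pi.one_apply, one_mul,
            ← pow_succ, Fin.val_add, show ((sOne : Fin p) : ℕ) = 1 from rfl]
          exact pow_eq_pow_mod _ (hd b)
        rw [Units.val_mul, Units.val_mul, he, mul_assoc, ← Units.val_mul, mul_inv_cancel,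
          Units.val_one, mul_one]
      · simp [sOne, Fin.ext_iff]
      · rw [hg, hW']; simp
      · rw [hg, hW']; simp
    · obtain ⟨a, b, hab, hne⟩ := Function.not_injective_iff.1 hinj
      let g : GeneralLinearGroup (Fin p) F := GeneralLinearGroup.mkOfDetNeZero
        (Matrix.transvection a b (1 : F))
        (by rw [Matrix.det_transvection_of_ne a b hne]; exact one_ne_zero)
      have hg : (g : Mat) = Matrix.transvection a b (1 : F) := rfl
      have hc : g * x = x * g := by
        refine Units.ext ?_
        rw [Units.val_mul, Units.val_mul, hg, hxm]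
        ext i j
        rw [Matrix.mul_diagonal, Matrix.diagonal_mul]
        by_cases hij : i = j
        · subst hij; rw [mul_comm]
        · by_cases h' : a = i ∧ b = j
          · obtain ⟨rfl, rfl⟩ := h'
            rw [hab, mul_comm]
          · simp [Matrix.transvection, Matrix.one_apply, hij, Matrix.single_apply, h']
      refine ⟨g, ?_, a, a, b, hne, ?_, ?_⟩
      · rw [hc, mul_inv_cancel_right]
        exact ⟨d, 0, hd, by rw [hxm, diagonal_eq_mono]⟩
      · simp [hg, Matrix.transvection, Matrix.single_apply, hne.symm]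
      · simp [hg, Matrix.transvection, Matrix.one_apply, hne, Matrix.single_apply]
  · -- a polynomial in `x`
    have hkk : k + k ≠ 0 ∧ k + k ≠ k := by
      refine ⟨fun h => hk ?_, fun h => hk (by simpa using h)⟩
      rw [Fin.ext_iff, Fin.val_add] at h
      have h0 : (k : ℕ) + (k : ℕ) < p + p := by have := k.isLt; omega
      have hk0 : (k : ℕ) ≠ 0 := fun h' => hk (Fin.ext (by simpa using h'))
      simp only [Fin.val_zero] at h
      have hdvd := Nat.dvd_of_mod_eq_zero h
      rw [← two_mul] at hdvd
      rcases hp.dvd_mul.1 hdvd with h2 | h2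
      · have := Nat.le_of_dvd two_pos h2; omega
      · exact absurd (Nat.le_of_dvd (Nat.pos_of_ne_zero hk0) h2) (by have := k.isLt; omega)
    have hpow : ∀ n : ℕ, ∃ e : Fin p → F, (∀ i, e i ^ p = 1) ∧
        ((x ^ n : GeneralLinearGroup (Fin p) F) : Mat) = mono e (n • k) := by
      intro n
      induction n with
      | zero => exact ⟨1, fun _ => one_pow _, by rw [pow_zero, Units.val_one, zero_smul, mono_one]⟩
      | succ n ih =>
        obtain ⟨e, he, h⟩ := ih
        refine ⟨fun i => e i * d (i + n • k), fun i => ?_,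
          by rw [pow_succ, Units.val_mul, h, hxm, mono_mul, succ_nsmul]⟩
        rw [mul_pow, he, hd, one_mul]
    have hxpp : ((x : Mat)) ^ (p * p) = 1 := by
      obtain ⟨e, he, h⟩ := hpow p
      have hpk : p • k = 0 := by simpa [Nat.card_fin] using (card_nsmul_eq_zero' : Nat.card (Fin p) • k = 0)
      rw [hpk, ← diagonal_eq_mono, Units.val_pow_eq_pow_val] at h
      rw [pow_mul, h, Matrix.diagonal_pow]
      rw [show e ^ p = 1 from funext he]
      exact Matrix.diagonal_one
    -- choose the polynomial
    obtain ⟨a, b, ha, hb, hker⟩ : ∃ a b : F, a ≠ 0 ∧ (b = 0 ∨ b = 1) ∧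
        ∀ v : Fin p → F, (a • (1 : Mat) + (x : Mat) + b • (x : Mat) ^ 2) *ᵥ v = 0 → v = 0 := by
      set X : Mat := (x : Mat)
      have hfix : ∀ v, X ^ (p * p) *ᵥ v = v := fun v => by rw [hxpp, Matrix.one_mulVec]
      by_cases h2 : (2 : F) = 0
      · have haddself : ∀ v : Fin p → F, v + v = 0 := fun v => by
          funext i
          show v i + v i = 0
          linear_combination v i * h2
        by_cases hp3' : p = 3
        · subst hp3'
          have hw3 : w ^ 3 = 1 := hw.pow_eq_one
          have hww : w * w = w + 1 := by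
            have h0 : (w - 1) * (w * w + w + 1) = 0 := by linear_combination hw3
            rcases mul_eq_zero.1 h0 with h | h
            · exact absurd (sub_eq_zero.1 h) (hw.ne_one (by norm_num))
            · linear_combination h - (w + 1) * h2
          refine ⟨w, 1, hw.ne_zero (by norm_num), Or.inr rfl, fun v hv => ?_⟩
          have hv2 : X *ᵥ (X *ᵥ v) = (X *ᵥ v) + w • v := by
            rw [Matrix.add_mulVec, Matrix.add_mulVec, Matrix.smul_mulVec, Matrix.one_mulVec,
              one_smul, pow_two, ← Matrix.mulVec_mulVec] at hv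
            funext i
            have hi := congrFun hv i
            simp only [Pi.add_apply, Pi.smul_apply, smul_eq_mul, Pi.zero_apply] at hi ⊢
            linear_combination hi - (X *ᵥ v) i * h2 - w * v i * h2
          have hstep : ∀ P Q : F, X *ᵥ (P • (X *ᵥ v) + Q • v) = (P + Q) • (X *ᵥ v) + (w * P) • v := by
            intro P Q
            rw [Matrix.mulVec_add, Matrix.mulVec_smul, Matrix.mulVec_smul, hv2, smul_add, smul_smul,
              mul_comm P w, add_smul]
            abel
          have h9 := hfix v
          have hexp : X ^ (3 * 3) *ᵥ v = w • (X *ᵥ v) + w • v := by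
            have e0 : v = (0 : F) • (X *ᵥ v) + (1 : F) • v := by simp
            show X ^ 9 *ᵥ v = _
            conv_lhs => rw [e0]
            simp only [pow_succ, pow_zero, one_mul, ← Matrix.mulVec_mulVec, hstep]
            congr 1
            · congr 1; grind
            · congr 1; grind
          rw [hexp] at h9
          have hxv : X *ᵥ v = w • v := by
            funext i
            have hi := congrFun h9 i
            simp only [Pi.add_apply, Pi.smul_apply, smul_eq_mul] at hi ⊢
            have : w * ((X *ᵥ v) i - w * v i) = 0 := by linear_combination hi - v i * hww - v i * w * h2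
            rcases mul_eq_zero.1 this with h | h
            · exact absurd h (hw.ne_zero (by norm_num))
            · exact sub_eq_zero.1 h
          rw [hxv, Matrix.mulVec_smul, hxv, smul_smul] at hv2
          funext i
          have hi := congrFun hv2 i
          simp only [Pi.add_apply, Pi.smul_apply, smul_eq_mul] at hi
          have : w * w * v i = 0 := by linear_combination hi + w * v i * h2
          rcases mul_eq_zero.1 this with h | h
          · exact absurd (mul_self_eq_zero.1 h) (hw.ne_zero (by norm_num))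
          · exact h
        · refine ⟨1, 1, one_ne_zero, Or.inr rfl, fun v hv => ?_⟩
          have hv2 : X *ᵥ (X *ᵥ v) = (X *ᵥ v) + v := by
            rw [Matrix.add_mulVec, Matrix.add_mulVec, one_smul, Matrix.one_mulVec,
              one_smul, pow_two, ← Matrix.mulVec_mulVec] at hv
            funext i
            have hi := congrFun hv i
            simp only [Pi.add_apply, Pi.zero_apply] at hi ⊢
            linear_combination hi - (X *ᵥ v) i * h2 - v i * h2
          have h3 : X ^ 3 *ᵥ v = v := by
            rw [show (3 : ℕ) = 1 + 1 + 1 from rfl, pow_succ, pow_succ, pow_one, ← Matrix.mulVec_mulVec,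
              ← Matrix.mulVec_mulVec, hv2, Matrix.mulVec_add, hv2, add_right_comm, haddself, zero_add]
          have hper : ∀ m : ℕ, X ^ (3 * m + 1) *ᵥ v = X *ᵥ v := by
            intro m
            induction m with
            | zero => simp
            | succ m ih =>
              rw [show 3 * (m + 1) + 1 = (3 * m + 1) + 3 by ring, pow_add, ← Matrix.mulVec_mulVec,
                h3, ih]
          have hmod : ∃ m, p * p = 3 * m + 1 := by
            refine ⟨p * p / 3, ?_⟩
            have h3' : p % 3 ≠ 0 := fun h => hp3' ((Nat.prime_dvd_prime_iff_eq Nat.prime_three hp).1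
              (Nat.dvd_of_mod_eq_zero h)).symm
            have : p * p % 3 = 1 := by
              rw [Nat.mul_mod]
              rcases (by omega : p % 3 = 1 ∨ p % 3 = 2) with h | h <;> rw [h]
            omega
          obtain ⟨m, hm⟩ := hmod
          have hxv : X *ᵥ v = v := by rw [← hper m, ← hm]; exact hfix v
          rw [hxv, hxv] at hv2
          rw [hv2]
          exact haddself v
      · refine ⟨1, 0, one_ne_zero, Or.inl rfl, fun v hv => ?_⟩
        have hxv : X *ᵥ v = -v := by
          rw [Matrix.add_mulVec, Matrix.add_mulVec, one_smul, Matrix.one_mulVec, zero_smul,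
            Matrix.zero_mulVec, add_zero] at hv
          exact eq_neg_of_add_eq_zero_right hv
        have hn : ∀ n : ℕ, X ^ n *ᵥ v = (-1 : F) ^ n • v := by
          intro n
          induction n with
          | zero => simp
          | succ n ih =>
            rw [pow_succ, ← Matrix.mulVec_mulVec, hxv, Matrix.mulVec_neg, ih, pow_succ, mul_neg_one,
              neg_smul]
        have h := (hfix v).symm.trans (hn (p * p))
        have hodd : Odd p := hp.odd_of_ne_two hp2
        rw [(hodd.mul hodd).neg_one_pow, neg_one_smul] at h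
        funext i
        have hi := congrFun h i
        simp only [Pi.neg_apply] at hi
        have : (2 : F) * v i = 0 := by linear_combination hi
        exact (mul_eq_zero.1 this).resolve_left h2
    set Z : Mat := a • (1 : Mat) + (x : Mat) + b • (x : Mat) ^ 2 with hZ
    have hZu : IsUnit Z := by
      rw [← Matrix.mulVec_injective_iff_isUnit]
      intro v v' hvv
      exact sub_eq_zero.1 (hker _ (by rw [Matrix.mulVec_sub, sub_eq_zero]; exact hvv))
    obtain ⟨e2, -, hx2⟩ := hpow 2
    rw [Units.val_pow_eq_pow_val, two_nsmul] at hx2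
    refine ⟨hZu.unit, ?_, 0, 0, k, Ne.symm hk, ?_, ?_⟩
    · have hc : hZu.unit * x = x * hZu.unit := by
        refine Units.ext ?_
        rw [Units.val_mul, Units.val_mul, hZu.unit_spec]
        show Commute Z (x : Mat)
        exact (((Commute.one_left _).smul_left a).add_left (Commute.refl _)).add_left
          (((Commute.refl _).pow_left 2).smul_left b)
      rw [hc, mul_inv_cancel_right]
      exact ⟨d, k, hd, hxm⟩
    · rw [hZu.unit_spec, hZ, hx2, hxm]
      simp [mono_apply, Matrix.one_apply, Ne.symm hk, Ne.symm hkk.1, ha]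
    · rw [hZu.unit_spec, hZ, hx2, hxm]
      simp [mono_apply, Matrix.one_apply, hk, Ne.symm hk, Ne.symm hkk.2, hd0]

omit [NeZero p] in
theorem padicValNat_pow_self_sub_one [Fact p.Prime] (hp : p ≠ 2) {q : ℕ} (hq : 1 < q)
    (h : p ∣ q - 1) : padicValNat p (q ^ p - 1) = padicValNat p (q - 1) + 1 := by
  have hpq : ¬ p ∣ q := fun h' => (Fact.out : p.Prime).one_lt.ne'
    (Nat.dvd_one.1 (by simpa [Nat.sub_sub_self hq.le] using Nat.dvd_sub h' h))
  have hn : p ≠ 0 := (Fact.out : p.Prime).ne_zero
  have := padicValNat.pow_sub_pow (p := p) ((Fact.out : p.Prime).odd_of_ne_two hp) hq h hpq hn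
  rwa [one_pow, padicValNat.self (Fact.out : p.Prime).one_lt] at this

theorem not_dvd_index [Fact p.Prime] (hp : p ≠ 2) (h1 : p ∣ Fintype.card F - 1)
    (h2 : ¬ p ^ 2 ∣ Fintype.card F - 1) {w : F} (hw : IsPrimitiveRoot w p) :
    ¬ p ∣ (monSub F p).index := by
  set q := Fintype.card F
  have hq : 1 < q := Fintype.one_lt_card
  have hpr : p.Prime := Fact.out
  have hv1 : padicValNat p (q - 1) = 1 := by
    refine le_antisymm ?_ (one_le_padicValNat_of_dvd (by omega) h1)
    by_contra h
    exact h2 ((padicValNat_dvd_iff_le (by omega)).2 (by omega))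
  have hpq : ¬ p ∣ q := fun h' => hpr.one_lt.ne'
    (Nat.dvd_one.1 (by simpa [Nat.sub_sub_self hq.le] using Nat.dvd_sub h' h1))
  have hpos : ∀ i : ℕ, q ^ (i + 1) - 1 ≠ 0 := fun i => by
    have := Nat.one_lt_pow (show i + 1 ≠ 0 by omega) hq
    omega
  have hprod : ∀ n ≤ p, padicValNat p (∏ i ∈ range n, (q ^ (i + 1) - 1)) = if n = p then p + 1 else n := by
    intro n hn
    induction n with
    | zero => simp [(Ne.symm (NeZero.ne p))]
    | succ n ih =>
      rw [Finset.prod_range_succ, padicValNat.mul (Finset.prod_ne_zero_iff.2 fun i _ => hpos i) (hpos n),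
        ih (by omega), if_neg (by omega : n ≠ p)]
      split_ifs with hnp
      · rw [hnp, padicValNat_pow_self_sub_one hp hq h1, hv1]
        omega
      · rw [CfsgLib.Classical.Homocyclic.val_pow_sub_one hq h1 (Nat.not_dvd_of_pos_of_lt n.succ_pos (by omega)), hv1]
  have hG := CfsgLib.Classical.card_GL_eq (F := F) p
  have hval : padicValNat p (Nat.card (GeneralLinearGroup (Fin p) F)) = p + 1 := by
    rw [hG, padicValNat.mul (pow_ne_zero _ (by omega)) (Finset.prod_ne_zero_iff.2 fun i _ => hpos i),
      padicValNat.eq_zero_of_not_dvd (fun h => hpq (hpr.dvd_of_dvd_pow h)), hprod p le_rfl, if_pos rfl,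
      zero_add]
  intro h
  have hmul := (monSub F p).card_mul_index
  rw [card_monSub hw, ← pow_succ] at hmul
  have h3 : p ^ (p + 1 + 1) ∣ Nat.card (GeneralLinearGroup (Fin p) F) := by
    rw [← hmul, pow_succ]
    exact mul_dvd_mul_left _ h
  have := (padicValNat_dvd_iff_le (Nat.card_pos).ne').1 h3
  omega

theorem redundant [Fact p.Prime] (hp : p ≠ 2) (h1 : p ∣ Fintype.card F - 1)
    (h2 : ¬ p ^ 2 ∣ Fintype.card F - 1) :
    ∃ Q : Sylow p (GeneralLinearGroup (Fin p) F), ∀ x : GeneralLinearGroup (Fin p) F,
      (∃ k : ℕ, orderOf x = p ^ k) → ∃ P : Sylow p (GeneralLinearGroup (Fin p) F), P ≠ Q ∧ x ∈ P := by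
  have hpr : p.Prime := Fact.out
  obtain ⟨u, hu⟩ := exists_prime_orderOf_dvd_card' (G := Fˣ) p (by
    rwa [Nat.card_units, Nat.card_eq_fintype_card])
  have hw : IsPrimitiveRoot (u : F) p := by
    rw [IsPrimitiveRoot.coe_units_iff, ← hu]
    exact IsPrimitiveRoot.orderOf u
  have hQ : IsPGroup p (monSub F p) := IsPGroup.of_card (n := p + 1) (by rw [card_monSub hw, pow_succ])
  let Q : Sylow p (GeneralLinearGroup (Fin p) F) := hQ.toSylow (not_dvd_index hp h1 h2 hw)
  refine ⟨Q, fun x hx => ?_⟩
  by_cases hxQ : x ∈ monSub F p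
  · obtain ⟨g, hg, i, j, j', hjj, hj, hj'⟩ := exists_conj hpr hp hw hxQ
    obtain ⟨y, hy, hy'⟩ := exists_not_conj_mem (by have := hpr.two_le; omega) hw g i j j' hjj hj hj'
    have hmem : ∀ z, z ∈ ((g⁻¹ • Q : Sylow p (GeneralLinearGroup (Fin p) F)) : Subgroup _) ↔
        g * z * g⁻¹ ∈ monSub F p := fun z => by
      rw [Sylow.coe_subgroup_smul, Subgroup.mem_pointwise_smul_iff_inv_smul_mem, MulAut.smul_def,
        MulAut.inv_def, MulAut.conj_symm_apply, inv_inv]
      rfl
    exact ⟨g⁻¹ • Q, fun h => hy' ((hmem y).1 (by rw [h]; exact hy)), (hmem x).2 hg⟩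
  · obtain ⟨k, hk⟩ := hx
    obtain ⟨P, hP⟩ := (IsPGroup.of_card (n := k) (by rw [Nat.card_zpowers, hk]) :
      IsPGroup p (Subgroup.zpowers x)).exists_le_sylow
    exact ⟨P, fun h => hxQ (by have h' := hP (Subgroup.mem_zpowers x); rw [h] at h'; exact h'),
      hP (Subgroup.mem_zpowers x)⟩

end CfsgLib.HallGen.RedundantGL
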