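import Mathlib.Data.ZMod.Basic
import Mathlib.LinearAlgebra.Matrix.Notation
import Mathlib.LinearAlgebra.Matrix.Determinant.Basic

/-!
# Witnesses in `SL₃(3)`

For each matrix of two normal forms, a way of writing it as a product of two conjugates of a fixed element of
order four.
-/

set_option autoImplicit false

namespace CfsgLib.HallGen.SLThreeTable

open Matrix

/-- Matrices over the field with three elements. -/
abbrev M3 : Type := Matrix (Fin 3) (Fin 3) (ZMod 3)

/-- The fixed element of order four. -/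
def x0 : M3 := !![0, 0, 1; 0, 1, 0; 2, 0, 0]

/-- The matrix with the given base three digits. -/
def m3 (k : ℕ) : M3 := Matrix.of fun i j => ((k / 3 ^ (3 * i.val + j.val) % 3 : ℕ) : ZMod 3)

/-- A matrix, two conjugating matrices and their inverses, in base three. -/
def table : List (ℕ × ℕ × ℕ × ℕ × ℕ) := [
  (2223, 1548, 828, 2223, 975),
  (8784, 1548, 828, 2307, 14115),
  (15345, 1548, 828, 2391, 7545),
  (2466, 1548, 828, 2388, 14106),
  (9027, 1548, 828, 2229, 7536),
  (15588, 1548, 828, 2304, 993),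
  (2709, 1548, 828, 2310, 7554),
  (9270, 1548, 828, 2385, 984),
  (15831, 1548, 828, 2226, 14097),
  (13152, 2034, 855, 6495, 3779),
  (13395, 12483, 835, 10677, 12250),
  (13638, 8109, 829, 10704, 4501),
  (13233, 12483, 835, 8406, 1315),
  (13476, 14913, 884, 17343, 858),
  (13719, 1548, 828, 6495, 3779),
  (13314, 5922, 834, 13758, 13670),
  (13557, 3735, 831, 10431, 1337),
  (13800, 14670, 830, 17343, 858),
  (13161, 14670, 830, 16803, 1083),
  (13404, 16803, 1083, 14619, 17850),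
  (13647, 1548, 828, 6360, 10574),
  (13242, 5922, 834, 16425, 1399),
  (13485, 12483, 835, 8352, 883),
  (13728, 8109, 829, 10650, 17866),
  (13323, 16857, 833, 18045, 1277),
  (13566, 5922, 834, 14322, 10147),
  (13809, 12726, 890, 8163, 1342),
  (13170, 16857, 833, 11055, 14899),
  (13413, 1791, 882, 6468, 17369),
  (13656, 9513, 1191, 7332, 11397),
  (13251, 14670, 830, 17235, 1335),
  (13494, 12726, 890, 10299, 5203),
  (13737, 12483, 835, 8379, 1099),
  (13332, 1548, 828, 6468, 17369),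
  (13575, 8109, 829, 10353, 11548),
  (13818, 5922, 834, 1068, 6030),
  (6594, 3735, 831, 7410, 17251),
  (6837, 14670, 830, 16539, 4600),
  (7080, 1791, 882, 5682, 3878),
  (6675, 10296, 832, 7758, 1442),
  (6918, 1548, 828, 5682, 3878),
  (7161, 5922, 834, 18186, 8310),
  (6756, 2034, 855, 5682, 3878),
  (6999, 8109, 829, 10134, 957),
  (7242, 8352, 883, 10134, 957),
  (6603, 8109, 829, 9513, 1191),
  (6846, 1548, 828, 5628, 17252),
  (7089, 3735, 831, 15213, 12245),
  (6684, 12483, 835, 11970, 1438),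
  (6927, 14670, 830, 16404, 11404),
  (7170, 10296, 832, 8001, 1388),
  (6765, 3735, 831, 17481, 12239),
  (7008, 5922, 834, 3903, 2345),
  (7251, 9513, 1191, 8085, 11535),
  (6612, 10539, 885, 7974, 1172),
  (6855, 3735, 831, 8373, 18268),
  (7098, 12483, 835, 9891, 931),
  (6693, 8109, 829, 9864, 1452),
  (6936, 10296, 832, 7515, 1415),
  (7179, 16857, 833, 18105, 8293),
  (6774, 1548, 828, 5817, 10916),
  (7017, 16803, 1083, 13920, 18204),
  (7260, 14670, 830, 16269, 18208)]

/-- A matrix is a product of two conjugates of `x0` under matrices of determinant one. -/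
def IsTwo (m : M3) : Prop :=
  ∃ P P' Q Q' : M3, P.det = 1 ∧ Q.det = 1 ∧ P * P' = 1 ∧ Q * Q' = 1 ∧ P * x0 * P' * (Q * x0 * Q') = m

theorem table_ok : ∀ e ∈ table, IsTwo (m3 e.1) := by
  have h : ∀ e ∈ table, (m3 e.2.1).det = 1 ∧ (m3 e.2.2.2.1).det = 1 ∧ m3 e.2.1 * m3 e.2.2.1 = 1 ∧
      m3 e.2.2.2.1 * m3 e.2.2.2.2 = 1 ∧
      m3 e.2.1 * x0 * m3 e.2.2.1 * (m3 e.2.2.2.1 * x0 * m3 e.2.2.2.2) = m3 e.1 := by
    decide +kernel
  exact fun e he => ⟨_, _, _, _, h e he⟩

theorem companion_two : ∀ b c : ZMod 3, IsTwo !![0, 0, 1; 1, 0, b; 0, 1, c] := by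
  have h : ∀ b c : ZMod 3, (!![0, 0, 1; 1, 0, b; 0, 1, c] : M3) ∈ table.map fun e => m3 e.1 := by decide +kernel
  intro b c
  obtain ⟨e, he, h'⟩ := List.mem_map.1 (h b c)
  exact h' ▸ table_ok e he

theorem block_two : ∀ r s t u : ZMod 3, r ≠ 0 → IsTwo !![0, r, s; 1, t, u; 0, 0, -r] := by
  have h : ∀ r s t u : ZMod 3, r ≠ 0 → (!![0, r, s; 1, t, u; 0, 0, -r] : M3) ∈ table.map fun e => m3 e.1 := by decide +kernel
  intro r s t u hr
  obtain ⟨e, he, h'⟩ := List.mem_map.1 (h r s t u hr)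
  exact h' ▸ table_ok e he

end CfsgLib.HallGen.SLThreeTable
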