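import Mathlib
import Cfsg.Agent.Lib.HallGen.SimpleFifteen

/-!
Sylow subgroups meeting in index `p`: the sets of Sylow subgroups over a common subgroup of index `p`,
and congruences for fixed point sets of commuting permutations.
-/

set_option linter.style.haveILetI false

open scoped Pointwise

namespace CfsgLib.HallGen

open Subgroup

variable {S : Type*} [Group S] [Finite S] {p : ℕ} [Fact p.Prime]

/-- Sylow subgroups meeting in index `p`. -/
def SylAdj (P R : Sylow p S) : Prop := (R : Subgroup S).relIndex P = p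

/-- The subgroups of index `p` common to two Sylow subgroups. -/
def IsSylMeet (p : ℕ) (D : Subgroup S) : Prop :=
  ∃ P R : Sylow p S, (R : Subgroup S).relIndex P = p ∧ D = (P : Subgroup S) ⊓ R

/-- Number of Sylow subgroups over `D`. -/
noncomputable def overCard (p : ℕ) (D : Subgroup S) : ℕ := Nat.card {Q : Sylow p S // D ≤ Q}

theorem card_sylow_eq_card (P R : Sylow p S) :
    Nat.card (P : Subgroup S) = Nat.card (R : Subgroup S) := by
  rw [Sylow.card_eq_multiplicity, Sylow.card_eq_multiplicity]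

theorem card_inf_mul_relIndex (P R : Sylow p S) :
    Nat.card ((P : Subgroup S) ⊓ R : Subgroup S) * (R : Subgroup S).relIndex P =
      Nat.card (P : Subgroup S) := by
  rw [← inf_relIndex_left (P : Subgroup S) R, ← relIndex_bot_left, ← relIndex_bot_left (P : Subgroup S)]
  exact relIndex_mul_relIndex ⊥ _ _ bot_le inf_le_left

theorem relIndex_sylow_comm (P R : Sylow p S) :
    (R : Subgroup S).relIndex P = (P : Subgroup S).relIndex R := by
  have h1 := card_inf_mul_relIndex P R
  have h2 := card_inf_mul_relIndex R P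
  rw [inf_comm, card_sylow_eq_card R P, ← h1] at h2
  exact (Nat.eq_of_mul_eq_mul_left Nat.card_pos h2).symm

theorem SylAdj.symm {P R : Sylow p S} (h : SylAdj P R) : SylAdj R P := by
  rw [SylAdj, ← relIndex_sylow_comm]; exact h

omit [Finite S] in
theorem SylAdj.ne {P R : Sylow p S} (h : SylAdj P R) : P ≠ R := by
  rintro rfl
  rw [SylAdj, relIndex_self] at h
  exact (Fact.out : p.Prime).one_lt.ne h

theorem SylAdj.card_inf {P R : Sylow p S} (h : SylAdj P R) :
    Nat.card ((P : Subgroup S) ⊓ R : Subgroup S) * p = Nat.card (P : Subgroup S) := by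
  have := card_inf_mul_relIndex P R
  rwa [show (R : Subgroup S).relIndex P = p from h] at this

theorem SylAdj.isSylMeet {P R : Sylow p S} (h : SylAdj P R) :
    IsSylMeet p ((P : Subgroup S) ⊓ R) := ⟨P, R, h, rfl⟩

theorem IsSylMeet.card_mul {D : Subgroup S} (h : IsSylMeet p D) (Q : Sylow p S) :
    Nat.card D * p = Nat.card (Q : Subgroup S) := by
  obtain ⟨P, R, hadj, rfl⟩ := h
  rw [SylAdj.card_inf hadj, card_sylow_eq_card P Q]

theorem IsSylMeet.eq_of_le {D E : Subgroup S} (hD : IsSylMeet p D) (hE : IsSylMeet p E) (h : D ≤ E) :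
    D = E := by
  obtain ⟨P, -, -, -⟩ := id hD
  exact eq_of_le_of_card_ge h (Nat.le_of_mul_le_mul_right
    ((hE.card_mul P).trans (hD.card_mul P).symm).le (Fact.out : p.Prime).pos)

theorem IsSylMeet.isPGroup {D : Subgroup S} (h : IsSylMeet p D) : IsPGroup p D := by
  obtain ⟨P, R, -, rfl⟩ := h
  exact P.isPGroup'.to_le inf_le_left

theorem IsSylMeet.inf_eq {D : Subgroup S} (h : IsSylMeet p D) {P R : Sylow p S} (hP : D ≤ P) (hR : D ≤ R)
    (hne : P ≠ R) : D = (P : Subgroup S) ⊓ R ∧ SylAdj P R := by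
  have hp : p.Prime := Fact.out
  have h1 := card_inf_mul_relIndex P R
  have h2 := h.card_mul P
  have h3 : Nat.card D ∣ Nat.card ((P : Subgroup S) ⊓ R : Subgroup S) := card_dvd_of_le (le_inf hP hR)
  obtain ⟨c, hc⟩ := h3
  rw [hc, ← h2, mul_assoc] at h1
  have h4 := Nat.eq_of_mul_eq_mul_left Nat.card_pos h1
  have h5 : (R : Subgroup S).relIndex P ≠ 1 := fun h5 =>
    hne (eq_of_sylow_le (relIndex_eq_one.1 h5))
  have h6 : (R : Subgroup S).relIndex P = p :=
    (hp.eq_one_or_self_of_dvd _ (Dvd.intro_left _ h4)).resolve_left h5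
  rw [h6] at h4
  have hc1 : c = 1 := (mul_eq_right₀ hp.ne_zero).1 h4
  exact ⟨eq_of_le_of_card_ge (le_inf hP hR) (by rw [hc, hc1, mul_one]), h6⟩

theorem IsSylMeet.normal_subgroupOf {D : Subgroup S} (h : IsSylMeet p D) {P : Sylow p S} (hP : D ≤ P) :
    (P : Subgroup S) ≤ normalizer (D : Set S) := by
  have hp : p.Prime := Fact.out
  have hidx : (D.subgroupOf (P : Subgroup S)).index = p := by
    have h1 := (D.subgroupOf (P : Subgroup S)).card_mul_index
    rw [Nat.card_congr (subgroupOfEquivOfLe hP).toEquiv, ← h.card_mul P] at h1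
    exact Nat.eq_of_mul_eq_mul_left Nat.card_pos h1
  obtain ⟨a, ha⟩ := IsPGroup.iff_card.1 P.isPGroup'
  have hmin : (Nat.card (P : Subgroup S)).minFac = p := by
    rcases a with _ | a
    · rw [pow_zero] at ha
      have h1 := h.card_mul P
      rw [ha] at h1
      exact absurd (Nat.eq_one_of_mul_eq_one_left h1) hp.one_lt.ne'
    · rw [ha, Nat.pow_minFac (Nat.succ_ne_zero a), hp.minFac_eq]
  haveI : (D.subgroupOf (P : Subgroup S)).Normal :=
    Subgroup.normal_of_index_eq_minFac_card (hidx.trans hmin.symm)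
  exact (normal_subgroupOf_iff_le_normalizer hP).1 this

theorem IsSylMeet.le_smul {D : Subgroup S} (h : IsSylMeet p D) {P Q : Sylow p S} (hP : D ≤ P) (hQ : D ≤ Q)
    {x : S} (hx : x ∈ (P : Subgroup S)) : D ≤ (x • Q : Sylow p S) := by
  have h1 : MulAut.conj x • D = D :=
    Subgroup.mem_normalizer_iff_map_conj_eq.1 (h.normal_subgroupOf hP hx)
  have h2 : MulAut.conj x • D ≤ ((x • Q : Sylow p S) : Subgroup S) := CfsgLib.Core.conj_smul_mono hQ
  rwa [h1] at h2

theorem IsSylMeet.overCard_modEq {D : Subgroup S} (h : IsSylMeet p D) : overCard p D ≡ 1 [MOD p] := by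
  obtain ⟨P, R, hadj, hD⟩ := id h
  have hP : D ≤ P := hD ▸ inf_le_left
  haveI : (D.subgroupOf (normalizer (D : Set S))).Normal := normal_in_normalizer
  rw [overCard, card_sylow_over D _ h.isPGroup le_normalizer (fun Q hQ => h.normal_subgroupOf hQ) P hP]
  exact card_sylow_modEq_one p _

theorem IsSylMeet.two_le_overCard {D : Subgroup S} (h : IsSylMeet p D) : 2 ≤ overCard p D := by
  obtain ⟨P, R, hadj, rfl⟩ := h
  haveI : Nontrivial {Q : Sylow p S // (P : Subgroup S) ⊓ R ≤ Q} :=
    ⟨⟨⟨P, inf_le_left⟩, ⟨R, inf_le_right⟩, fun h => SylAdj.ne hadj (congrArg Subtype.val h)⟩⟩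
  exact Finite.one_lt_card

theorem IsSylMeet.smul {D : Subgroup S} (h : IsSylMeet p D) (g : S) :
    IsSylMeet p (MulAut.conj g • D) := by
  obtain ⟨P, R, hadj, rfl⟩ := h
  refine ⟨g • P, g • R, ?_, ?_⟩
  · rw [Sylow.coe_subgroup_smul, Sylow.coe_subgroup_smul]
    exact (relIndex_map_map_of_injective _ _ (MulAut.conj g).injective).trans hadj
  · rw [Sylow.coe_subgroup_smul, Sylow.coe_subgroup_smul]
    exact Subgroup.map_inf _ _ _ (MulAut.conj g).injective

theorem overCard_smul (D : Subgroup S) (g : S) : overCard p (MulAut.conj g • D) = overCard p D :=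
  (Nat.card_congr (Equiv.subtypeEquiv (MulAction.toPerm g) fun Q => by
    rw [MulAction.toPerm_apply, Sylow.coe_subgroup_smul]
    exact (Subgroup.pointwise_smul_le_pointwise_smul_iff).symm)).symm

/-- The meets of a given over-count above a given Sylow subgroup. -/
def MeetsAt (P : Sylow p S) (s : ℕ) : Type _ :=
  {D : Subgroup S // IsSylMeet p D ∧ overCard p D = s ∧ D ≤ P}

instance instFiniteMeetsAt (P : Sylow p S) (s : ℕ) : Finite (MeetsAt P s) := Subtype.finite

theorem card_meetsAt_eq (P R : Sylow p S) (s : ℕ) :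
    Nat.card (MeetsAt P s) = Nat.card (MeetsAt R s) := by
  obtain ⟨g, rfl⟩ := MulAction.exists_smul_eq S P R
  refine Nat.card_congr (Equiv.subtypeEquiv (MulAction.toPerm (MulAut.conj g)) fun D => ?_)
  rw [MulAction.toPerm_apply, Sylow.coe_subgroup_smul, overCard_smul,
    Subgroup.pointwise_smul_le_pointwise_smul_iff]
  refine ⟨fun h => ⟨h.1.smul g, h.2⟩, fun h => ⟨?_, h.2⟩⟩
  have := h.1.smul g⁻¹
  rwa [CfsgLib.Core.conj_smul_conj_smul, inv_mul_cancel, CfsgLib.Core.conj_one_smul] at this

/-- Double counting of incidences of Sylow subgroups and meets. -/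
theorem dvd_card_sylow_mul_meetsAt (P : Sylow p S) (s : ℕ) :
    s ∣ Nat.card (Sylow p S) * Nat.card (MeetsAt P s) := by
  haveI := Fintype.ofFinite (Sylow p S)
  let U := {D : Subgroup S // IsSylMeet p D ∧ overCard p D = s}
  haveI := Fintype.ofFinite U
  have e : Nat.card (Σ Q : Sylow p S, MeetsAt Q s) = Nat.card (Σ D : U, {Q : Sylow p S // D.1 ≤ Q}) :=
    Nat.card_congr
      { toFun := fun z => ⟨⟨z.2.1, z.2.2.1, z.2.2.2.1⟩, z.1, z.2.2.2.2⟩
        invFun := fun z => ⟨z.2.1, z.1.1, z.1.2.1, z.1.2.2, z.2.2⟩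
        left_inv := fun z => rfl
        right_inv := fun z => rfl }
  rw [Nat.card_sigma, Nat.card_sigma, Finset.sum_congr rfl (fun Q _ => card_meetsAt_eq Q P s),
    Finset.sum_const, Finset.card_univ, smul_eq_mul, ← Nat.card_eq_fintype_card] at e
  rw [e]
  refine Finset.dvd_sum fun D _ => ?_
  exact dvd_of_eq D.2.2.symm

/-- The meets at `P` own disjoint sets of neighbours of `P`. -/
theorem meetsAt_mul_le (P : Sylow p S) (s : ℕ) :
    Nat.card (MeetsAt P s) * (s - 1) ≤ Nat.card (Sylow p S) - 1 := by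
  classical
  haveI := Fintype.ofFinite (Sylow p S)
  haveI := Fintype.ofFinite (MeetsAt P s)
  let F : MeetsAt P s → Finset (Sylow p S) := fun D =>
    (Finset.univ.filter fun Q : Sylow p S => D.1 ≤ Q).erase P
  have hF : ∀ D, (F D).card = s - 1 := by
    intro D
    rw [Finset.card_erase_of_mem (by simp [D.2.2.2])]
    have := D.2.2.1
    rw [overCard, Nat.card_eq_fintype_card, Fintype.card_subtype] at this
    rw [this]
  have hdisj : (↑(Finset.univ : Finset (MeetsAt P s)) : Set (MeetsAt P s)).PairwiseDisjoint F := by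
    intro D _ E _ hne
    rw [Function.onFun, Finset.disjoint_left]
    intro Q h1 h2
    simp only [F, Finset.mem_erase, Finset.mem_filter, Finset.mem_univ, true_and] at h1 h2
    exact hne (Subtype.ext ((D.2.1.inf_eq D.2.2.2 h1.2 (Ne.symm h1.1)).1.trans
      (E.2.1.inf_eq E.2.2.2 h2.2 (Ne.symm h2.1)).1.symm))
  have hsub : Finset.univ.biUnion F ⊆ Finset.univ.erase P := by
    intro Q hQ
    obtain ⟨D, -, hD⟩ := Finset.mem_biUnion.1 hQ
    exact Finset.mem_erase.2 ⟨(Finset.mem_erase.1 hD).1, Finset.mem_univ _⟩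
  have h := Finset.card_le_card hsub
  rw [Finset.card_biUnion hdisj, Finset.sum_congr rfl (fun D _ => hF D), Finset.sum_const,
    Finset.card_univ, smul_eq_mul, Finset.card_erase_of_mem (Finset.mem_univ _), Finset.card_univ] at h
  rwa [Nat.card_eq_fintype_card, Nat.card_eq_fintype_card]

/-- The fixed points of `τ` are counted modulo `q` by the common fixed points with a commuting
element of order `q`. -/
theorem fixed_inter_modEq {α : Type*} [Fintype α] [DecidableEq α] {q : ℕ} [Fact q.Prime]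
    (σ τ : Equiv.Perm α) (hc : Commute σ τ) (hσ : σ ^ q = 1) :
    τ.supportᶜ.card ≡ (τ.supportᶜ ∩ σ.supportᶜ).card [MOD q] := by
  have hinv : ∀ x, σ x ∈ τ.supportᶜ ↔ x ∈ τ.supportᶜ := fun x => by
    simp only [Finset.mem_compl, Equiv.Perm.mem_support, not_not]
    rw [← Equiv.Perm.mul_apply, ← hc.eq, Equiv.Perm.mul_apply, σ.injective.eq_iff]
  let σ' : Equiv.Perm {x // x ∈ τ.supportᶜ} := σ.subtypePerm hinv
  have h := Equiv.Perm.card_compl_support_modEq (p := q) (n := 1) (σ := σ') (by
    ext x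
    have := congrArg (fun f : Equiv.Perm α => f x.1) hσ
    simp only [pow_one, σ', Equiv.Perm.subtypePerm_pow, Equiv.Perm.subtypePerm_apply,
      Equiv.Perm.one_apply] at this ⊢
    exact this)
  rw [Fintype.card_coe] at h
  refine h.symm.trans ?_
  have e : σ'.supportᶜ.card = (τ.supportᶜ ∩ σ.supportᶜ).card := by
    refine Finset.card_bij (fun x _ => x.1) (fun x hx => ?_) (fun x _ y _ h => Subtype.ext h)
      (fun x hx => ?_)
    · simp only [Finset.mem_compl, Equiv.Perm.mem_support, not_not, σ', Equiv.Perm.subtypePerm_apply,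
        Subtype.ext_iff] at hx
      exact Finset.mem_inter.2 ⟨x.2, by simp [hx]⟩
    · obtain ⟨h1, h2⟩ := Finset.mem_inter.1 hx
      refine ⟨⟨x, h1⟩, ?_, rfl⟩
      simp only [Finset.mem_compl, Equiv.Perm.mem_support, not_not] at h2
      simp [σ', Subtype.ext_iff, h2]
  rw [e]

end CfsgLib.HallGen
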