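import Mathlib
import Cfsg.Agent.Lib.HallGen.SylowGraph
import Cfsg.Agent.Lib.Char.Burnside

/-!
No finite simple group has exactly 22 Sylow `3`-subgroups.
-/

set_option linter.style.haveILetI false

open scoped Pointwise

namespace CfsgLib.HallGen

open Subgroup

variable {S : Type*} [Group S] [Finite S] [IsSimpleGroup S]

section

variable [Fact (Nat.Prime 3)] (hn : Nat.card (Sylow 3 S) = 22)

include hn

theorem twentyTwo_index (P : Sylow 3 S) :
    (normalizer ((P : Subgroup S) : Set S)).index = 22 := by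
  rw [← hn, P.card_eq_index_normalizer]; rfl

theorem twentyTwo_dvd : 22 ∣ Nat.card S :=
  twentyTwo_index hn default ▸ index_dvd_card _

theorem twentyTwo_not_comm : ¬ IsMulCommutative S :=
  CfsgLib.Perm.not_comm_of_not_prime fun hp => by
    have h2 := (Nat.prime_dvd_prime_iff_eq Nat.prime_two hp).1
      ((show 2 ∣ 22 by norm_num).trans (twentyTwo_dvd hn))
    have h11 := (Nat.prime_dvd_prime_iff_eq (show Nat.Prime 11 by norm_num) hp).1
      ((show 11 ∣ 22 by norm_num).trans (twentyTwo_dvd hn))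
    omega

theorem twentyTwo_not_isPGroup : ¬ IsPGroup 3 S :=
  CfsgLib.Perm.not_isPGroup_of_dvd Nat.prime_two (by norm_num)
    ((show 2 ∣ 22 by norm_num).trans (twentyTwo_dvd hn))

theorem twentyTwo_injective : Function.Injective (MulAction.toPermHom S (Sylow 3 S)) := by
  rw [← MonoidHom.ker_eq_bot_iff]
  refine (MonoidHom.normal_ker _).eq_bot_or_eq_top.resolve_right fun h => ?_
  have h1 := twentyTwo_index hn (default : Sylow 3 S)
  have h2 : normalizer (((default : Sylow 3 S) : Subgroup S) : Set S) = ⊤ := by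
    rw [eq_top_iff]
    intro g _
    have hg : g ∈ (MulAction.toPermHom S (Sylow 3 S)).ker := h ▸ mem_top g
    exact Sylow.smul_eq_iff_mem_normalizer.1 (Equiv.ext_iff.1 hg _)
  rw [h2, index_top] at h1
  omega

theorem twentyTwo_orbit (P R : Sylow 3 S) (hne : P ≠ R) :
    (R : Subgroup S).relIndex P = 3 ∨ (R : Subgroup S).relIndex P = 9 := by
  have hlt := relIndex_lt_card_sylow P R hne
  rw [hn] at hlt
  obtain ⟨a, ha⟩ := IsPGroup.iff_card.1 P.isPGroup'
  have hd : (R : Subgroup S).relIndex P ∣ 3 ^ a := ha ▸ index_dvd_card _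
  obtain ⟨b, -, hb⟩ := (Nat.dvd_prime_pow Nat.prime_three).1 hd
  rw [hb] at hlt ⊢
  have hb3 : b < 3 := by
    by_contra h
    have := Nat.pow_le_pow_right (show 1 ≤ 3 by norm_num) (show 3 ≤ b by omega)
    omega
  interval_cases b
  · rw [pow_zero] at hb
    exact absurd (eq_of_sylow_le (relIndex_eq_one.1 hb)) hne
  · exact Or.inl rfl
  · exact Or.inr rfl

theorem twentyTwo_orbit_card (P R : Sylow 3 S) (hne : P ≠ R) :
    (MulAction.orbit (P : Subgroup S) R).ncard ≤ 9 := by
  have h : (MulAction.stabilizer (P : Subgroup S) R).index =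
      (MulAction.orbit (P : Subgroup S) R).ncard := MulAction.index_stabilizer _ R
  rw [stabilizer_sylow_eq] at h
  rw [← h]
  rcases twentyTwo_orbit hn P R hne with h1 | h1 <;>
  · rw [relIndex] at h1
    omega

theorem twentyTwo_large_prime (P : Sylow 3 S) {q : ℕ} (hq : q.Prime) (hq11 : 11 ≤ q) :
    ¬ q ∣ Nat.card (normalizer ((P : Subgroup S) : Set S)) := by
  classical
  intro hd
  haveI := Fact.mk hq
  obtain ⟨⟨y, hy⟩, hyo⟩ := exists_prime_orderOf_dvd_card' q hd
  rw [Subgroup.orderOf_mk] at hyo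
  have hne1 : y ≠ 1 := fun h => hq.one_lt.ne (by rw [← hyo, h, orderOf_one])
  apply hne1
  apply twentyTwo_injective hn
  rw [map_one]
  ext1 R
  change y • R = R
  by_contra hR
  have hPR : P ≠ R := by
    rintro rfl
    exact hR (Sylow.smul_eq_iff_mem_normalizer.2 hy)
  -- the orbit of `R` under `y` has `q` elements
  have hYq : (MulAction.orbit (Subgroup.zpowers y) R).ncard = q := by
    rw [← MulAction.index_stabilizer]
    refine ((hq.eq_one_or_self_of_dvd _ ?_).resolve_left fun h => ?_)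
    · rw [← hyo, ← Nat.card_zpowers]; exact index_dvd_card _
    · rw [index_eq_one] at h
      have : (⟨y, mem_zpowers y⟩ : Subgroup.zpowers y) ∈ MulAction.stabilizer (Subgroup.zpowers y) R :=
        h ▸ mem_top _
      exact hR this
  have hfix : ∀ w ∈ Subgroup.zpowers y, (w • P : Sylow 3 S) = P := fun w hw =>
    Sylow.smul_eq_iff_mem_normalizer.2 ((zpowers_le.2 hy) hw)
  -- the `P`-orbits along it have at least three elements each
  have hsmul : ∀ w ∈ Subgroup.zpowers y, ∀ A ∈ MulAction.orbit (P : Subgroup S) R,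
      w • A ∈ MulAction.orbit (P : Subgroup S) (w • R) := by
    rintro w hw A ⟨⟨x, hx⟩, rfl⟩
    have hwN : w ∈ normalizer ((P : Subgroup S) : Set S) := (zpowers_le.2 hy) hw
    refine ⟨⟨w * x * w⁻¹, (mem_normalizer_iff.1 hwN x).1 hx⟩, ?_⟩
    change (w * x * w⁻¹) • w • R = w • x • R
    rw [← mul_smul, ← mul_smul, inv_mul_cancel_right]
  by_cases hmeet : ∃ w ∈ Subgroup.zpowers y, w • R ≠ R ∧ w • R ∈ MulAction.orbit (P : Subgroup S) R
  · -- then `y` preserves the orbit
    obtain ⟨w, hw, hwR, hwO⟩ := hmeet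
    have hpres : ∀ A ∈ MulAction.orbit (P : Subgroup S) R, w • A ∈ MulAction.orbit (P : Subgroup S) R := by
      intro A hA
      rw [← MulAction.orbit_eq_iff.2 hwO]
      exact hsmul w hw A hA
    have hall : ∀ i : ℕ, w ^ i • R ∈ MulAction.orbit (P : Subgroup S) R := by
      intro i
      induction i with
      | zero => rw [pow_zero, one_smul]; exact MulAction.mem_orbit_self R
      | succ i ih => rw [pow_succ', mul_smul]; exact hpres _ ih
    have hgen : Subgroup.zpowers w = Subgroup.zpowers y := by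
      refine eq_of_le_of_card_ge (zpowers_le.2 hw) ?_
      rw [Nat.card_zpowers, Nat.card_zpowers, hyo]
      refine ((hq.eq_one_or_self_of_dvd _ (hyo ▸ orderOf_dvd_of_mem_zpowers hw)).resolve_left ?_).ge
      intro h
      rw [orderOf_eq_one_iff] at h
      exact hwR (by rw [h, one_smul])
    have hsub : MulAction.orbit (Subgroup.zpowers y) R ⊆ MulAction.orbit (P : Subgroup S) R := by
      rintro _ ⟨⟨v, hv⟩, rfl⟩
      rw [← hgen] at hv
      obtain ⟨i, rfl⟩ := ((isOfFinOrder_of_finite w).mem_powers_iff_mem_zpowers.2 hv)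
      exact hall i
    have h1 := Set.ncard_le_ncard hsub (Set.toFinite _)
    have h2 := twentyTwo_orbit_card hn P R hPR
    omega
  · push Not at hmeet
    -- distinct points of the `y`-orbit give disjoint `P`-orbits
    haveI := Fintype.ofFinite (Sylow 3 S)
    let Y : Finset (Sylow 3 S) := (MulAction.orbit (Subgroup.zpowers y) R).toFinite.toFinset
    let F : Sylow 3 S → Finset (Sylow 3 S) := fun A => (MulAction.orbit (P : Subgroup S) A).toFinite.toFinset
    have hY : Y.card = q := by rw [← hYq, Set.ncard_eq_toFinset_card _ _]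
    have h3 : ∀ A ∈ Y, 3 ≤ (F A).card := by
      intro A hA
      have hA' : A ∈ MulAction.orbit (Subgroup.zpowers y) R := (Set.Finite.mem_toFinset _).1 hA
      obtain ⟨⟨w, hw⟩, rfl⟩ := hA'
      change 3 ≤ (F (w • R)).card
      have hne : P ≠ w • R := fun h => hPR (by
        rw [← hfix w hw] at h
        exact smul_left_cancel w h)
      rw [← Set.ncard_eq_toFinset_card _ _, ← MulAction.index_stabilizer, stabilizer_sylow_eq]
      rcases twentyTwo_orbit hn P (w • R) hne with h1 | h1 <;>
      · rw [relIndex] at h1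
        omega
    have hdisj : (↑Y : Set (Sylow 3 S)).PairwiseDisjoint F := by
      intro A hA B hB hAB
      rw [Finset.mem_coe] at hA hB
      obtain ⟨⟨v, hv⟩, rfl⟩ := (Set.Finite.mem_toFinset _).1 hA
      obtain ⟨⟨u, hu⟩, rfl⟩ := (Set.Finite.mem_toFinset _).1 hB
      rw [Function.onFun, Finset.disjoint_left]
      intro C h1 h2
      apply hAB
      change v • R = u • R
      have h1' : C ∈ MulAction.orbit (P : Subgroup S) (v • R) := (Set.Finite.mem_toFinset _).1 h1
      have h2' : C ∈ MulAction.orbit (P : Subgroup S) (u • R) := (Set.Finite.mem_toFinset _).1 h2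
      have h3' : u • R ∈ MulAction.orbit (P : Subgroup S) (v • R) := by
        rw [← MulAction.orbit_eq_iff.2 h1', MulAction.orbit_eq_iff.2 h2']
        exact MulAction.mem_orbit_self _
      obtain ⟨⟨x, hx⟩, hxe⟩ := h3'
      change x • v • R = u • R at hxe
      by_contra hne
      refine hmeet (v⁻¹ * u) (mul_mem (inv_mem hv) hu) ?_ ?_
      · intro h
        rw [mul_smul, inv_smul_eq_iff] at h
        exact hne h.symm
      · have hvN : v⁻¹ ∈ normalizer ((P : Subgroup S) : Set S) := inv_mem ((zpowers_le.2 hy) hv)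
        refine ⟨⟨v⁻¹ * x * v⁻¹⁻¹, (mem_normalizer_iff.1 hvN x).1 hx⟩, ?_⟩
        change (v⁻¹ * x * v⁻¹⁻¹) • R = (v⁻¹ * u) • R
        rw [inv_inv, mul_smul, mul_smul, hxe, mul_smul]
    have hle := Finset.card_le_univ (Y.biUnion F)
    rw [Finset.card_biUnion hdisj, ← Nat.card_eq_fintype_card, hn] at hle
    have h4 := Finset.sum_le_sum h3
    rw [Finset.sum_const, hY, smul_eq_mul] at h4
    omega

theorem twentyTwo_sylow_card : ∀ P : Sylow 3 S, Nat.card (P : Subgroup S) = 3 := by
  classical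
  haveI := Fintype.ofFinite (Sylow 3 S)
  intro P0
  by_contra hP0
  -- no meet lies in all Sylow subgroups
  have h22 : ∀ D : Subgroup S, IsSylMeet 3 D → overCard 3 D ≠ 22 := by
    intro D hD h
    have hall : ∀ Q : Sylow 3 S, D ≤ Q := by
      intro Q
      have hbij := (Nat.bijective_iff_injective_and_card
        (Subtype.val : {Q : Sylow 3 S // D ≤ Q} → Sylow 3 S)).2 ⟨Subtype.val_injective, by rw [← overCard, h, hn]⟩
      obtain ⟨⟨Q', hQ'⟩, rfl⟩ := hbij.2 Q
      exact hQ'
    have hcore : D ≤ Cfsg.pCore 3 S := fun d hd => mem_pCore_of_forall_sylow 3 d fun Q => hall Q hd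
    rcases (pCore_normal' (G := S) 3).eq_bot_or_eq_top with hb | ht
    · rw [hb, le_bot_iff] at hcore
      have h1 := hD.card_mul P0
      rw [hcore, Subgroup.card_bot, one_mul] at h1
      exact hP0 h1.symm
    · exact twentyTwo_not_isPGroup hn
        ((isPGroup_pCore (G := S) 3).of_equiv ((MulEquiv.subgroupCongr ht).trans Subgroup.topEquiv))
  have hover4 : ∀ D : Subgroup S, IsSylMeet 3 D → overCard 3 D = 4 := by
    intro D hD
    have hmod : overCard 3 D % 3 = 1 % 3 := hD.overCard_modEq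
    have hge := hD.two_le_overCard
    have hle : overCard 3 D ≤ 22 := hn ▸ Nat.card_le_card_of_injective _ Subtype.val_injective
    obtain ⟨P, R, hadj, hDe⟩ := id hD
    haveI : Nonempty (MeetsAt P (overCard 3 D)) := ⟨⟨D, hD, rfl, hDe ▸ inf_le_left⟩⟩
    have hpos : 0 < Nat.card (MeetsAt P (overCard 3 D)) := Nat.card_pos
    have h1 := meetsAt_mul_le P (overCard 3 D)
    have h2 := dvd_card_sylow_mul_meetsAt P (overCard 3 D)
    have h3 := h22 D hD
    rw [hn] at h1 h2
    generalize Nat.card (MeetsAt P (overCard 3 D)) = m at hpos h1 h2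
    generalize overCard 3 D = s at hmod hge hle h1 h2 h3 ⊢
    have hs : s = 4 ∨ s = 7 ∨ s = 10 ∨ s = 13 ∨ s = 16 ∨ s = 19 := by omega
    obtain ⟨c, hc⟩ := h2
    rcases hs with rfl | rfl | rfl | rfl | rfl | rfl <;> omega
  let Γ : Sylow 3 S → Finset (Sylow 3 S) := fun P => Finset.univ.filter fun R => SylAdj P R
  have hΓmem : ∀ P R, R ∈ Γ P ↔ SylAdj P R := fun P R => by simp [Γ]
  have hΓ3 : ∀ P, (Γ P).card = Nat.card (MeetsAt P 4) * 3 := by
    intro P
    haveI := Fintype.ofFinite (MeetsAt P 4)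
    let F : MeetsAt P 4 → Finset (Sylow 3 S) := fun D =>
      (Finset.univ.filter fun Q : Sylow 3 S => D.1 ≤ Q).erase P
    have hF : ∀ D, (F D).card = 3 := by
      intro D
      rw [Finset.card_erase_of_mem (by simp [D.2.2.2])]
      have := D.2.2.1
      rw [overCard, Nat.card_eq_fintype_card, Fintype.card_subtype] at this
      rw [this]
    have e : Γ P = Finset.univ.biUnion F := by
      ext Q
      rw [hΓmem, Finset.mem_biUnion]
      constructor
      · intro h
        exact ⟨⟨_, h.isSylMeet, hover4 _ h.isSylMeet, inf_le_left⟩, Finset.mem_univ _,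
          Finset.mem_erase.2 ⟨h.ne.symm, Finset.mem_filter.2 ⟨Finset.mem_univ _, inf_le_right⟩⟩⟩
      · rintro ⟨D, -, hD⟩
        obtain ⟨h1, h2⟩ := Finset.mem_erase.1 hD
        exact (D.2.1.inf_eq D.2.2.2 (Finset.mem_filter.1 h2).2 (Ne.symm h1)).2
    have hdisj : (↑(Finset.univ : Finset (MeetsAt P 4)) : Set (MeetsAt P 4)).PairwiseDisjoint F := by
      intro D _ E _ hne
      rw [Function.onFun, Finset.disjoint_left]
      intro Q h1 h2
      simp only [F, Finset.mem_erase, Finset.mem_filter, Finset.mem_univ, true_and] at h1 h2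
      exact hne (Subtype.ext ((D.2.1.inf_eq D.2.2.2 h1.2 (Ne.symm h1.1)).1.trans
        (E.2.1.inf_eq E.2.2.2 h2.2 (Ne.symm h2.1)).1.symm))
    rw [e, Finset.card_biUnion hdisj, Finset.sum_congr rfl (fun D _ => hF D), Finset.sum_const,
      Finset.card_univ, smul_eq_mul, Nat.card_eq_fintype_card]
  -- the other Sylow subgroups fall into orbits of size 9
  let Δ : Sylow 3 S → Finset (Sylow 3 S) := fun P => (Finset.univ.erase P).filter fun R => ¬ SylAdj P R
  have hsum : ∀ P, (Γ P).card + (Δ P).card = 21 := by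
    intro P
    have e : Γ P = (Finset.univ.erase P).filter fun R => SylAdj P R := by
      ext R
      simp only [hΓmem, Finset.mem_filter, Finset.mem_erase, Finset.mem_univ, and_true]
      exact ⟨fun h => ⟨h.ne.symm, h⟩, fun h => h.2⟩
    rw [e, Finset.card_filter_add_card_filter_not, Finset.card_erase_of_mem (Finset.mem_univ _),
      Finset.card_univ, ← Nat.card_eq_fintype_card, hn]
  have hΔ9 : ∀ P, 9 ∣ (Δ P).card := by
    intro P
    let o : Sylow 3 S → Set (Sylow 3 S) := fun R => MulAction.orbit (P : Subgroup S) R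
    have horb : ∀ R ∈ Δ P, ∀ Q ∈ o R, Q ∈ Δ P := by
      rintro R hR Q ⟨⟨x, hx⟩, rfl⟩
      simp only [Δ, Finset.mem_filter, Finset.mem_erase, Finset.mem_univ, and_true] at hR ⊢
      change x • R ≠ P ∧ ¬ SylAdj P (x • R)
      have hxP : x • P = P := Sylow.smul_eq_iff_mem_normalizer.2 (le_normalizer hx)
      refine ⟨fun h => hR.1 (smul_left_cancel x (h.trans hxP.symm)), fun h => hR.2 ?_⟩
      rw [SylAdj, ← hxP, Sylow.coe_subgroup_smul, Sylow.coe_subgroup_smul] at h
      exact (relIndex_map_map_of_injective _ _ (MulAut.conj x).injective).symm.trans h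
    rw [Finset.card_eq_sum_card_image o (Δ P)]
    refine Finset.dvd_sum fun U hU => ?_
    obtain ⟨R, hR, rfl⟩ := Finset.mem_image.1 hU
    have e : ((Δ P).filter fun Q => o Q = o R) = (o R).toFinite.toFinset := by
      ext Q
      rw [Set.Finite.mem_toFinset, Finset.mem_filter]
      exact ⟨fun h => h.2 ▸ MulAction.mem_orbit_self Q,
        fun h => ⟨horb R hR Q h, MulAction.orbit_eq_iff.2 h⟩⟩
    rw [e, ← Set.ncard_eq_toFinset_card _ _, ← MulAction.index_stabilizer, stabilizer_sylow_eq]
    simp only [Δ, Finset.mem_filter, Finset.mem_erase, Finset.mem_univ, and_true] at hR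
    rcases twentyTwo_orbit hn P R (Ne.symm hR.1) with h1 | h1
    · exact absurd h1 hR.2
    · exact dvd_of_eq h1.symm
  have heven : ∀ P : Sylow 3 S, Even (Nat.card (MeetsAt P 4)) := by
    intro P
    have := dvd_card_sylow_mul_meetsAt P 4
    rw [hn] at this
    obtain ⟨c, hc⟩ := this
    rw [even_iff_two_dvd]
    omega
  have hΓ12 : ∀ P, (Γ P).card = 12 ∧ (Δ P).card = 9 := by
    intro P
    have h1 := hΓ3 P
    have h2 := hsum P
    obtain ⟨c, hc⟩ := hΔ9 P
    obtain ⟨d, hd⟩ := heven P
    omega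
  -- a common neighbour lies on the common line
  have hline : ∀ P R Q : Sylow 3 S, SylAdj P R → SylAdj R Q → SylAdj P Q →
      (P : Subgroup S) ⊓ R ≤ Q := by
    intro P R Q hPR hRQ hPQ
    by_contra hDQ
    obtain ⟨x, hxD, hxQ⟩ := SetLike.not_le_iff_exists.1 hDQ
    have hEx : (R : Subgroup S) ⊓ Q ≤ (x • Q : Sylow 3 S) :=
      hRQ.isSylMeet.le_smul inf_le_left inf_le_right hxD.2
    have hFx : (P : Subgroup S) ⊓ Q ≤ (x • Q : Sylow 3 S) :=
      hPQ.isSylMeet.le_smul inf_le_left inf_le_right hxD.1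
    have hne : Q ≠ x • Q := by
      intro h
      have hxN : x ∈ normalizer ((Q : Subgroup S) : Set S) := Sylow.smul_eq_iff_mem_normalizer.1 h.symm
      have h2 : (P : Subgroup S) ⊓ normalizer ((Q : Subgroup S) : Set S) = (P : Subgroup S) ⊓ Q :=
        P.isPGroup'.inf_normalizer_sylow Q
      exact hxQ (h2.le ⟨hxD.1, hxN⟩).2
    have hEF : (R : Subgroup S) ⊓ Q = (P : Subgroup S) ⊓ Q :=
      (hRQ.isSylMeet.inf_eq inf_le_right hEx hne).1.trans (hPQ.isSylMeet.inf_eq inf_le_right hFx hne).1.symm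
    have hFD : (P : Subgroup S) ⊓ Q ≤ (P : Subgroup S) ⊓ R := le_inf inf_le_left (hEF ▸ inf_le_left)
    exact hDQ ((hPQ.isSylMeet.eq_of_le hPR.isSylMeet hFD).ge.trans inf_le_right)
  have hkey : ∀ P R, SylAdj P R → ∀ Q ∈ Δ P, SylAdj R Q := by
    intro P R hPR Q hQ
    let L : Finset (Sylow 3 S) := Finset.univ.filter fun Q : Sylow 3 S => (P : Subgroup S) ⊓ R ≤ Q
    have hL : L.card = 4 := by
      have := hover4 _ hPR.isSylMeet
      rwa [overCard, Nat.card_eq_fintype_card, Fintype.card_subtype] at this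
    have hsub : Γ R \ L ⊆ Δ P := by
      intro A hA
      obtain ⟨hA1, hA2⟩ := Finset.mem_sdiff.1 hA
      rw [hΓmem] at hA1
      simp only [L, Finset.mem_filter, Finset.mem_univ, true_and] at hA2
      simp only [Δ, Finset.mem_filter, Finset.mem_erase, Finset.mem_univ, and_true]
      exact ⟨fun h => hA2 (h.symm ▸ inf_le_left), fun h => hA2 (hline P R A hPR hA1 h)⟩
    have hcard : (Δ P).card ≤ (Γ R \ L).card := by
      rw [(hΓ12 P).2, Finset.card_sdiff]
      have hi : (L ∩ Γ R).card ≤ 3 := by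
        have h1 : L ∩ Γ R ⊆ L.erase R := fun A hA => Finset.mem_erase.2
          ⟨fun h => by
            have := (hΓmem R A).1 (Finset.mem_inter.1 hA).2
            exact this.ne h.symm, (Finset.mem_inter.1 hA).1⟩
        refine (Finset.card_le_card h1).trans ?_
        rw [Finset.card_erase_of_mem (by simp [L]), hL]
      have := (hΓ12 R).1
      omega
    have := Finset.eq_of_subset_of_card_le hsub hcard
    rw [← this] at hQ
    exact (hΓmem R Q).1 (Finset.mem_sdiff.1 hQ).1
  have hΓeq : ∀ P, ∀ Q ∈ Δ P, Γ P = Γ Q := fun P Q hQ => Finset.eq_of_subset_of_card_le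
    (fun R hR => (hΓmem Q R).2 (hkey P R ((hΓmem P R).1 hR) Q hQ).symm)
    (by rw [(hΓ12 P).1, (hΓ12 Q).1])
  have hclass : ∀ P, (Finset.univ.filter fun Q => Γ Q = Γ P).card = 10 := by
    intro P
    have e : (Finset.univ.filter fun Q => Γ Q = Γ P) = insert P (Δ P) := by
      ext Q
      simp only [Finset.mem_filter, Finset.mem_univ, true_and, Finset.mem_insert]
      refine ⟨fun h => ?_, fun h => ?_⟩
      · by_cases hQP : Q = P
        · exact Or.inl hQP
        refine Or.inr (Finset.mem_filter.2 ⟨Finset.mem_erase.2 ⟨hQP, Finset.mem_univ _⟩, fun hadj => ?_⟩)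
        have : Q ∈ Γ Q := h.symm ▸ (hΓmem P Q).2 hadj
        exact ((hΓmem Q Q).1 this).ne rfl
      · rcases h with rfl | h
        · rfl
        · exact (hΓeq P Q h).symm
    rw [e, Finset.card_insert_of_notMem (by simp [Δ]), (hΓ12 P).2]
  have h10 := Finset.card_eq_sum_card_image Γ (Finset.univ : Finset (Sylow 3 S))
  rw [Finset.card_univ, ← Nat.card_eq_fintype_card, hn] at h10
  have : 10 ∣ (22 : ℕ) := by
    rw [h10]
    refine Finset.dvd_sum fun U hU => ?_
    obtain ⟨R, -, rfl⟩ := Finset.mem_image.1 hU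
    rw [hclass R]
  norm_num at this

/-- Fixed points of a nontrivial element of a Sylow `3`-subgroup of order `3`. -/
theorem twentyTwo_fixed (hcard : ∀ P : Sylow 3 S, Nat.card (P : Subgroup S) = 3) (P : Sylow 3 S)
    {z : S} (hz : z ∈ (P : Subgroup S)) (hz1 : z ≠ 1) (R : Sylow 3 S) (hR : z • R = R) : R = P := by
  by_contra hne
  have h := Sylow.smul_eq_iff_mem_normalizer.1 hR
  have h2 : (P : Subgroup S) ⊓ normalizer ((R : Subgroup S) : Set S) = (P : Subgroup S) ⊓ R :=
    P.isPGroup'.inf_normalizer_sylow R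
  have hzR : z ∈ (R : Subgroup S) := (h2.le ⟨hz, h⟩).2
  rcases twentyTwo_orbit hn P R (Ne.symm hne) with h1 | h1 <;>
  · have h3 := card_inf_mul_relIndex P R
    rw [h1, hcard] at h3
    haveI : Nontrivial ((P : Subgroup S) ⊓ R : Subgroup S) :=
      ⟨⟨⟨z, hz, hzR⟩, 1, fun e => hz1 (congrArg Subtype.val e)⟩⟩
    have := Finite.one_lt_card (α := ((P : Subgroup S) ⊓ R : Subgroup S))
    omega

end

end CfsgLib.HallGen
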