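import Mathlib
import Cfsg.Agent.Lib.HallGen.SimpleTwentyTwo

/-!
No finite simple group has exactly 22 Sylow `3`-subgroups: the case of Sylow subgroups of order `3`.
-/

set_option linter.style.haveILetI false
set_option maxHeartbeats 800000

open scoped Pointwise

namespace CfsgLib.HallGen

open Subgroup

/-- An element of order `q` normalising a Sylow subgroup of order three centralises it, for odd `q`. -/
theorem mem_centralizer_of_odd {S : Type*} [Group S] [Finite S] {A : Subgroup S} {m : ℕ}
    (hA : Nat.card A = m) (hm : m.Prime) {g : S} (hg : g ∈ normalizer (A : Set S))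
    (hco : (orderOf g).Coprime (m - 1)) : g ∈ centralizer (A : Set S) := by
  haveI : Fact m.Prime := ⟨hm⟩
  haveI : IsCyclic A := isCyclic_of_prime_card hA
  have h1 : orderOf (Subgroup.normalizerMonoidHom A ⟨g, hg⟩) = 1 := by
    refine Nat.eq_one_of_dvd_coprimes hco ((orderOf_map_dvd _ _).trans (by rw [Subgroup.orderOf_mk])) ?_
    refine (_root_.orderOf_dvd_natCard _).trans ?_
    rw [IsCyclic.card_mulAut, hA, Nat.totient_prime hm]
  rw [orderOf_eq_one_iff] at h1
  have hk : (⟨g, hg⟩ : normalizer (A : Set S)) ∈ (Subgroup.normalizerMonoidHom A).ker := h1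
  rw [Subgroup.normalizerMonoidHom_ker] at hk
  exact hk

variable {S : Type*} [Group S] [Finite S] [IsSimpleGroup S]

/-- A finite simple group does not have 22 Sylow `3`-subgroups. -/
theorem card_sylow_three_ne_twentyTwo [Fact (Nat.Prime 3)] : Nat.card (Sylow 3 S) ≠ 22 := by
  classical
  intro hn
  haveI := Fintype.ofFinite (Sylow 3 S)
  haveI h7 : Fact (Nat.Prime 7) := ⟨by norm_num⟩
  haveI h5 : Fact (Nat.Prime 5) := ⟨by norm_num⟩
  haveI h11 : Fact (Nat.Prime 11) := ⟨by norm_num⟩
  haveI h2 : Fact (Nat.Prime 2) := ⟨Nat.prime_two⟩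
  have hcard := twentyTwo_sylow_card hn
  let φ := MulAction.toPermHom S (Sylow 3 S)
  have hφ : Function.Injective φ := twentyTwo_injective hn
  let Fix : S → Finset (Sylow 3 S) := fun g => (φ g).supportᶜ
  have memFix : ∀ g R, R ∈ Fix g ↔ g • R = R := fun g R => by simp [Fix, φ]
  have hΩ : Fintype.card (Sylow 3 S) = 22 := by rw [← Nat.card_eq_fintype_card, hn]
  have fixEq1 : ∀ g, (Fix g).card = 22 → g = 1 := by
    intro g h
    apply hφ
    rw [map_one]
    ext1 R
    have : Fix g = Finset.univ := Finset.eq_univ_of_card _ (h.trans hΩ.symm)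
    exact (memFix g R).1 (this ▸ Finset.mem_univ R)
  have fixLe : ∀ g, (Fix g).card ≤ 22 := fun g => hΩ ▸ Finset.card_le_univ _
  have fixPrime : ∀ g, ∀ q : ℕ, q.Prime → g ^ q = 1 → 22 ≡ (Fix g).card [MOD q] := by
    intro g q hq hg
    haveI := Fact.mk hq
    have := fixed_inter_modEq (φ g) 1 (Commute.one_right _) (by rw [← map_pow, hg, map_one]) (q := q)
    simpa [Fix, hΩ] using this
  have fixComm : ∀ a b : S, ∀ q : ℕ, q.Prime → a ^ q = 1 → Commute a b →
      (Fix b).card ≡ (Fix b ∩ Fix a).card [MOD q] := by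
    intro a b q hq ha hab
    haveI := Fact.mk hq
    exact fixed_inter_modEq (φ a) (φ b) (hab.map φ) (by rw [← map_pow, ha, map_one])
  -- elements centralising a Sylow 3-subgroup
  have fixThree : ∀ (P : Sylow 3 S) (y : S), y ∈ centralizer ((P : Subgroup S) : Set S) →
      (Fix y).card % 3 = 1 := by
    intro P y hy
    obtain ⟨⟨z, hz⟩, hzo⟩ := exists_prime_orderOf_dvd_card' (G := (P : Subgroup S)) 3 (by rw [hcard P])
    rw [Subgroup.orderOf_mk] at hzo
    have hz1 : z ≠ 1 := fun h => by rw [h, orderOf_one] at hzo; norm_num at hzo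
    have h := fixComm z y 3 Nat.prime_three (hzo ▸ pow_orderOf_eq_one z) (mem_centralizer_iff.1 hy z hz)
    have e : Fix y ∩ Fix z = {P} := by
      ext R
      rw [Finset.mem_inter, memFix, memFix, Finset.mem_singleton]
      refine ⟨fun h => twentyTwo_fixed hn hcard P hz hz1 R h.2, ?_⟩
      rintro rfl
      exact ⟨Sylow.smul_eq_iff_mem_normalizer.2 (centralizer_le_normalizer _ hy),
        Sylow.smul_eq_iff_mem_normalizer.2 (le_normalizer hz)⟩
    rw [e, Finset.card_singleton] at h
    exact h
  -- elements of order 7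
  have seven : ∀ h : S, orderOf h = 7 → ∃ Q, Fix h = {Q} := by
    intro h ho
    have hm : 22 % 7 = (Fix h).card % 7 :=
      fixPrime h 7 (by norm_num) (ho ▸ pow_orderOf_eq_one h)
    obtain ⟨Q, hQ⟩ : (Fix h).Nonempty := Finset.card_pos.1 (by omega)
    have hQC : h ∈ centralizer ((Q : Subgroup S) : Set S) :=
      mem_centralizer_of_odd (hcard Q) Nat.prime_three
        (Sylow.smul_eq_iff_mem_normalizer.1 ((memFix h Q).1 hQ)) (by rw [ho]; norm_num)
    have h3 := fixThree Q h hQC
    have hne : (Fix h).card ≠ 22 := fun e => by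
      rw [fixEq1 h e, orderOf_one] at ho; norm_num at ho
    have hle := fixLe h
    exact Finset.card_eq_one.1 (by omega)
  let P : Sylow 3 S := default
  set N := normalizer ((P : Subgroup S) : Set S) with hNdef
  set C := centralizer ((P : Subgroup S) : Set S) with hCdef
  have hCN : C ≤ N := centralizer_le_normalizer _
  have hPC : (P : Subgroup S) ≤ C := by
    haveI : IsCyclic (P : Subgroup S) := isCyclic_of_prime_card (hcard P)
    intro x hx
    rw [hCdef, mem_centralizer_iff]
    intro u hu
    obtain ⟨w, hw⟩ := IsCyclic.exists_generator (α := (P : Subgroup S))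
    obtain ⟨i, hi⟩ := mem_zpowers_iff.1 (hw ⟨x, hx⟩)
    obtain ⟨j, hj⟩ := mem_zpowers_iff.1 (hw ⟨u, hu⟩)
    have := congrArg Subtype.val (show (⟨u, hu⟩ : (P : Subgroup S)) * ⟨x, hx⟩ = ⟨x, hx⟩ * ⟨u, hu⟩ by
      rw [← hi, ← hj, ← zpow_add, ← zpow_add, add_comm])
    exact this
  have hSN : Nat.card S = 22 * Nat.card N := by
    rw [← twentyTwo_index hn P, index_mul_card]
  -- the index of C in N
  have hidx : Nat.card N = 2 * Nat.card C := by
    have hker : (Subgroup.normalizerMonoidHom (P : Subgroup S)).ker = C.subgroupOf N :=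
      Subgroup.normalizerMonoidHom_ker _
    haveI : IsCyclic (P : Subgroup S) := isCyclic_of_prime_card (hcard P)
    have h1 : (C.subgroupOf N).index ∣ 2 := by
      rw [← hker, Subgroup.index_ker]
      refine (card_subgroup_dvd_card _).trans ?_
      rw [IsCyclic.card_mulAut, hcard P, Nat.totient_prime Nat.prime_three]
    have h2' : (C.subgroupOf N).index ≠ 1 := fun h =>
      CfsgLib.Perm.not_normalizer_le_centralizer P (hcard P ▸ card_subgroup_dvd_card _)
        (twentyTwo_not_isPGroup hn) (subgroupOf_eq_top.1 (index_eq_one.1 h))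
    have h3 := (Nat.prime_two.eq_one_or_self_of_dvd _ h1).resolve_left h2'
    have h4 := (C.subgroupOf N).card_mul_index
    rw [Nat.card_congr (subgroupOfEquivOfLe hCN).toEquiv, h3] at h4
    omega
  obtain ⟨k, hk⟩ : 3 ∣ Nat.card C := hcard P ▸ card_dvd_of_le hPC
  have hS : Nat.card S = 132 * k := by omega
  have hk3 : ¬ 3 ∣ k := by
    rintro ⟨c, rfl⟩
    refine P.not_dvd_index ?_
    have := (P : Subgroup S).card_mul_index
    rw [hcard P, hS] at this
    exact ⟨44 * c, by omega⟩
  have hN11 : ¬ 11 ∣ Nat.card N := twentyTwo_large_prime hn P (by norm_num) le_rfl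
  -- the action on the orbits of P
  let Y := Quotient (MulAction.orbitRel (P : Subgroup S) (Sylow 3 S))
  haveI : Fintype Y := Fintype.ofFinite Y
  obtain ⟨⟨z, hz⟩, hzo⟩ := exists_prime_orderOf_dvd_card' (G := (P : Subgroup S)) 3 (by rw [hcard P])
  rw [Subgroup.orderOf_mk] at hzo
  have hfixP : ∀ u : (P : Subgroup S), u ≠ 1 → ∀ R : Sylow 3 S, u • R = R → R = P := fun u hu R hR =>
    twentyTwo_fixed hn hcard P u.2 (fun e => hu (Subtype.ext e)) R hR
  have hY : Nat.card Y = 8 := by
    haveI := Fintype.ofFinite (P : Subgroup S)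
    have h := MulAction.sum_card_fixedBy_eq_card_orbits_mul_card_group (P : Subgroup S) (Sylow 3 S)
    have hc3 : Fintype.card (P : Subgroup S) = 3 := by rw [← Nat.card_eq_fintype_card, hcard P]
    rw [hc3, ← Finset.sum_erase_add _ _ (Finset.mem_univ (1 : (P : Subgroup S)))] at h
    have e1 : Fintype.card (MulAction.fixedBy (Sylow 3 S) (1 : (P : Subgroup S))) = 22 := by
      rw [← hn, ← Nat.card_eq_fintype_card]
      exact Nat.card_congr (Equiv.subtypeUnivEquiv fun R => by simp)
    have e2 : ∀ u ∈ (Finset.univ.erase (1 : (P : Subgroup S))),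
        Fintype.card (MulAction.fixedBy (Sylow 3 S) u) = 1 := by
      intro u hu
      rw [Fintype.card_eq_one_iff]
      refine ⟨⟨P, ?_⟩, fun R => Subtype.ext (hfixP u (Finset.mem_erase.1 hu).1 R.1 R.2)⟩
      exact Sylow.smul_eq_iff_mem_normalizer.2 (le_normalizer u.2)
    rw [Finset.sum_congr rfl e2, e1, Finset.sum_const, Finset.card_erase_of_mem (Finset.mem_univ _),
      Finset.card_univ, hc3, smul_eq_mul] at h
    change _ = Fintype.card Y * 3 at h
    rw [Nat.card_eq_fintype_card]
    omega
  have hwell : ∀ y : C, ∀ A B : Sylow 3 S, (MulAction.orbitRel (P : Subgroup S) (Sylow 3 S)) A B →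
      (MulAction.orbitRel (P : Subgroup S) (Sylow 3 S)) ((y : S) • A) ((y : S) • B) := by
    rintro ⟨y, hy⟩ A B ⟨⟨u, hu⟩, rfl⟩
    refine ⟨⟨u, hu⟩, ?_⟩
    change u • y • B = y • u • B
    rw [← mul_smul, ← mul_smul, mem_centralizer_iff.1 hy u hu]
  let mp : C → Y → Y := fun y => Quotient.map' (fun A => (y : S) • A) (hwell y)
  letI actY : MulAction C Y :=
    { smul := mp
      one_smul := fun a => by
        induction a using Quotient.inductionOn' with | _ A => ?_
        change Quotient.mk'' (((1 : C) : S) • A) = _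
        rw [Subgroup.coe_one, one_smul]
      mul_smul := fun a b c => by
        induction c using Quotient.inductionOn' with | _ A => ?_
        change Quotient.mk'' (((a * b : C) : S) • A) = Quotient.mk'' ((a : S) • (b : S) • A)
        rw [Subgroup.coe_mul, mul_smul] }
  let mk : Sylow 3 S → Y := Quotient.mk''
  have hsmulY : ∀ (y : C) A, y • mk A = mk ((y : S) • A) := fun y A => rfl
  let ψ : C →* Equiv.Perm Y := MulAction.toPermHom C Y
  have hCP : ∀ y : C, (y : S) • P = P := fun y =>
    Sylow.smul_eq_iff_mem_normalizer.2 (hCN y.2)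
  have hkerψ : Nat.card ψ.ker = 3 := by
    have hle : ψ.ker.map C.subtype = (P : Subgroup S) := by
      refine le_antisymm ?_ ?_
      · have hp3 : IsPGroup 3 ψ.ker := by
          rw [IsPGroup.iff_orderOf]
          rintro ⟨y, hy⟩
          have hy3 : (y : S) ^ 3 = 1 := by
            apply hφ
            rw [map_one]
            ext1 R
            change ((y : S) ^ 3) • R = R
            obtain ⟨⟨u, hu⟩, hur⟩ : (y : S) • R ∈ MulAction.orbit (P : Subgroup S) R := by
              have := Equiv.ext_iff.1 (MonoidHom.mem_ker.1 hy) (mk R)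
              exact Quotient.exact' this
            change u • R = (y : S) • R at hur
            have hu3 : u ^ 3 = 1 := by
              have h := pow_card_eq_one' (x := (⟨u, hu⟩ : (P : Subgroup S)))
              rw [hcard P] at h
              simpa using congrArg Subtype.val h
            have hc : u * (y : S) = (y : S) * u := mem_centralizer_iff.1 y.2 u hu
            have h1 : ∀ i : ℕ, ((y : S) ^ i) • R = (u ^ i) • R := by
              intro i
              induction i with
              | zero => simp
              | succ i ih =>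
                rw [pow_succ', mul_smul, ih, ← mul_smul, show (y : S) * u ^ i = u ^ i * y from
                  ((Commute.pow_left (show Commute u (y : S) from hc) i).eq).symm, mul_smul, ← hur,
                  ← mul_smul, ← pow_succ]
            rw [h1, hu3, one_smul]
          have : orderOf (⟨y, hy⟩ : ψ.ker) ∣ 3 ^ 1 := by
            rw [pow_one]
            exact orderOf_dvd_of_pow_eq_one (Subtype.ext (Subtype.ext hy3))
          obtain ⟨j, -, hj⟩ := (Nat.dvd_prime_pow Nat.prime_three).1 this
          exact ⟨j, hj⟩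
        have h := (hp3.map C.subtype).inf_normalizer_sylow P
        have hsub : ψ.ker.map C.subtype ≤ N := (map_subtype_le _).trans hCN
        intro x hx
        exact (h.le ⟨hx, hsub hx⟩).2
      · intro u hu
        refine ⟨⟨u, hPC hu⟩, MonoidHom.mem_ker.2 (Equiv.ext fun a => ?_), rfl⟩
        induction a using Quotient.inductionOn' with | _ A => ?_
        change mk (u • A) = mk A
        exact Quotient.sound' ⟨⟨u, hu⟩, rfl⟩
    rw [← card_map_of_injective C.subtype_injective, hle, hcard P]
  let K := ψ.range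
  have hK : Nat.card K = k := by
    have h1 := ψ.ker.card_mul_index
    rw [Subgroup.index_ker, hkerψ, hk] at h1
    exact Nat.eq_of_mul_eq_mul_left (by norm_num) h1
  have hKfix : ∀ σ ∈ K, σ (mk P) = mk P := by
    rintro _ ⟨y, rfl⟩
    change y • mk P = mk P
    rw [hsmulY, hCP]
  have hk5040 : k ∣ 5040 := by
    have hle : K ≤ MulAction.stabilizer (Equiv.Perm Y) (mk P) := fun σ hσ => hKfix σ hσ
    have h1 := (MulAction.stabilizer (Equiv.Perm Y) (mk P)).card_mul_index
    haveI : MulAction.IsPretransitive (Equiv.Perm Y) Y := ⟨fun a b => ⟨Equiv.swap a b, Equiv.swap_apply_left a b⟩⟩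
    rw [MulAction.index_stabilizer_of_transitive, hY, Nat.card_perm, hY] at h1
    have h2' : Nat.card (MulAction.stabilizer (Equiv.Perm Y) (mk P)) = 5040 := by
      rw [show Nat.factorial 8 = 40320 from rfl] at h1
      omega
    exact hK ▸ h2' ▸ card_dvd_of_le hle
  -- 5 does not divide k
  have hk5 : ¬ 5 ∣ k := by
    intro h5k
    obtain ⟨⟨w, hw⟩, hwo⟩ := exists_prime_orderOf_dvd_card' (G := C) 5 (hk ▸ h5k.mul_left 3)
    rw [Subgroup.orderOf_mk] at hwo
    have hw5 : w ^ 5 = 1 := hwo ▸ pow_orderOf_eq_one w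
    have hF : (Fix w).card = 7 := by
      have h1 : 22 % 5 = (Fix w).card % 5 := fixPrime w 5 (by norm_num) hw5
      have h3 := fixThree P w hw
      have hne : (Fix w).card ≠ 22 := fun e => by rw [fixEq1 w e, orderOf_one] at hwo; norm_num at hwo
      have hle := fixLe w
      omega
    set W := Subgroup.zpowers w with hWdef
    have hWc : Nat.card W = 5 := by rw [Nat.card_zpowers, hwo]
    have hfac : ∀ Q : Sylow 3 S, ¬ 5 ^ 2 ∣ Nat.card (normalizer ((Q : Subgroup S) : Set S)) := by
      intro Q h
      have e : Nat.card (normalizer ((Q : Subgroup S) : Set S)) = 6 * k := by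
        have h1 := index_mul_card (normalizer ((Q : Subgroup S) : Set S))
        rw [twentyTwo_index hn Q, hS] at h1
        omega
      rw [e] at h
      have h25 : 5 ^ 2 ∣ k := ((by norm_num : Nat.Coprime (5 ^ 2) 6)).dvd_of_dvd_mul_left h
      exact absurd (h25.trans hk5040) (by norm_num)
    have hmem : ∀ Q ∈ Fix w, W ≤ normalizer ((Q : Subgroup S) : Set S) := fun Q hQ =>
      zpowers_le.2 (Sylow.smul_eq_iff_mem_normalizer.1 ((memFix w Q).1 hQ))
    have hPF : P ∈ Fix w := (memFix w P).2 (hCP ⟨w, hw⟩)
    have horb : ∀ Q ∈ Fix w, ∃ g ∈ normalizer (W : Set S), g • P = Q := by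
      intro Q hQ
      obtain ⟨g, hg⟩ := MulAction.exists_smul_eq S P Q
      set NQ := normalizer ((Q : Subgroup S) : Set S)
      have h1 : MulAut.conj g • W ≤ NQ := by
        rintro _ ⟨v, hv, rfl⟩
        show g * v * g⁻¹ ∈ NQ
        refine Sylow.smul_eq_iff_mem_normalizer.1 ?_
        change (g * v * g⁻¹) • Q = Q
        rw [← hg, ← mul_smul, inv_mul_cancel_right, mul_smul,
          Sylow.smul_eq_iff_mem_normalizer.2 (hmem P hPF hv)]
      have hc5 : ∀ A : Subgroup S, A ≤ NQ → Nat.card A = 5 → IsPGroup 5 (A.subgroupOf NQ) ∧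
          ¬ 5 ∣ (A.subgroupOf NQ).index := by
        intro A hA hAc
        refine ⟨IsPGroup.of_card (n := 1) (by rw [Nat.card_congr (subgroupOfEquivOfLe hA).toEquiv, hAc, pow_one]), fun hd => hfac Q ?_⟩
        rw [← (A.subgroupOf NQ).card_mul_index, Nat.card_congr (subgroupOfEquivOfLe hA).toEquiv, hAc, pow_two]
        exact mul_dvd_mul_left 5 hd
      obtain ⟨a1, a2⟩ := hc5 _ h1 (by rw [CfsgLib.Core.card_conj_smul, hWc])
      obtain ⟨b1, b2⟩ := hc5 W (hmem Q hQ) hWc
      obtain ⟨⟨u, hu⟩, huv⟩ := MulAction.exists_smul_eq NQ (a1.toSylow a2) (b1.toSylow b2)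
      have hconj : MulAut.conj u • MulAut.conj g • W = W := by
        refine Subgroup.eq_of_le_of_card_ge ?_ (by rw [CfsgLib.Core.card_conj_smul, CfsgLib.Core.card_conj_smul])
        rintro _ ⟨v, hv, rfl⟩
        have hvN : v ∈ NQ := h1 hv
        have hmem' : (⟨u, hu⟩ : NQ) * ⟨v, hvN⟩ * (⟨u, hu⟩ : NQ)⁻¹ ∈ (b1.toSylow b2 : Subgroup NQ) := by
          rw [← huv]
          exact ⟨⟨v, hvN⟩, hv, rfl⟩
        exact hmem'
      refine ⟨u * g, CfsgLib.Core.mem_normalizer_iff_conj_smul_eq.2
        (by rw [← CfsgLib.Core.conj_smul_conj_smul, hconj]), ?_⟩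
      rw [mul_smul, hg, Sylow.smul_eq_iff_mem_normalizer.2 hu]
    have hinvF : ∀ g ∈ normalizer (W : Set S), ∀ Q ∈ Fix w, g • Q ∈ Fix w := by
      intro g hg Q hQ
      rw [memFix]
      have h1 : g⁻¹ * w * g ∈ normalizer ((Q : Subgroup S) : Set S) := by
        refine hmem Q hQ ?_
        have := (mem_normalizer_iff.1 (inv_mem hg) w).1 (mem_zpowers w)
        simpa using this
      have h2' := Sylow.smul_eq_iff_mem_normalizer.2 h1
      calc w • g • Q = g • ((g⁻¹ * w * g) • Q) := by rw [mul_smul, mul_smul, smul_inv_smul]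
        _ = g • Q := by rw [h2']
    have h7N : 7 ∣ Nat.card (normalizer (W : Set S)) := by
      have e : MulAction.orbit (normalizer (W : Set S)) P = ↑(Fix w) := by
        ext Q
        constructor
        · rintro ⟨⟨g, hg⟩, rfl⟩
          exact hinvF g hg P hPF
        · intro hQ
          obtain ⟨g, hg, hgP⟩ := horb Q hQ
          exact ⟨⟨g, hg⟩, hgP⟩
      have := MulAction.index_stabilizer (normalizer (W : Set S)) P
      rw [e, Set.ncard_coe_finset, hF] at this
      exact this ▸ index_dvd_card _
    obtain ⟨⟨h, hh⟩, hho⟩ := exists_prime_orderOf_dvd_card' 7 h7N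
    rw [Subgroup.orderOf_mk] at hho
    obtain ⟨Q, hQ⟩ := seven h hho
    have hcomm : Commute h w := by
      have := mem_centralizer_of_odd hWc (by norm_num) hh (by rw [hho]; norm_num)
      exact (mem_centralizer_iff.1 this w (mem_zpowers w)).symm
    have h1 := fixComm h w 7 (by norm_num) (hho ▸ pow_orderOf_eq_one h) hcomm
    rw [hF, hQ] at h1
    have hQw : Q ∈ Fix w := by
      rw [memFix]
      have hhQ : h • Q = Q := (memFix h Q).1 (hQ ▸ Finset.mem_singleton_self Q)
      have h2' : w • Q ∈ Fix h := by
        rw [memFix, ← mul_smul, hcomm.eq, mul_smul, hhQ]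
      rw [hQ, Finset.mem_singleton] at h2'
      exact h2'
    rw [Finset.inter_singleton_of_mem hQw, Finset.card_singleton] at h1
    norm_num [Nat.ModEq] at h1
  -- the normaliser of a Sylow 11-subgroup
  have hS11 : ∃ m, Nat.card S = 11 * m ∧ ¬ 11 ∣ m :=
    ⟨12 * k, by omega, fun h => hN11 (by
      rw [hidx, hk]
      have : 11 ∣ k := ((by norm_num : Nat.Coprime 11 12)).dvd_of_dvd_mul_left h
      exact (this.mul_left 3).mul_left 2)⟩
  obtain ⟨m, hm, hm11⟩ := hS11
  let R : Sylow 11 S := default
  have hRc : Nat.card (R : Subgroup S) = 11 := by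
    rw [CfsgLib.Perm.sylow_card_eq R (k := 1) (by rw [pow_one]; exact hm) hm11, pow_one]
  obtain ⟨⟨r, hr⟩, hro⟩ := exists_prime_orderOf_dvd_card' (G := (R : Subgroup S)) 11 (by rw [hRc])
  rw [Subgroup.orderOf_mk] at hro
  have hrfix : Fix r = ∅ := by
    rw [Finset.eq_empty_iff_forall_notMem]
    intro Q hQ
    have hmemN := Sylow.smul_eq_iff_mem_normalizer.1 ((memFix r Q).1 hQ)
    have := twentyTwo_large_prime hn Q (q := 11) (by norm_num) le_rfl
    exact this (hro ▸ Subgroup.orderOf_dvd_natCard _ hmemN)
  have hCR : Nat.card (centralizer ((R : Subgroup S) : Set S)) = 11 := by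
    set CR := centralizer ((R : Subgroup S) : Set S) with hCRdef
    obtain ⟨b, hb⟩ : ∃ b, Nat.card CR = 11 ^ b := by
      refine ⟨_, Nat.eq_prime_pow_of_unique_prime_dvd Nat.card_pos.ne' fun {q} hq hqd => ?_⟩
      by_contra hq11
      haveI := Fact.mk hq
      obtain ⟨⟨y, hy⟩, hyo⟩ := exists_prime_orderOf_dvd_card' q hqd
      rw [Subgroup.orderOf_mk] at hyo
      have hc : Commute r y := mem_centralizer_iff.1 hy r hr
      have h1 := fixComm r y 11 (by norm_num) (hro ▸ pow_orderOf_eq_one r) hc
      rw [hrfix, Finset.inter_empty, Finset.card_empty] at h1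
      have hle := fixLe y
      have hne : (Fix y).card ≠ 22 := fun e => hq.one_lt.ne' (by rw [← hyo, fixEq1 y e, orderOf_one])
      obtain ⟨j, hj⟩ := Equiv.Perm.cycleType_prime_order (σ := φ y)
        (by rw [orderOf_injective φ hφ, hyo]; exact hq)
      rw [orderOf_injective φ hφ, hyo] at hj
      have hsupp : (φ y).support.card = (j + 1) * q := by
        rw [← Equiv.Perm.sum_cycleType, hj, Multiset.sum_replicate, smul_eq_mul]
      have htot : (Fix y).card + (φ y).support.card = 22 := by
        rw [← hΩ]; exact Finset.card_compl_add_card _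
      unfold Nat.ModEq at h1
      rcases (show (Fix y).card = 0 ∨ (Fix y).card = 11 by omega) with h0 | h0
      · have h22 : (j + 1) * q = 2 * 11 := by omega
        have hdvd : q ∣ 2 * 11 := h22 ▸ dvd_mul_left q _
        rcases hq.dvd_mul.1 hdvd with h | h
        · have hq2 : q = 2 := (Nat.prime_dvd_prime_iff_eq hq Nat.prime_two).1 h
          have hs := CfsgLib.Perm.hom_comm_trivial (twentyTwo_not_comm hn) (Equiv.Perm.sign.comp φ) y
          rw [MonoidHom.comp_apply, Equiv.Perm.sign_of_cycleType, hj, hq2,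
            show j = 10 by subst hq2; omega] at hs
          simp at hs
          exact absurd hs (by decide)
        · exact hq11 ((Nat.prime_dvd_prime_iff_eq hq (by norm_num)).1 h)
      · have h11' : (j + 1) * q = 11 := by omega
        exact hq11 ((Nat.prime_dvd_prime_iff_eq hq (by norm_num)).1 (h11' ▸ dvd_mul_left q _))
    have hge : (R : Subgroup S) ≤ CR := by
      haveI : IsCyclic (R : Subgroup S) := isCyclic_of_prime_card hRc
      intro x hx
      rw [hCRdef, mem_centralizer_iff]
      intro u hu
      obtain ⟨v, hv⟩ := IsCyclic.exists_generator (α := (R : Subgroup S))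
      obtain ⟨i, hi⟩ := mem_zpowers_iff.1 (hv ⟨x, hx⟩)
      obtain ⟨j, hj⟩ := mem_zpowers_iff.1 (hv ⟨u, hu⟩)
      have := congrArg Subtype.val (show (⟨u, hu⟩ : (R : Subgroup S)) * ⟨x, hx⟩ = ⟨x, hx⟩ * ⟨u, hu⟩ by
        rw [← hi, ← hj, ← zpow_add, ← zpow_add, add_comm])
      exact this
    have := R.is_maximal' (IsPGroup.of_card hb) hge
    rw [this, hRc]
  have hk112 : k ∣ 112 := by
    have hco : k.Coprime 45 := by
      rw [show (45 : ℕ) = 3 * 3 * 5 by norm_num]
      have c3 := ((Nat.prime_three.coprime_iff_not_dvd).2 hk3).symm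
      have c5 := (((show Nat.Prime 5 by norm_num).coprime_iff_not_dvd).2 hk5).symm
      exact (c3.mul_right c3).mul_right c5
    exact hco.dvd_of_dvd_mul_right (show k ∣ 112 * 45 from hk5040)
  have hkval : k = 2 ∨ k = 112 := by
    set NR := normalizer ((R : Subgroup S) : Set S) with hNR
    haveI : IsCyclic (R : Subgroup S) := isCyclic_of_prime_card hRc
    have hker : (Subgroup.normalizerMonoidHom (R : Subgroup S)).ker =
        (centralizer ((R : Subgroup S) : Set S)).subgroupOf NR :=
      Subgroup.normalizerMonoidHom_ker _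
    set CS := (centralizer ((R : Subgroup S) : Set S)).subgroupOf NR with hCS
    have he : CS.index ∣ 10 := by
      rw [← hker, Subgroup.index_ker]
      refine (card_subgroup_dvd_card _).trans ?_
      rw [IsCyclic.card_mulAut, hRc, Nat.totient_prime (by norm_num)]
    have he1 : CS.index ≠ 1 := fun h =>
      CfsgLib.Perm.not_normalizer_le_centralizer R (hRc ▸ card_subgroup_dvd_card _)
        (CfsgLib.Perm.not_isPGroup_of_dvd Nat.prime_two (by norm_num) ⟨66 * k, by omega⟩)
        (subgroupOf_eq_top.1 (index_eq_one.1 h))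
    have hNRc : Nat.card NR = 11 * CS.index := by
      rw [← CS.card_mul_index, hCS, Nat.card_congr (subgroupOfEquivOfLe (centralizer_le_normalizer _)).toEquiv, hCR]
    have hn11 : Nat.card (Sylow 11 S) * Nat.card NR = Nat.card S := by
      rw [R.card_eq_index_normalizer]; exact index_mul_card _
    have hmod : Nat.card (Sylow 11 S) % 11 = 1 % 11 := card_sylow_modEq_one 11 S
    rw [hNRc, hS] at hn11
    generalize CS.index = e at he he1 hn11
    generalize Nat.card (Sylow 11 S) = n at hn11 hmod
    have hek : n * e = 12 * k := by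
      rw [mul_left_comm] at hn11
      omega
    have he10 : e ≤ 10 := Nat.le_of_dvd (by norm_num) he
    have hk112' : k ≤ 112 := Nat.le_of_dvd (by norm_num) hk112
    have h5e : ¬ 5 ∣ e := by
      intro h
      have : 5 ∣ 12 * k := hek ▸ h.mul_left n
      exact hk5 (((by norm_num : Nat.Coprime 5 12)).dvd_of_dvd_mul_left this)
    interval_cases e <;> try omega
    have hdiv : k ∈ Nat.divisors 112 := Nat.mem_divisors.2 ⟨hk112, by norm_num⟩
    have e112 : Nat.divisors 112 = {1, 2, 4, 7, 8, 14, 16, 28, 56, 112} := by decide +kernel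
    rw [e112] at hdiv
    simp only [Finset.mem_insert, Finset.mem_singleton] at hdiv
    rcases hdiv with rfl | rfl | rfl | rfl | rfl | rfl | rfl | rfl | rfl | rfl <;> omega
  rcases hkval with rfl | rfl
  · -- |N| = 12
    obtain ⟨⟨t, ht⟩, hto⟩ := exists_prime_orderOf_dvd_card' (G := C) 2 (by rw [hk]; norm_num)
    rw [Subgroup.orderOf_mk] at hto
    have hinvol : ∀ (Q : Sylow 3 S) (a b : S), a ∈ centralizer ((Q : Subgroup S) : Set S) →
        b ∈ centralizer ((Q : Subgroup S) : Set S) → orderOf a = 2 → orderOf b = 2 → a = b := by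
      intro Q a b ha hb hao hbo
      have hQC : (Q : Subgroup S) ≤ normalizer ((Q : Subgroup S) : Set S) := le_normalizer
      set CQ := centralizer ((Q : Subgroup S) : Set S) with hCQ
      have hCQc : Nat.card CQ = 6 := by
        obtain ⟨g, rfl⟩ := MulAction.exists_smul_eq S P Q
        have hkk : Nat.card C = 6 := by rw [hk]
        rw [← hkk]
        have e : CQ = MulAut.conj g • C := by
          ext x
          rw [CfsgLib.Core.mem_conj_smul_iff, hCQ, hCdef, mem_centralizer_iff, mem_centralizer_iff,
            Sylow.coe_subgroup_smul]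
          constructor
          · intro h u hu
            have h2' := h (g * u * g⁻¹) ⟨u, hu, rfl⟩
            calc u * (g⁻¹ * x * g) = g⁻¹ * ((g * u * g⁻¹) * x) * g := by group
              _ = g⁻¹ * (x * (g * u * g⁻¹)) * g := by rw [h2']
              _ = g⁻¹ * x * g * u := by group
          · rintro h _ ⟨u, hu, rfl⟩
            change (g * u * g⁻¹) * x = x * (g * u * g⁻¹)
            calc (g * u * g⁻¹) * x = g * (u * (g⁻¹ * x * g)) * g⁻¹ := by group
              _ = g * ((g⁻¹ * x * g) * u) * g⁻¹ := by rw [h u hu]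
              _ = x * (g * u * g⁻¹) := by group
        rw [e, CfsgLib.Core.card_conj_smul]
      have hs : ∀ (c : S) (hc : c ∈ CQ), orderOf c = 2 → IsPGroup 2 (zpowers (⟨c, hc⟩ : CQ)) ∧
          ¬ 2 ∣ (zpowers (⟨c, hc⟩ : CQ)).index := by
        intro c hc hco
        have hcc : Nat.card (zpowers (⟨c, hc⟩ : CQ)) = 2 := by
          rw [Nat.card_zpowers, Subgroup.orderOf_mk, hco]
        refine ⟨IsPGroup.of_card (n := 1) (by rw [hcc, pow_one]), ?_⟩
        have := (zpowers (⟨c, hc⟩ : CQ)).card_mul_index
        rw [hcc, hCQc] at this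
        omega
      obtain ⟨a1, a2⟩ := hs a ha hao
      obtain ⟨b1, b2⟩ := hs b hb hbo
      -- CQ is commutative: it is generated by the central Q and one involution
      obtain ⟨⟨u, hu⟩, huv⟩ := MulAction.exists_smul_eq CQ (a1.toSylow a2) (b1.toSylow b2)
      have hgen : ∀ x ∈ CQ, Commute x a := by
        intro x hx
        let M : Subgroup S := centralizer ({a} : Set S) ⊓ CQ
        have hQM : (Q : Subgroup S) ≤ M := le_inf
          (fun q hq => mem_centralizer_singleton_iff.2 (mem_centralizer_iff.1 ha q hq))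
          (fun q hq => by
            rw [hCQ, mem_centralizer_iff]
            intro v hv
            haveI : IsCyclic (Q : Subgroup S) := isCyclic_of_prime_card (hcard Q)
            obtain ⟨w, hw⟩ := IsCyclic.exists_generator (α := (Q : Subgroup S))
            obtain ⟨i, hi⟩ := mem_zpowers_iff.1 (hw ⟨q, hq⟩)
            obtain ⟨j, hj⟩ := mem_zpowers_iff.1 (hw ⟨v, hv⟩)
            exact congrArg Subtype.val (show (⟨v, hv⟩ : (Q : Subgroup S)) * ⟨q, hq⟩ = ⟨q, hq⟩ * ⟨v, hv⟩ by
              rw [← hi, ← hj, ← zpow_add, ← zpow_add, add_comm]))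
        have haM : a ∈ M := ⟨mem_centralizer_singleton_iff.2 rfl, ha⟩
        have d3 : 3 ∣ Nat.card M := hcard Q ▸ card_dvd_of_le hQM
        have d2 : 2 ∣ Nat.card M := hao ▸ Subgroup.orderOf_dvd_natCard _ haM
        have d6 : 6 ∣ Nat.card M := (by norm_num : Nat.Coprime 3 2).mul_dvd_of_dvd_of_dvd d3 d2
        have hM : M = CQ := Subgroup.eq_of_le_of_card_ge inf_le_right
          (by rw [hCQc]; exact Nat.le_of_dvd Nat.card_pos d6)
        have hxM : x ∈ M := hM.symm ▸ hx
        exact (mem_centralizer_singleton_iff.1 hxM.1)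
      have hbm : (⟨b, hb⟩ : CQ) ∈ (b1.toSylow b2 : Subgroup CQ) := mem_zpowers _
      rw [← huv] at hbm
      obtain ⟨⟨v, hv⟩, hva, hvb⟩ := hbm
      have hva' : (⟨v, hv⟩ : CQ) ∈ zpowers (⟨a, ha⟩ : CQ) := hva
      obtain ⟨i, hi⟩ := mem_zpowers_iff.1 hva'
      have hvi : v = a ^ i := (congrArg Subtype.val hi).symm
      have hvb' : u * v * u⁻¹ = b := congrArg Subtype.val hvb
      have hb' : b = a ^ i := by
        rw [← hvb', hvi, ((hgen u hu).zpow_right i).eq, mul_inv_cancel_right]
      have ha2 : a ^ (2 : ℤ) = 1 := by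
        have := pow_orderOf_eq_one a
        rw [hao] at this
        exact_mod_cast this
      rcases Int.emod_two_eq_zero_or_one i with hi2 | hi2
      · rw [← Int.mul_ediv_add_emod i 2, hi2, add_zero, zpow_mul, ha2, one_zpow] at hb'
        rw [hb', orderOf_one] at hbo
        norm_num at hbo
      · rw [hb', ← Int.mul_ediv_add_emod i 2, hi2, zpow_add, zpow_mul, ha2, one_zpow, one_mul, zpow_one]
    have htN : N ≤ centralizer ({t} : Set S) := by
      intro g hg
      rw [mem_centralizer_singleton_iff]
      have hconjC : g * t * g⁻¹ ∈ C := by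
        rw [hCdef, mem_centralizer_iff]
        intro u hu
        have hu' : g⁻¹ * u * g ∈ (P : Subgroup S) := by
          simpa using (mem_normalizer_iff.1 (inv_mem hg) u).1 hu
        have h2' := mem_centralizer_iff.1 ht _ hu'
        calc u * (g * t * g⁻¹) = g * ((g⁻¹ * u * g) * t) * g⁻¹ := by group
          _ = g * (t * (g⁻¹ * u * g)) * g⁻¹ := by rw [h2']
          _ = g * t * g⁻¹ * u := by group
      have := hinvol P _ t hconjC ht (by rw [← MulAut.conj_apply, MulEquiv.orderOf_eq, hto]) hto
      exact mul_inv_eq_iff_eq_mul.1 this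
    have hCt : centralizer ({t} : Set S) = N := by
      set M := centralizer ({t} : Set S) with hM
      have hne : M ≠ ⊤ := by
        intro h
        have htc : t ∈ center S := by
          rw [mem_center_iff]
          intro g
          exact (mem_centralizer_singleton_iff.1 (h ▸ mem_top g : g ∈ M))
        rcases (inferInstance : (center S).Normal).eq_bot_or_eq_top with hb | htop
        · rw [hb, mem_bot] at htc
          rw [htc, orderOf_one] at hto
          norm_num at hto
        · exact twentyTwo_not_comm hn ⟨⟨fun a b =>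
            (mem_center_iff.1 (htop ▸ mem_top b : b ∈ center S) a)⟩⟩
      have hPM : (P : Subgroup S) ≤ M := le_normalizer.trans htN
      have hcnt := card_sylow_eq_relIndex_normalizer P M hPM
      have hmod : Nat.card (Sylow 3 M) % 3 = 1 % 3 := card_sylow_modEq_one 3 M
      have hmul := relIndex_mul_index htN
      rw [twentyTwo_index hn P] at hmul
      rw [hcnt] at hmod
      change N.relIndex M % 3 = 1 % 3 at hmod
      have hd : N.relIndex M ∣ 22 := Dvd.intro _ hmul
      have hdiv : N.relIndex M ∈ Nat.divisors 22 := Nat.mem_divisors.2 ⟨hd, by norm_num⟩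
      have e22 : Nat.divisors 22 = {1, 2, 11, 22} := by decide +kernel
      rw [e22] at hdiv
      simp only [Finset.mem_insert, Finset.mem_singleton] at hdiv
      rcases hdiv with h | h | h | h
      · exact le_antisymm (relIndex_eq_one.1 h) htN
      · omega
      · omega
      · exact absurd (index_eq_one.1 (by rw [h] at hmul; omega)) hne
    have hFt : (Fix t).card = 10 := by
      have h1 : 22 % 2 = (Fix t).card % 2 := fixPrime t 2 Nat.prime_two (hto ▸ pow_orderOf_eq_one t)
      have h3 := fixThree P t ht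
      have hle := fixLe t
      have hne : (Fix t).card ≠ 22 := fun e => by rw [fixEq1 t e, orderOf_one] at hto; norm_num at hto
      obtain ⟨j, hj⟩ := Equiv.Perm.cycleType_prime_order (σ := φ t)
        (by rw [orderOf_injective φ hφ, hto]; exact Nat.prime_two)
      rw [orderOf_injective φ hφ, hto] at hj
      have hsupp : (φ t).support.card = (j + 1) * 2 := by
        rw [← Equiv.Perm.sum_cycleType, hj, Multiset.sum_replicate, smul_eq_mul]
      have htot : (Fix t).card + (φ t).support.card = 22 := by
        rw [← hΩ]; exact Finset.card_compl_add_card _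
      have hs := CfsgLib.Perm.hom_comm_trivial (twentyTwo_not_comm hn) (Equiv.Perm.sign.comp φ) t
      rw [MonoidHom.comp_apply, Equiv.Perm.sign_of_cycleType, hj, Multiset.sum_replicate,
        Multiset.card_replicate, smul_eq_mul] at hs
      have hev : Even (j + 1) := by
        by_contra hodd
        rw [Nat.not_even_iff_odd] at hodd
        rw [show (j + 1) * 2 + (j + 1) = 3 * (j + 1) by ring, pow_mul, show ((-1 : ℤˣ)) ^ 3 = -1 by decide, hodd.neg_one_pow] at hs

        exact absurd hs (by decide)
      obtain ⟨c, hc⟩ := hev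
      omega
    -- the class of t
    haveI := Fintype.ofFinite S
    let cl : Finset S := Finset.univ.image fun g : S => g * t * g⁻¹
    have hcl : cl.card = 22 := by
      rw [← twentyTwo_index hn P, ← hNdef, ← hCt, index_eq_card]
      haveI := Fintype.ofFinite (S ⧸ centralizer ({t} : Set S))
      rw [Nat.card_eq_fintype_card]
      have e : cl = Finset.univ.image (fun x : S ⧸ centralizer ({t} : Set S) => x.out * t * x.out⁻¹) := by
        ext a
        simp only [cl, Finset.mem_image, Finset.mem_univ, true_and]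
        constructor
        · rintro ⟨g, rfl⟩
          refine ⟨(g : S ⧸ centralizer ({t} : Set S)), ?_⟩
          obtain ⟨⟨c, hc⟩, hout⟩ := QuotientGroup.mk_out_eq_mul (centralizer ({t} : Set S)) g
          rw [hout]
          calc g * c * t * (g * c)⁻¹ = g * (c * t) * c⁻¹ * g⁻¹ := by group
            _ = g * (t * c) * c⁻¹ * g⁻¹ := by rw [mem_centralizer_singleton_iff.1 hc]
            _ = g * t * g⁻¹ := by group
        · rintro ⟨x, rfl⟩
          exact ⟨_, rfl⟩
      rw [e, Finset.card_image_of_injective, Finset.card_univ]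
      intro x y hxy
      rw [← QuotientGroup.out_eq' x, ← QuotientGroup.out_eq' y, QuotientGroup.eq, mem_centralizer_singleton_iff]
      calc x.out⁻¹ * y.out * t = x.out⁻¹ * (y.out * t * y.out⁻¹) * y.out := by group
        _ = x.out⁻¹ * (x.out * t * x.out⁻¹) * y.out := by
          rw [show y.out * t * y.out⁻¹ = x.out * t * x.out⁻¹ from hxy.symm]
        _ = t * (x.out⁻¹ * y.out) := by group
    have hclprop : ∀ a ∈ cl, orderOf a = 2 ∧ (Fix a).card = 10 := by
      intro a ha
      obtain ⟨g, -, rfl⟩ := Finset.mem_image.1 ha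
      refine ⟨by rw [← MulAut.conj_apply, MulEquiv.orderOf_eq, hto], ?_⟩
      rw [← hFt]
      have e : Fix (g * t * g⁻¹) = (Fix t).image (fun Q => g • Q) := by
        ext Q
        rw [memFix, Finset.mem_image]
        constructor
        · intro h
          refine ⟨g⁻¹ • Q, (memFix _ _).2 ?_, smul_inv_smul g Q⟩
          conv_rhs => rw [← h]
          rw [mul_smul, mul_smul, inv_smul_smul]
        · rintro ⟨A, hA, rfl⟩
          rw [mul_smul, mul_smul, inv_smul_smul, (memFix _ _).1 hA]
      rw [e, Finset.card_image_of_injective _ (MulAction.injective g)]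
    have hbound : ∀ Q : Sylow 3 S, (cl.filter fun a => Q ∈ Fix a).card ≤ 7 := by
      intro Q
      set NQ := normalizer ((Q : Subgroup S) : Set S)
      set CQ := centralizer ((Q : Subgroup S) : Set S)
      have hNQc : Nat.card NQ = 12 := by
        have h1 := index_mul_card NQ
        rw [twentyTwo_index hn Q, hS] at h1
        omega
      let A : Finset S := cl.filter fun a => Q ∈ Fix a
      have hA : ∀ a ∈ A, orderOf a = 2 ∧ a ∈ NQ := fun a ha =>
        ⟨(hclprop a (Finset.mem_filter.1 ha).1).1,
          Sylow.smul_eq_iff_mem_normalizer.1 ((memFix a Q).1 (Finset.mem_filter.1 ha).2)⟩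
      have h1 : (A.filter fun a => a ∈ CQ).card ≤ 1 := Finset.card_le_one.2 fun a ha b hb =>
        hinvol Q a b (Finset.mem_filter.1 ha).2 (Finset.mem_filter.1 hb).2
          (hA a (Finset.mem_filter.1 ha).1).1 (hA b (Finset.mem_filter.1 hb).1).1
      have h2' : (A.filter fun a => a ∉ CQ).card ≤ 6 := by
        have hsub : (A.filter fun a => a ∉ CQ) ⊆ Finset.univ.filter fun a => a ∈ NQ ∧ a ∉ CQ := by
          intro a ha
          exact Finset.mem_filter.2 ⟨Finset.mem_univ _, (hA a (Finset.mem_filter.1 ha).1).2,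
            (Finset.mem_filter.1 ha).2⟩
        refine (Finset.card_le_card hsub).trans ?_
        have e : (Finset.univ.filter fun a => a ∈ NQ ∧ a ∉ CQ) =
            (Finset.univ.filter fun a => a ∈ NQ) \ (Finset.univ.filter fun a => a ∈ CQ) := by
          ext; simp
        have hCQc : 6 ≤ Nat.card CQ := by
          have hker : (Subgroup.normalizerMonoidHom (Q : Subgroup S)).ker = CQ.subgroupOf NQ :=
            Subgroup.normalizerMonoidHom_ker _
          haveI : IsCyclic (Q : Subgroup S) := isCyclic_of_prime_card (hcard Q)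
          have hi : (CQ.subgroupOf NQ).index ∣ 2 := by
            rw [← hker, Subgroup.index_ker]
            refine (card_subgroup_dvd_card _).trans ?_
            rw [IsCyclic.card_mulAut, hcard Q, Nat.totient_prime Nat.prime_three]
          have h4 := (CQ.subgroupOf NQ).card_mul_index
          rw [Nat.card_congr (subgroupOfEquivOfLe (centralizer_le_normalizer _)).toEquiv, hNQc] at h4
          have := Nat.le_of_dvd two_pos hi
          nlinarith
        have hNcard : (Finset.univ.filter fun a => a ∈ NQ).card = 12 := by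
          rw [← Fintype.card_subtype, ← Nat.card_eq_fintype_card]; exact hNQc
        have hCcard : (Finset.univ.filter fun a => a ∈ CQ).card = Nat.card CQ := by
          rw [← Fintype.card_subtype, ← Nat.card_eq_fintype_card]
        rw [e, Finset.card_sdiff_of_subset (fun a ha => Finset.mem_filter.2
          ⟨Finset.mem_univ _, centralizer_le_normalizer _ (Finset.mem_filter.1 ha).2⟩), hNcard, hCcard]
        omega
      have := Finset.card_filter_add_card_filter_not (s := A) (fun a => a ∈ CQ)
      show A.card ≤ 7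
      omega
    have hcount := Finset.sum_card_bipartiteAbove_eq_sum_card_bipartiteBelow
      (s := cl) (t := (Finset.univ : Finset (Sylow 3 S))) (fun a Q => Q ∈ Fix a)
    have e1 : ∑ a ∈ cl, ((Finset.univ : Finset (Sylow 3 S)).bipartiteAbove (fun a Q => Q ∈ Fix a) a).card = 220 := by
      rw [Finset.sum_congr rfl (g := fun _ => 10) (fun a ha => ?_), Finset.sum_const, hcl, smul_eq_mul]
      rw [← (hclprop a ha).2]
      congr 1
      ext Q
      simp [Finset.bipartiteAbove]
    have e2 : ∑ Q ∈ (Finset.univ : Finset (Sylow 3 S)), (cl.bipartiteBelow (fun a Q => Q ∈ Fix a) Q).card ≤ 154 := by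
      refine (Finset.sum_le_sum (g := fun _ => 7) fun Q _ => hbound Q).trans ?_
      rw [Finset.sum_const, Finset.card_univ, hΩ, smul_eq_mul]
    rw [hcount] at e1
    omega
  · -- k = 112
    haveI : Group.IsSolvable K :=
      CfsgLib.Burnside.isSolvable_of_card_eq (p := 2) (q := 7) (a := 4) (b := 1) Nat.prime_two
        (by norm_num) (by rw [hK]; norm_num)
    haveI : Nontrivial K := Finite.one_lt_card_iff_nontrivial.1 (by omega)
    obtain ⟨q, hq, hqne⟩ := exists_pCore_ne_bot (G := K) inferInstance
    haveI := Fact.mk hq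
    set E := Cfsg.pCore q K
    haveI : E.Normal := pCore_normal' q
    have hEp : IsPGroup q E := isPGroup_pCore q
    have hY' : Fintype.card Y = 8 := by rw [← Nat.card_eq_fintype_card, hY]
    -- an element of order 7 has one fixed point
    obtain ⟨⟨h, hh⟩, hho⟩ := exists_prime_orderOf_dvd_card' (G := K) 7 (by rw [hK]; norm_num)
    rw [Subgroup.orderOf_mk] at hho
    obtain ⟨j, hj⟩ := Equiv.Perm.cycleType_prime_order (σ := h) (by rw [hho]; norm_num)
    rw [hho] at hj
    have hsupp : h.support.card = (j + 1) * 7 := by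
      rw [← Equiv.Perm.sum_cycleType, hj, Multiset.sum_replicate, smul_eq_mul]
    have hsle : h.support.card ≤ 8 := hY' ▸ Finset.card_le_univ _
    have hj0 : j = 0 := by omega
    subst hj0
    have hcyc : h.IsCycle := Equiv.Perm.card_cycleType_eq_one.1 (by rw [hj]; rfl)
    have hsupp' : h.support = Finset.univ.erase (mk P) := by
      refine Finset.eq_of_subset_of_card_le (fun a ha => Finset.mem_erase.2 ⟨fun e => ?_, Finset.mem_univ _⟩) ?_
      · exact Equiv.Perm.mem_support.1 ha (e ▸ hKfix h hh)
      · rw [Finset.card_erase_of_mem (Finset.mem_univ _), Finset.card_univ, hY', hsupp]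
    have hsame : ∀ a b : Y, a ≠ mk P → b ≠ mk P → ∃ i : ℕ, (h ^ i) a = b := by
      intro a b ha hb
      have ha' : a ∈ h.support := hsupp' ▸ Finset.mem_erase.2 ⟨ha, Finset.mem_univ _⟩
      have hb' : b ∈ h.support := hsupp' ▸ Finset.mem_erase.2 ⟨hb, Finset.mem_univ _⟩
      obtain ⟨i, hi⟩ := (hcyc.sameCycle (Equiv.Perm.mem_support.1 ha') (Equiv.Perm.mem_support.1 hb')).exists_pow_eq'
      exact ⟨i, hi.2⟩
    have hqd : q ∣ 112 := by
      obtain ⟨a, ha⟩ := IsPGroup.iff_card.1 hEp
      have ha0 : a ≠ 0 := fun h0 => hqne (Subgroup.eq_bot_of_card_eq _ (by rw [ha, h0, pow_zero]))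
      have := card_subgroup_dvd_card E
      rw [ha, hK] at this
      exact (dvd_pow_self q ha0).trans this
    have hq27 : q = 2 ∨ q = 7 := by
      rcases hq.dvd_mul.1 (show q ∣ 2 ^ 4 * 7 from hqd) with h | h
      · exact Or.inl ((Nat.prime_dvd_prime_iff_eq hq Nat.prime_two).1 (hq.dvd_of_dvd_pow h))
      · exact Or.inr ((Nat.prime_dvd_prime_iff_eq hq (by norm_num)).1 h)
    rcases hq27 with rfl | rfl
    · -- a normal 2-subgroup fixes everything
      letI : MulAction E Y := MulAction.compHom Y ((K.subtype).comp E.subtype)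
      have hmod := hEp.card_modEq_card_fixedPoints (α := Y)
      have hP0 : mk P ∈ MulAction.fixedPoints E Y := fun e => hKfix _ e.1.2
      obtain ⟨y0, hy0, hy0ne⟩ : ∃ y0 ∈ MulAction.fixedPoints E Y, y0 ≠ mk P := by
        by_contra hno
        push Not at hno
        have e : MulAction.fixedPoints E Y = {mk P} :=
          Set.eq_singleton_iff_unique_mem.2 ⟨hP0, hno⟩
        rw [hY, e, Nat.card_coe_set_eq, Set.ncard_singleton] at hmod
        norm_num [Nat.ModEq] at hmod
      refine hqne ((Subgroup.eq_bot_iff_forall _).2 fun e he => ?_)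
      apply Subtype.ext
      ext1 a
      by_cases haP : a = mk P
      · subst haP
        exact hKfix _ e.2
      obtain ⟨i, rfl⟩ := hsame y0 a hy0ne haP
      have hmem' := Subgroup.Normal.conj_mem (inferInstance : E.Normal) e he ((⟨h, hh⟩ : K) ^ i)⁻¹
      have := hy0 ⟨_, hmem'⟩
      change (((h ^ i)⁻¹ * (e : Equiv.Perm Y) * (h ^ i)⁻¹⁻¹)) y0 = y0 at this
      rw [inv_inv, Equiv.Perm.mul_apply, Equiv.Perm.mul_apply, Equiv.Perm.inv_eq_iff_eq] at this
      simpa using this
    · -- a normal Sylow 7-subgroup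
      have hE7 : Nat.card E = 7 := by
        obtain ⟨a, ha⟩ := IsPGroup.iff_card.1 hEp
        have hd := card_subgroup_dvd_card E
        rw [ha, hK] at hd
        have ha0 : a ≠ 0 := fun h0 => hqne (Subgroup.eq_bot_of_card_eq _ (by rw [ha, h0, pow_zero]))
        have : a < 2 := by
          by_contra hlt
          exact absurd ((pow_dvd_pow 7 (by omega : 2 ≤ a)).trans hd) (by norm_num)
        rw [ha, show a = 1 by omega, pow_one]
      obtain ⟨E7, hE7le⟩ : ∃ T : Sylow 7 K, E ≤ T := hEp.exists_le_sylow
      have hT : (E7 : Subgroup K) = E := (Subgroup.eq_of_le_of_card_ge hE7le (by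
        rw [hE7, CfsgLib.Perm.sylow_card_eq E7 (k := 1) (m := 16) (by rw [hK]; norm_num) (by norm_num), pow_one])).symm
      have hhE : (⟨h, hh⟩ : K) ∈ E := by
        have hp7 : IsPGroup 7 (zpowers (⟨h, hh⟩ : K)) := IsPGroup.of_card (n := 1)
          (by rw [Nat.card_zpowers, Subgroup.orderOf_mk, hho, pow_one])
        haveI : (E7 : Subgroup K).Normal := hT.symm ▸ inferInstance
        have h1 := hp7.inf_normalizer_sylow E7
        rw [← hT]
        exact (h1.le ⟨mem_zpowers _, by
          change (⟨h, hh⟩ : K) ∈ normalizer ((E7 : Subgroup K) : Set K)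
          rw [normalizer_eq_top]; trivial⟩).2
      haveI : IsCyclic E := isCyclic_of_prime_card hE7
      let f : K →* MulAut E := MulAut.conjNormal
      have hfE : Nat.card f.ker ∣ 7 := by
        rw [← hE7]
        refine card_dvd_of_le fun g hg => ?_
        have hc : (g : Equiv.Perm Y) * h = h * g := by
          have := congrArg (fun F : MulAut E => ((F ⟨_, hhE⟩ : E) : K)) (MonoidHom.mem_ker.1 hg)
          simp only [f, MulAut.conjNormal_apply, MulAut.one_apply] at this
          exact mul_inv_eq_iff_eq_mul.1 (congrArg Subtype.val this)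
        have hPh : ∀ i : ℕ, (h ^ i) (mk P) = mk P := fun i => hKfix _ (pow_mem hh i)
        obtain ⟨a0, ha0⟩ : ∃ a, a ≠ mk P := by
          haveI : Nontrivial Y := Fintype.one_lt_card_iff_nontrivial.1 (by omega)
          exact exists_ne _
        have hga : (g : Equiv.Perm Y) a0 ≠ mk P := fun e =>
          ha0 ((g : Equiv.Perm Y).injective (e.trans (hKfix _ g.2).symm))
        obtain ⟨i, hi⟩ := hsame a0 _ ha0 hga
        suffices g = (⟨h, hh⟩ : K) ^ i from this ▸ pow_mem hhE i
        apply Subtype.ext
        change (g : Equiv.Perm Y) = h ^ i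
        ext1 a
        by_cases haP : a = mk P
        · rw [haP, hKfix _ g.2, hPh]
        obtain ⟨l, rfl⟩ := hsame a0 a ha0 haP
        have hcl : Commute (g : Equiv.Perm Y) (h ^ l) := (show Commute (g : Equiv.Perm Y) h from hc).pow_right l
        rw [← Equiv.Perm.mul_apply, hcl.eq, Equiv.Perm.mul_apply, ← hi, ← Equiv.Perm.mul_apply,
          ← Equiv.Perm.mul_apply, ← pow_add, ← pow_add, add_comm]
      have h1 := f.ker.card_mul_index
      rw [Subgroup.index_ker, hK] at h1
      have h2' : Nat.card f.range ∣ 6 := by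
        refine (card_subgroup_dvd_card _).trans ?_
        rw [IsCyclic.card_mulAut, hE7, Nat.totient_prime (by norm_num)]
      have := mul_dvd_mul hfE h2'
      rw [h1] at this
      norm_num at this

end CfsgLib.HallGen
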