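import Mathlib
import Cfsg.Agent.Lib.Perm.OneDerangementClass
import Cfsg.Agent.Lib.Char.Burnside

/-!
# Primitive groups with two classes of derangements

Outside the almost simple case the socle is abelian, since a power of a non-abelian simple group supplies three
classes of derangements, told apart by their orders or by the sizes of their centralisers.
-/

set_option autoImplicit false
set_option linter.all false

namespace CfsgLib.HallGen.TwoDerangements

open MulAction

/-- A group that is not solvable has elements of three distinct prime orders. -/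
theorem exists_three_orders (T : Type*) [Group T] [Finite T] (h : ¬ Group.IsSolvable T) :
    ∃ u v w : T, orderOf u ≠ orderOf v ∧ orderOf u ≠ orderOf w ∧ orderOf v ≠ orderOf w ∧ u ≠ 1 ∧ v ≠ 1 ∧ w ≠ 1 := by
  classical
  have hn : Nat.card T ≠ 0 := Nat.card_pos.ne'
  have h3 : 2 < (Nat.card T).primeFactors.card := by
    by_contra hle
    refine h ?_
    obtain ⟨p, q, hp, hq, hsub⟩ : ∃ p q : ℕ, p.Prime ∧ q.Prime ∧ (Nat.card T).primeFactors ⊆ {p, q} := by
      rcases (Nat.card T).primeFactors.eq_empty_or_nonempty with he | ⟨p, hp⟩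
      · exact ⟨2, 2, Nat.prime_two, Nat.prime_two, by simp [he]⟩
      rcases ((Nat.card T).primeFactors.erase p).eq_empty_or_nonempty with he | ⟨q, hq⟩
      · refine ⟨p, p, Nat.prime_of_mem_primeFactors hp, Nat.prime_of_mem_primeFactors hp, fun x hx => ?_⟩
        by_contra hxp
        simp at hxp
        have := Finset.mem_erase.2 ⟨hxp, hx⟩
        rw [he] at this
        exact Finset.notMem_empty x this
      · obtain ⟨hqp, hq⟩ := Finset.mem_erase.1 hq
        refine ⟨p, q, Nat.prime_of_mem_primeFactors hp, Nat.prime_of_mem_primeFactors hq, ?_⟩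
        refine (Finset.eq_of_subset_of_card_le (by simp [Finset.insert_subset_iff, hp, hq]) ?_).ge
        rw [Finset.card_pair (Ne.symm hqp)]
        omega
    obtain ⟨m, hm, hnd⟩ : ∃ m, Nat.card T = p ^ (Nat.card T).factorization p * m ∧ ¬ p ∣ m :=
      ⟨Nat.card T / p ^ (Nat.card T).factorization p, (Nat.ordProj_mul_ordCompl_eq_self _ _).symm,
        Nat.not_dvd_ordCompl hp hn⟩
    have hm0 : m ≠ 0 := fun e => hn (by rw [hm, e, mul_zero])
    have hmq : m = q ^ m.primeFactorsList.length := Nat.eq_prime_pow_of_unique_prime_dvd hm0 fun {d} hd hdm => by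
      have := hsub (Nat.mem_primeFactors.2 ⟨hd, hdm.trans (hm ▸ Dvd.intro_left _ rfl), hn⟩)
      simp only [Finset.mem_insert, Finset.mem_singleton] at this
      exact this.resolve_left fun e => hnd (e ▸ hdm)
    exact CfsgLib.Burnside.isSolvable_of_card_eq hp hq (hm.trans (congrArg _ hmq))
  obtain ⟨p, q, r, hp, hq, hr, hpq, hpr, hqr⟩ := Finset.two_lt_card_iff.1 h3
  haveI := Fact.mk (Nat.prime_of_mem_primeFactors hp)
  haveI := Fact.mk (Nat.prime_of_mem_primeFactors hq)
  haveI := Fact.mk (Nat.prime_of_mem_primeFactors hr)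
  obtain ⟨u, hu⟩ := exists_prime_orderOf_dvd_card' p (Nat.dvd_of_mem_primeFactors hp)
  obtain ⟨v, hv⟩ := exists_prime_orderOf_dvd_card' q (Nat.dvd_of_mem_primeFactors hq)
  obtain ⟨w, hw⟩ := exists_prime_orderOf_dvd_card' r (Nat.dvd_of_mem_primeFactors hr)
  refine ⟨u, v, w, by omega, by omega, by omega, ?_, ?_, ?_⟩ <;> rintro rfl <;>
    simp only [orderOf_one] at hu hv hw
  · exact (Nat.prime_of_mem_primeFactors hp).ne_one hu.symm
  · exact (Nat.prime_of_mem_primeFactors hq).ne_one hv.symm
  · exact (Nat.prime_of_mem_primeFactors hr).ne_one hw.symm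

/-- The number of elements commuting with `x`. -/
noncomputable def cen {A : Type*} [Group A] (x : A) : ℕ := Nat.card {f : A // Commute x f}

theorem cen_map {A : Type*} [Group A] (φ : MulAut A) (x : A) : cen (φ x) = cen x :=
  Nat.card_congr ((φ.symm.toEquiv.subtypeEquiv fun f => by
    constructor
    · intro h; simpa using h.map φ.symm.toMonoidHom
    · intro h; simpa using h.map φ.toMonoidHom))

section Pi

variable {T : Type*} [Group T] [Finite T] {m : ℕ}

theorem cen_pi (x : Fin m → T) : cen x = ∏ i, cen (x i) := by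
  rw [cen, Nat.card_congr ((Equiv.subtypeEquivRight fun f => (show Commute x f ↔ ∀ i, Commute (x i) (f i) from
    ⟨fun h i => congrFun h.eq i, fun h => funext fun i => (h i).eq⟩)).trans Equiv.subtypePiEquivPi), Nat.card_pi]
  rfl

theorem cen_one : cen (1 : T) = Nat.card T :=
  Nat.card_congr (Equiv.subtypeUnivEquiv fun f => Commute.one_left f)

theorem cen_pos (x : T) : 0 < cen x :=
  haveI : Nonempty {f : T // Commute x f} := ⟨⟨1, Commute.one_right x⟩⟩
  Nat.card_pos

theorem cen_lt (hT : IsSimpleGroup T) (hnc : ¬ IsMulCommutative T) {t : T} (ht : t ≠ 1) : cen t < Nat.card T := by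
  haveI := hT
  refine lt_of_le_of_ne (Nat.card_le_card_of_injective _ Subtype.val_injective) fun he => ?_
  have hb : Function.Bijective (Subtype.val : {f : T // Commute t f} → T) :=
    Subtype.val_injective.bijective_of_nat_card_le he.ge
  have htc : t ∈ Subgroup.center T := Subgroup.mem_center_iff.2 fun w => by
    obtain ⟨⟨f, hf⟩, rfl⟩ := hb.2 w
    exact hf.symm.eq
  rcases (Subgroup.center T).normal_of_characteristic.eq_bot_or_eq_top with hb | hb
  · exact ht (Subgroup.mem_bot.1 (hb ▸ htc))
  · exact hnc ⟨⟨fun u v => (Subgroup.mem_center_iff.1 (hb ▸ Subgroup.mem_top v) u)⟩⟩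

theorem cen_eq_centralizer (x : T) : cen x = Nat.card (Subgroup.centralizer ({x} : Set T)) :=
  Nat.card_congr (Equiv.subtypeEquivRight fun f => by
    rw [Subgroup.mem_centralizer_singleton_iff]
    exact ⟨fun h => h.symm.eq, fun h => Commute.symm h⟩)

/-- Centraliser orders are not constant on the nonidentity elements. -/
theorem exists_cen_ne (hT : IsSimpleGroup T) (hnc : ¬ IsMulCommutative T) :
    ∃ u v : T, u ≠ 1 ∧ v ≠ 1 ∧ cen u ≠ cen v := by
  classical
  haveI := hT
  haveI : Nontrivial T := hT.toNontrivial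
  by_contra hcon
  push Not at hcon
  obtain ⟨t, ht⟩ := exists_ne (1 : T)
  obtain ⟨p, hp, hpd⟩ := Nat.exists_prime_and_dvd (n := Subgroup.index (Subgroup.centralizer ({t} : Set T))) (by
    intro h1
    have := Subgroup.index_eq_one.1 h1
    have h2 := cen_lt hT hnc ht
    rw [cen_eq_centralizer, this, Subgroup.card_top] at h2
    exact lt_irrefl _ h2)
  haveI := Fact.mk hp
  obtain ⟨P⟩ : Nonempty (Sylow p T) := inferInstance
  have hP : (P : Subgroup T) ≠ ⊥ := P.ne_bot_of_dvd_card (hpd.trans (Subgroup.index_dvd_card _))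
  haveI : Nontrivial (P : Subgroup T) := (Subgroup.nontrivial_iff_ne_bot _).2 hP
  obtain ⟨z, hz, hz1⟩ := (Subgroup.center (P : Subgroup T)).nontrivial_iff_exists_ne_one.1
    P.isPGroup'.center_nontrivial
  have hle : (P : Subgroup T) ≤ Subgroup.centralizer ({(z : T)} : Set T) := fun w hw =>
    Subgroup.mem_centralizer_singleton_iff.2 (congrArg Subtype.val (Subgroup.mem_center_iff.1 hz ⟨w, hw⟩))
  have h1 : ¬ p ∣ (Subgroup.centralizer ({(z : T)} : Set T)).index := fun h =>
    P.not_dvd_index' (Subgroup.index_ne_zero_of_finite) (h.trans (Subgroup.index_dvd_of_le hle))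
  refine h1 ?_
  have hcc : Nat.card (Subgroup.centralizer ({(z : T)} : Set T)) = Nat.card (Subgroup.centralizer ({t} : Set T)) := by
    rw [← cen_eq_centralizer, ← cen_eq_centralizer]
    exact hcon _ _ (fun e => hz1 (Subtype.ext e)) ht
  have ha := (Subgroup.centralizer ({(z : T)} : Set T)).card_mul_index
  rw [hcc, ← (Subgroup.centralizer ({t} : Set T)).card_mul_index] at ha
  rw [Nat.eq_of_mul_eq_mul_left Nat.card_pos ha]
  exact hpd

/-- A proper subgroup `M` of `T ^ m` leaves three inequivalent elements outside its conjugates. -/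
theorem pi_three (hm : 2 ≤ m) (hT : IsSimpleGroup T) (hnc : ¬ IsMulCommutative T)
    (M : Subgroup (Fin m → T)) (hM : M ≠ ⊤)
    (htwo : ∀ x y z : Fin m → T, (∀ n, n⁻¹ * x * n ∉ M) → (∀ n, n⁻¹ * y * n ∉ M) → (∀ n, n⁻¹ * z * n ∉ M) →
      (∃ φ : MulAut (Fin m → T), φ x = y) ∨ (∃ φ : MulAut (Fin m → T), φ x = z) ∨
        (∃ φ : MulAut (Fin m → T), φ y = z)) : False := by
  classical
  have hnsol : ¬ Group.IsSolvable T := fun h => hnc (by
    haveI := hT
    haveI := h
    exact ⟨⟨fun a b => IsSimpleGroup.comm_iff_isSolvable.2 h a b⟩⟩)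
  have hconj : ∀ (i : Fin m) (s t : T) (f : Fin m → T), f i = s →
      f * Pi.mulSingle i t * f⁻¹ = Pi.mulSingle i (s * t * s⁻¹) := by
    intro i s t f hf
    funext k
    rcases eq_or_ne k i with rfl | hk
    · simp [hf]
    · simp [hk]
  by_cases hproj : ∃ i : Fin m, M.map (Pi.evalMonoidHom (fun _ => T) i) ≠ ⊤
  · obtain ⟨i, hne⟩ := hproj
    obtain ⟨t, ht⟩ := CfsgLib.HallGen.exists_not_mem_conj _ hne
    have hout : ∀ x : Fin m → T, x i = t → ∀ n, n⁻¹ * x * n ∉ M := by
      intro x hx n hn
      refine ht (n i) ?_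
      rw [Subgroup.mem_pointwise_smul_iff_inv_smul_mem]
      refine ⟨_, hn, ?_⟩
      show (n⁻¹ * x * n) i = _
      simp [hx, MulAut.smul_def]
    have ht1 : t ≠ 1 := by
      rintro rfl
      exact hout 1 rfl 1 (by simp)
    obtain ⟨j, hj⟩ : ∃ j, j ≠ i :=
      haveI : Nontrivial (Fin m) := Fin.nontrivial_iff_two_le.2 hm
      exists_ne i
    obtain ⟨u, v, hu, hv, huv⟩ := exists_cen_ne hT hnc
    let g : T → Fin m → T := fun s => Function.update (Pi.mulSingle i t) j s
    have hgi : ∀ s, g s i = t := fun s => by simp [g, hj.symm]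
    have hg : ∀ s, cen (g s) = cen s * ∏ k ∈ Finset.univ.erase j, cen ((Pi.mulSingle i t : Fin m → T) k) := by
      intro s
      rw [cen_pi, ← Finset.mul_prod_erase _ _ (Finset.mem_univ j)]
      simp only [g, Function.update_self]
      congr 1
      refine Finset.prod_congr rfl fun k hk => ?_
      rw [Function.update_of_ne (Finset.ne_of_mem_erase hk)]
    have hpos : 0 < ∏ k ∈ Finset.univ.erase j, cen ((Pi.mulSingle i t : Fin m → T) k) :=
      Finset.prod_pos fun k _ => cen_pos _
    have hdiff : ∀ a b : T, cen a ≠ cen b → ¬ ∃ φ : MulAut (Fin m → T), φ (g a) = g b := by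
      rintro a b hab ⟨φ, hφ⟩
      have := cen_map φ (g a)
      rw [hφ, hg, hg] at this
      exact hab (Nat.eq_of_mul_eq_mul_right hpos this).symm
    rcases htwo (g 1) (g u) (g v) (hout _ (hgi 1)) (hout _ (hgi u)) (hout _ (hgi v)) with h | h | h
    · exact hdiff 1 u (by rw [cen_one]; exact (cen_lt hT hnc hu).ne') h
    · exact hdiff 1 v (by rw [cen_one]; exact (cen_lt hT hnc hv).ne') h
    · exact hdiff u v huv h
  · push Not at hproj
    haveI := hT
    let F : Fin m → Subgroup T := fun i => M.comap (MonoidHom.mulSingle (fun _ : Fin m => T) i)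
    have hF : ∀ i, F i = ⊥ ∨ F i = ⊤ := by
      intro i
      refine Subgroup.Normal.eq_bot_or_eq_top ⟨fun t ht s => ?_⟩
      obtain ⟨f, hf, hfi⟩ : s ∈ M.map (Pi.evalMonoidHom (fun _ => T) i) := by
        rw [hproj]; exact Subgroup.mem_top s
      show Pi.mulSingle i (s * t * s⁻¹) ∈ M
      rw [← hconj i s t f hfi]
      exact M.mul_mem (M.mul_mem hf ht) (M.inv_mem hf)
    obtain ⟨j, hj⟩ : ∃ j, F j = ⊥ := by
      by_contra h
      push Not at h
      refine hM (eq_top_iff.2 fun f _ => ?_)
      refine Subgroup.pi_mem_of_mulSingle_mem (H := M) f fun i => ?_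
      exact (show f i ∈ F i from ((hF i).resolve_left (h i)).symm ▸ Subgroup.mem_top _)
    have hout : ∀ t : T, t ≠ 1 → ∀ n, n⁻¹ * Pi.mulSingle j t * n ∉ M := by
      intro t ht n hn
      have h1 := hconj j ((n j)⁻¹) t n⁻¹ rfl
      rw [inv_inv, inv_inv] at h1
      rw [h1] at hn
      have h2 : (n j)⁻¹ * t * n j ∈ F j := hn
      rw [hj, Subgroup.mem_bot] at h2
      refine ht ?_
      calc t = n j * ((n j)⁻¹ * t * n j) * (n j)⁻¹ := by group
        _ = 1 := by rw [h2, mul_one, mul_inv_cancel]
    obtain ⟨u, v, w, huv, huw, hvw, hu, hv, hw⟩ := exists_three_orders T hnsol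
    have hdiff : ∀ a b : T, orderOf a ≠ orderOf b →
        ¬ ∃ φ : MulAut (Fin m → T), φ (Pi.mulSingle j a) = Pi.mulSingle j b := by
      rintro a b hab ⟨φ, hφ⟩
      have h1 : ∀ w : T, orderOf (Pi.mulSingle j w : Fin m → T) = orderOf w := fun w =>
        orderOf_injective (MonoidHom.mulSingle (fun _ : Fin m => T) j)
          (Pi.mulSingle_injective (M := fun _ : Fin m => T) j) w
      exact hab (by rw [← h1 a, ← h1 b, ← hφ, MulEquiv.orderOf_eq])
    rcases htwo _ _ _ (hout u hu) (hout v hv) (hout w hw) with h | h | h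
    · exact hdiff u v huv h
    · exact hdiff u w huw h
    · exact hdiff v w hvw h

end Pi

variable {G : Type*} [Group G] [Finite G] {Ω : Type*} [Fintype Ω] [MulAction G Ω] [FaithfulSMul G Ω]

/-- Among three derangements two are conjugate. -/
theorem two_classes (hκ : Nat.card {c : ConjClasses G // ∃ g : G, ConjClasses.mk g = c ∧ ∀ ω : Ω, g • ω ≠ ω} = 2)
    (x y z : G) (hx : ∀ ω : Ω, x • ω ≠ ω) (hy : ∀ ω : Ω, y • ω ≠ ω) (hz : ∀ ω : Ω, z • ω ≠ ω) :
    IsConj x y ∨ IsConj x z ∨ IsConj y z := by
  by_contra hcon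
  push Not at hcon
  obtain ⟨hxy, hxz, hyz⟩ := hcon
  let f : Fin 3 → {c : ConjClasses G // ∃ g : G, ConjClasses.mk g = c ∧ ∀ ω : Ω, g • ω ≠ ω} :=
    ![⟨_, x, rfl, hx⟩, ⟨_, y, rfl, hy⟩, ⟨_, z, rfl, hz⟩]
  have hf : Function.Injective f := by
    intro a b hab
    have := congrArg Subtype.val hab
    fin_cases a <;> fin_cases b <;> simp [f, ConjClasses.mk_eq_mk_iff_isConj] at this ⊢ <;>
      first
        | exact hxy this | exact hxz this | exact hyz this
        | exact hxy this.symm | exact hxz this.symm | exact hyz this.symm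
        | exact hxy (isConj_iff.2 this) | exact hxz (isConj_iff.2 this) | exact hyz (isConj_iff.2 this)
        | exact hxy (isConj_iff.2 this).symm | exact hxz (isConj_iff.2 this).symm | exact hyz (isConj_iff.2 this).symm
  haveI : Finite (ConjClasses G) := Quotient.finite _
  have := Nat.card_le_card_of_injective f hf
  rw [hκ, Nat.card_eq_fintype_card, Fintype.card_fin] at this
  omega

/-- The socle is abelian. -/
theorem isMulCommutative_minimal (hprim : IsPreprimitive G Ω) (hΩ : 2 ≤ Fintype.card Ω)
    (hnas : ¬ ∃ T : Subgroup G, T.Normal ∧ IsSimpleGroup T ∧ ¬ IsMulCommutative T ∧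
      Subgroup.centralizer (T : Set G) = ⊥)
    (hκ : Nat.card {c : ConjClasses G // ∃ g : G, ConjClasses.mk g = c ∧ ∀ ω : Ω, g • ω ≠ ω} = 2)
    (N : Subgroup G) [hNn : N.Normal] (hN : N ≠ ⊥)
    (hmin : ∀ M : Subgroup G, M.Normal → M ≤ N → M = ⊥ ∨ M = N) : IsMulCommutative N := by
  classical
  by_contra hnc
  haveI htr := CfsgLib.Perm.OneDerangementClass.isPretransitive_of_normal hprim N hN
  haveI : Nontrivial Ω := Fintype.one_lt_card_iff_nontrivial.1 (by omega)
  obtain ⟨a⟩ : Nonempty Ω := inferInstance
  by_cases hc : Subgroup.centralizer (N : Set G) = ⊥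
  · obtain ⟨T, iT, m, hT, hm, ⟨e⟩⟩ := CfsgLib.Perm.CharSimple.exists_iso_pi_of_minimal_normal N hN hmin
    letI := iT
    have hTnc : ¬ IsMulCommutative T := by
      intro h
      refine hnc ⟨⟨fun u v => e.injective ?_⟩⟩
      rw [map_mul, map_mul]
      funext i
      exact h.is_comm.comm _ _
    have hm2 : 2 ≤ m := by
      by_contra h
      obtain rfl : m = 1 := by omega
      refine hnas ⟨N, hNn, ?_, hnc, hc⟩
      let e1 : N ≃* T := e.trans (MulEquiv.piUnique fun _ : Fin 1 => T)
      haveI : Nontrivial N := N.nontrivial_iff_ne_bot.mpr hN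
      exact IsSimpleGroup.isSimpleGroup_of_surjective e1.symm.toMonoidHom e1.symm.surjective
    haveI : Nonempty (Fin m) := ⟨⟨0, by omega⟩⟩
    haveI : Finite (Fin m → T) := Finite.of_equiv N e.toEquiv
    haveI : Finite T := Finite.of_injective _ (Pi.mulSingle_injective (M := fun _ : Fin m => T)
      (Classical.arbitrary (Fin m)))
    let M : Subgroup (Fin m → T) := (stabilizer N a).map e.toMonoidHom
    have hmem : ∀ n : N, e n ∈ M ↔ n • a = a := by
      intro n
      constructor
      · rintro ⟨k, hk, hkn⟩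
        rw [← e.injective hkn]
        exact hk
      · exact fun h => ⟨n, h, rfl⟩
    refine pi_three hm2 hT hTnc M (fun h => ?_) fun x y z hx hy hz => ?_
    · obtain ⟨b, hb⟩ := exists_ne a
      obtain ⟨n, hn⟩ := exists_smul_eq N a b
      exact hb (hn.symm.trans ((hmem n).1 (h.symm ▸ Subgroup.mem_top _)))
    · have hder : ∀ x : Fin m → T, (∀ n, n⁻¹ * x * n ∉ M) → ∀ w : Ω, (e.symm x : G) • w ≠ w := by
        intro x hx w hw
        obtain ⟨k, rfl⟩ := exists_smul_eq N a w
        refine hx (e k) ?_
        rw [show (e k)⁻¹ * x * e k = e (k⁻¹ * e.symm x * k) by simp, hmem, mul_smul, mul_smul,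
          inv_smul_eq_iff]
        exact hw
      have key : ∀ x y : Fin m → T, IsConj (e.symm x : G) (e.symm y) → ∃ φ : MulAut (Fin m → T), φ x = y := by
        intro x y h
        obtain ⟨g, hg⟩ := isConj_iff.1 h
        refine ⟨(e.symm.trans (MulAut.conjNormal g)).trans e, ?_⟩
        show e (MulAut.conjNormal g (e.symm x)) = y
        rw [← e.apply_symm_apply y]
        congr 1
        exact Subtype.ext (by rw [MulAut.conjNormal_apply]; exact hg)
      rcases two_classes hκ _ _ _ (hder x hx) (hder y hy) (hder z hz) with h | h | h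
      · exact Or.inl (key x y h)
      · exact Or.inr (Or.inl (key x z h))
      · exact Or.inr (Or.inr (key y z h))
  · -- a second normal subgroup makes `N` regular
    haveI htrC := CfsgLib.Perm.OneDerangementClass.isPretransitive_of_normal hprim _ hc
    have hfree : ∀ n : N, n ≠ 1 → ∀ ω : Ω, (n : G) • ω ≠ ω := by
      intro n hn ω hω
      refine hn (Subtype.ext (eq_of_smul_eq_smul (α := Ω) fun z => ?_))
      obtain ⟨k, rfl⟩ := exists_smul_eq (Subgroup.centralizer (N : Set G)) ω z
      have h : (n : G) * k = k * n := Subgroup.mem_centralizer_iff.1 k.2 n n.2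
      rw [OneMemClass.coe_one, one_smul, Subgroup.smul_def, ← mul_smul, h, mul_smul, hω]
    have hns : ¬ Group.IsSolvable N := fun h => hnc (by
      obtain ⟨T, iT, m, hT, hm, ⟨e⟩⟩ := CfsgLib.Perm.CharSimple.exists_iso_pi_of_minimal_normal N hN hmin
      letI := iT
      let π : N →* T := (Pi.evalMonoidHom (fun _ : Fin m => T) ⟨0, hm⟩).comp e.toMonoidHom
      have hπ : Function.Surjective π := (Function.surjective_eval _).comp e.surjective
      haveI := h
      haveI := hT
      haveI : Group.IsSolvable T := solvable_of_surjective hπ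
      refine ⟨⟨fun u v => e.injective ?_⟩⟩
      rw [map_mul, map_mul]
      funext i
      exact IsSimpleGroup.comm_iff_isSolvable.2 inferInstance _ _)
    obtain ⟨u, v, w, huv, huw, hvw, hu, hv, hw⟩ := exists_three_orders N hns
    have ho : ∀ a b : N, IsConj (a : G) b → orderOf a = orderOf b := by
      intro a b h
      obtain ⟨g, hg⟩ := isConj_iff.1 h
      rw [← Subgroup.orderOf_coe a, ← Subgroup.orderOf_coe b, ← hg]
      exact ((MulAut.conj g).orderOf_eq (a : G)).symm
    rcases two_classes hκ _ _ _ (hfree u hu) (hfree v hv) (hfree w hw) with h | h | h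
    · exact huv (ho _ _ h)
    · exact huw (ho _ _ h)
    · exact hvw (ho _ _ h)

/-- The affine case. -/
theorem affine (hprim : IsPreprimitive G Ω) (hΩ : 2 ≤ Fintype.card Ω)
    (hκ : Nat.card {c : ConjClasses G // ∃ g : G, ConjClasses.mk g = c ∧ ∀ ω : Ω, g • ω ≠ ω} = 2)
    (N : Subgroup G) [hNn : N.Normal] (hN : N ≠ ⊥) (hab : IsMulCommutative N) (α : Ω) :
    (∀ ω : Ω, stabilizer N ω = ⊥) ∧
    (((∀ g : G, g ≠ 1 → Nat.card (fixedBy Ω g) ≤ 1) ∧ ¬ 2 ∣ Fintype.card Ω ∧
      2 * Nat.card (stabilizer G α) = Fintype.card Ω - 1) ∨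
    (IsMultiplyPretransitive G Ω 2 ∧ ∃ g : G, g ≠ 1 ∧ 2 ≤ Nat.card (fixedBy Ω g))) := by
  classical
  haveI : Fintype G := Fintype.ofFinite G
  haveI htr := CfsgLib.Perm.OneDerangementClass.isPretransitive_of_normal hprim N hN
  have hfree : ∀ n ∈ N, ∀ y : Ω, n • y = y → n = 1 := by
    intro n hn y hy
    refine eq_of_smul_eq_smul (α := Ω) fun z => ?_
    obtain ⟨k, rfl⟩ := exists_smul_eq N y z
    rw [one_smul, Subgroup.smul_def, ← mul_smul]
    have : n * (k : G) = (k : G) * n := congrArg Subtype.val (hab.is_comm.comm ⟨n, hn⟩ k)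
    rw [this, mul_smul, hy]
  have hder : ∀ n ∈ N, n ≠ 1 → ∀ y : Ω, n • y ≠ y := fun n hn h1 y hy => h1 (hfree n hn y hy)
  refine ⟨fun ω => (Subgroup.eq_bot_iff_forall _).2 fun n hn => Subtype.ext (hfree n n.2 ω (mem_stabilizer_iff.1 hn)), ?_⟩
  have hbij : ∀ c : Ω, Function.Bijective (fun n : N => n • c) := fun c => by
    refine ⟨fun u v huv => Subtype.ext ?_, fun y => exists_smul_eq N c y⟩
    refine (inv_mul_eq_one.1 (hfree _ (N.mul_mem (N.inv_mem v.2) u.2) c ?_)).symm
    rw [mul_smul, show (u : G) • c = (v : G) • c from huv, inv_smul_smul]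
  have hcardN : Nat.card N = Fintype.card Ω := by
    rw [Nat.card_congr (Equiv.ofBijective _ (hbij α)), Nat.card_eq_fintype_card]
  by_cases hone : ∀ x y : G, x ∈ N → x ≠ 1 → y ∈ N → y ≠ 1 → IsConj x y
  · -- one class inside `N`
    refine Or.inr ⟨is_two_pretransitive_iff.2 fun {a b c d} hab' hcd => ?_, ?_⟩
    · obtain ⟨k, hk⟩ := exists_smul_eq N a c
      obtain ⟨n1, hn1⟩ := exists_smul_eq N a b
      obtain ⟨n2, hn2⟩ := exists_smul_eq N a (k⁻¹ • d)
      have h1 : (n1 : G) ≠ 1 := fun h => hab' (by rw [← hn1, Subgroup.smul_def, h, one_smul])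
      have h2 : (n2 : G) ≠ 1 := by
        intro h
        rw [Subgroup.smul_def, h, one_smul, eq_inv_smul_iff, hk] at hn2
        exact hcd hn2
      obtain ⟨g, hg⟩ := isConj_iff.1 (hone _ _ n1.2 h1 n2.2 h2)
      obtain ⟨k', hk'⟩ := exists_smul_eq N a (g • a)
      set h : G := (k' : G)⁻¹ * g with hh
      have hha : h • a = a := by rw [hh, mul_smul, ← hk', Subgroup.smul_def, inv_smul_smul]
      have hhn : h * n1 = n2 * h := by
        have hc : (n2 : G) * (k' : G)⁻¹ = (k' : G)⁻¹ * n2 := congrArg Subtype.val (hab.is_comm.comm n2 k'⁻¹)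
        rw [hh, ← mul_assoc (n2 : G), hc, ← hg]
        group
      refine ⟨(k : G) * h, ?_, ?_⟩
      · rw [mul_smul, hha]; exact hk
      · rw [← hn1, Subgroup.smul_def, mul_smul, ← mul_smul h, hhn, mul_smul, hha,
          ← Subgroup.smul_def n2, hn2, ← Subgroup.smul_def, smul_inv_smul]
    · -- some derangement lies outside `N`, so some element fixes two points
      by_contra hcon
      push Not at hcon
      obtain ⟨d, hd, hdN⟩ : ∃ d : G, (∀ ω : Ω, d • ω ≠ ω) ∧ d ∉ N := by
        by_contra hh
        push Not at hh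
        obtain ⟨n0, hn0, hn01⟩ : ∃ n0 : G, n0 ∈ N ∧ n0 ≠ 1 := by
          obtain ⟨n, hn⟩ := Subgroup.ne_bot_iff_exists_ne_one.1 hN
          exact ⟨n, n.2, fun e => hn (Subtype.ext e)⟩
        haveI : Subsingleton {c : ConjClasses G // ∃ g : G, ConjClasses.mk g = c ∧ ∀ ω : Ω, g • ω ≠ ω} := by
          refine ⟨fun ⟨c, g, hg, hgd⟩ ⟨c', g', hg', hgd'⟩ => Subtype.ext ?_⟩
          show c = c'
          rw [← hg, ← hg', ConjClasses.mk_eq_mk_iff_isConj]
          refine hone _ _ (hh g hgd) ?_ (hh g' hgd') ?_
          · rintro rfl; exact hgd α (one_smul G α)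
          · rintro rfl; exact hgd' α (one_smul G α)
        rw [Nat.card_of_subsingleton (⟨_, n0, rfl, hder n0 hn0 hn01⟩ :
          {c : ConjClasses G // ∃ g : G, ConjClasses.mk g = c ∧ ∀ ω : Ω, g • ω ≠ ω})] at hκ
        omega
      haveI : IsPretransitive G Ω := hprim.toIsPretransitive
      have hsum : ∑ g : G, Nat.card (fixedBy Ω g) = Fintype.card G := by
        haveI : Subsingleton (Quotient (orbitRel G Ω)) := ⟨fun u v => by
          induction u using Quotient.inductionOn with | _ u => ?_
          induction v using Quotient.inductionOn with | _ v => ?_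
          exact Quotient.sound (exists_smul_eq G v u)⟩
        haveI : Unique (Quotient (orbitRel G Ω)) := uniqueOfSubsingleton ⟦α⟧
        have hsum := sum_card_fixedBy_eq_card_orbits_mul_card_group G Ω
        rw [Fintype.card_unique, one_mul] at hsum
        simpa [Nat.card_eq_fintype_card] using hsum
      let S : Finset G := (Finset.univ.filter fun g : G => g ∈ N).erase 1
      have hS : S.card + 1 = Fintype.card Ω := by
        rw [Finset.card_erase_add_one (by simp [N.one_mem]), ← hcardN, Nat.card_eq_fintype_card,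
          ← Fintype.card_subtype]
      let up : G → ℕ := fun g =>
        if g = 1 then Fintype.card Ω else if g ∈ S ∨ g = d then 0 else 1
      have hup : ∀ g : G, Nat.card (fixedBy Ω g) ≤ up g := by
        intro g
        simp only [up]
        split_ifs with h1 h2
        · rw [← Nat.card_eq_fintype_card]
          exact Nat.card_le_card_of_injective _ Subtype.val_injective
        · haveI : IsEmpty (fixedBy Ω g) := ⟨fun ⟨y, hy⟩ => by
            rcases h2 with h2 | h2
            · simp [S] at h2
              exact hder g h2.2 h1 y hy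
            · subst h2
              exact hd y hy⟩
          simp
        · exact Nat.le_of_lt_succ (hcon g h1)
      have hd1 : d ≠ 1 := by rintro rfl; exact hdN N.one_mem
      have htot : ∑ g : G, up g + 1 = Fintype.card G := by
        have hc : (insert (1 : G) (insert d S)).card = Fintype.card Ω + 1 := by
          rw [Finset.card_insert_of_notMem (by simp [S, hd1.symm]),
            Finset.card_insert_of_notMem (by simp [S, hdN])]
          omega
        rw [← Finset.sum_add_sum_compl (insert (1 : G) (insert d S)) up,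
          Finset.sum_insert (by simp [S, hd1.symm]), Finset.sum_eq_zero (s := insert d S),
          Finset.sum_congr rfl (s₂ := (insert (1 : G) (insert d S))ᶜ) (g := fun _ => 1), Finset.sum_const,
          smul_eq_mul, mul_one, Finset.card_compl, hc]
        · have : Fintype.card Ω + 1 ≤ Fintype.card G := hc ▸ Finset.card_le_univ _
          simp [up]
          omega
        · intro g hg
          simp at hg
          simp [up, hg.1, hg.2.1, hg.2.2]
        · intro g hg
          have hg1 : g ≠ 1 := by
            rintro rfl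
            simp [S, hd1.symm] at hg
          simp only [up, if_neg hg1]
          rw [if_pos]
          rcases Finset.mem_insert.1 hg with h | h
          · exact Or.inr h
          · exact Or.inl h
      have := Finset.sum_le_sum (fun g (_ : g ∈ (Finset.univ : Finset G)) => hup g)
      omega
  · -- two classes, both inside `N`
    push Not at hone
    obtain ⟨c, d, hc, hc1, hd, hd1, hcd⟩ := hone
    have hmem : ∀ g : G, (∀ ω : Ω, g • ω ≠ ω) → g ∈ N := by
      intro g hg
      rcases two_classes hκ c d g (hder c hc hc1) (hder d hd hd1) hg with h | h | h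
      · exact absurd h hcd
      all_goals
        obtain ⟨k, rfl⟩ := isConj_iff.1 h
        exact Subgroup.Normal.conj_mem hNn _ ‹_› k
    have hfix : ∀ g : G, g ≠ 1 → Nat.card (fixedBy Ω g) ≤ 1 := by
      by_contra hcon
      push Not at hcon
      obtain ⟨g0, hg0, hg02⟩ := hcon
      obtain ⟨⟨a, ha⟩, ⟨b, hb⟩, hne⟩ := Finite.one_lt_card_iff_nontrivial.1 hg02 |>.exists_pair_ne
      have hne' : a ≠ b := fun e => hne (Subtype.ext e)
      have hg0N : g0 ∉ N := fun h => hg0 (hfree g0 h a ha)
      haveI : IsPretransitive G Ω := hprim.toIsPretransitive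
      haveI : Subsingleton (Quotient (orbitRel G Ω)) := ⟨fun u v => by
        induction u using Quotient.inductionOn with | _ u => ?_
        induction v using Quotient.inductionOn with | _ v => ?_
        exact Quotient.sound (exists_smul_eq G v u)⟩
      haveI : Unique (Quotient (orbitRel G Ω)) := uniqueOfSubsingleton ⟦α⟧
      have hsum := sum_card_fixedBy_eq_card_orbits_mul_card_group G Ω
      rw [Fintype.card_unique, one_mul] at hsum
      let low : G → ℕ := fun g => if g ∈ N then (if g = 1 then Fintype.card Ω else 0) else 1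
      have hlow : ∑ g : G, low g = Fintype.card G := by
        rw [← Finset.sum_filter_add_sum_filter_not Finset.univ (fun g : G => g ∈ N) low]
        rw [Finset.sum_eq_single (1 : G)
          (fun g hg hg1 => by simp [low, (Finset.mem_filter.1 hg).2, hg1])
          (fun h => absurd (Finset.mem_filter.2 ⟨Finset.mem_univ _, N.one_mem⟩) h)]
        rw [Finset.sum_congr rfl (g := fun _ => 1)
          (fun g hg => by simp [low, (Finset.mem_filter.1 hg).2])]
        rw [show low 1 = Fintype.card Ω by simp [low], ← hcardN, Nat.card_eq_fintype_card, Fintype.card_subtype,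
          Finset.sum_const, smul_eq_mul, mul_one, Finset.card_filter_add_card_filter_not, Finset.card_univ]
      have hle : ∀ g : G, low g ≤ Fintype.card (fixedBy Ω g) := by
        intro g
        by_cases hg : g ∈ N
        · by_cases hg1 : g = 1
          · subst hg1
            simp [low]
          · simp [low, hg, hg1]
        · simp only [low, if_neg hg]
          obtain ⟨y, hy⟩ : ∃ y : Ω, g • y = y := by
            by_contra h
            push Not at h
            exact hg (hmem g h)
          exact Fintype.card_pos_iff.2 ⟨⟨y, hy⟩⟩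
      have hlt : ∑ g : G, low g < ∑ g : G, Fintype.card (fixedBy Ω g) := by
        refine Finset.sum_lt_sum (fun g _ => hle g) ⟨g0, Finset.mem_univ _, ?_⟩
        simp only [low, if_neg hg0N]
        exact Fintype.one_lt_card_iff.2 ⟨⟨a, ha⟩, ⟨b, hb⟩, hne⟩
      rw [hlow, hsum] at hlt
      exact lt_irrefl _ hlt
    -- a class in `N` is a regular orbit of the stabiliser
    have hclass : ∀ c : G, c ∈ N → c ≠ 1 → Nat.card {x : G // IsConj c x} = Nat.card (stabilizer G α) := by
      intro c hc hc1
      symm
      refine Nat.card_congr (Equiv.ofBijective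
        (fun h : stabilizer G α => (⟨(h : G) * c * (h : G)⁻¹, isConj_iff.2 ⟨h, rfl⟩⟩ : {x : G // IsConj c x}))
        ⟨fun u v huv => ?_, fun x => ?_⟩)
      · have he : (u : G) * c * (u : G)⁻¹ = (v : G) * c * (v : G)⁻¹ := congrArg Subtype.val huv
        refine Subtype.ext ?_
        by_contra hne
        set k : G := (v : G)⁻¹ * u with hk
        have hk1 : k ≠ 1 := fun e => hne (inv_mul_eq_one.1 e).symm
        have hkc : k * c = c * k := by
          calc k * c = (v : G)⁻¹ * ((u : G) * c * (u : G)⁻¹) * u := by rw [hk]; group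
            _ = (v : G)⁻¹ * ((v : G) * c * (v : G)⁻¹) * u := by rw [he]
            _ = c * k := by rw [hk]; group
        have hka : k • α = α := by
          rw [hk, mul_smul, mem_stabilizer_iff.1 u.2, inv_smul_eq_iff]
          exact (mem_stabilizer_iff.1 v.2).symm
        have h2 := hfix k hk1
        have : 1 < Nat.card (fixedBy Ω k) := Finite.one_lt_card_iff_nontrivial.2
          ⟨⟨α, hka⟩, ⟨c • α, show k • c • α = c • α by rw [← mul_smul, hkc, mul_smul, hka]⟩,
            fun e => hder c hc hc1 α (congrArg Subtype.val e).symm⟩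
        omega
      · obtain ⟨g, hg⟩ := isConj_iff.1 x.2
        obtain ⟨k, hk⟩ := exists_smul_eq N α (g • α)
        refine ⟨⟨(k : G)⁻¹ * g, ?_⟩, Subtype.ext ?_⟩
        · rw [mem_stabilizer_iff, mul_smul, ← hk, Subgroup.smul_def, inv_smul_smul]
        · show (k : G)⁻¹ * g * c * ((k : G)⁻¹ * g)⁻¹ = x
          have hx : (x : G) ∈ N := by rw [← hg]; exact Subgroup.Normal.conj_mem hNn c hc g
          have h2 : (x : G) * k = k * x := congrArg Subtype.val (hab.is_comm.comm ⟨x, hx⟩ k)
          calc (k : G)⁻¹ * g * c * ((k : G)⁻¹ * g)⁻¹ = (k : G)⁻¹ * (g * c * g⁻¹) * k := by group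
            _ = x := by rw [hg, mul_assoc, h2, inv_mul_cancel_left]
    have hcount : 2 * Nat.card (stabilizer G α) + 1 = Fintype.card Ω := by
      rw [← hcardN, two_mul]
      conv_lhs => arg 1; arg 1; rw [← hclass c hc hc1]
      conv_lhs => arg 1; arg 2; rw [← hclass d hd hd1]
      rw [Nat.card_eq_fintype_card, Nat.card_eq_fintype_card, Fintype.card_subtype, Fintype.card_subtype,
        ← Finset.card_union_of_disjoint, Nat.card_eq_fintype_card, Fintype.card_subtype,
        ← Finset.card_erase_add_one (s := Finset.univ.filter fun g : G => g ∈ N) (a := 1) (by simp [N.one_mem])]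
      · congr 2
        ext x
        simp only [Finset.mem_union, Finset.mem_filter, Finset.mem_univ, true_and, Finset.mem_erase]
        constructor
        · rintro (h | h) <;> obtain ⟨k, rfl⟩ := isConj_iff.1 h
          · exact ⟨fun e => hc1 (conj_eq_one_iff.1 e), Subgroup.Normal.conj_mem hNn c hc k⟩
          · exact ⟨fun e => hd1 (conj_eq_one_iff.1 e), Subgroup.Normal.conj_mem hNn d hd k⟩
        · rintro ⟨hx1, hx⟩
          rcases two_classes hκ c d x (hder c hc hc1) (hder d hd hd1) (hder x hx hx1) with h | h | h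
          · exact absurd h hcd
          · exact Or.inl h
          · exact Or.inr h
      · rw [Finset.disjoint_filter]
        intro x _ h1 h2
        exact hcd (h1.trans h2.symm)
    exact Or.inl ⟨hfix, by omega, by omega⟩

end CfsgLib.HallGen.TwoDerangements
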